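import Cfsg.Agent.Lib.Blocks.Sections
import Cfsg.Agent.Lib.Blocks.SectionContribution

/-!
# Local combinations of characters vanishing on the singular elements

Their values are divisible by the orders of the centralizers.
-/

set_option autoImplicit false
set_option linter.unusedSectionVars false

namespace CfsgLib.Blocks.FreeQuot

open Cfsg
open scoped ComplexConjugate CfsgLib.Char

variable {p : ℕ} {M : Ideal AlgInt} {G : Type*} [Group G] [Fintype G]

/-- The mean of a character over a translate of a subgroup of the centralizer is integral. -/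
theorem isIntegral_mean (η : IrrCharacter G) (y : G)
    (Q : Subgroup (Subgroup.centralizer ({y} : Set G))) [Fintype Q] :
    IsIntegral ℤ ((Nat.card Q : ℂ)⁻¹ *
      ∑ q : Q, (η : G → ℂ) (y * ((q : Subgroup.centralizer ({y} : Set G)) : G))) := by
  classical
  let := Fintype.ofFinite (Subgroup.centralizer ({y} : Set G))
  have hexp := Char.classFunction_expansion
    (isClassFunction_translate (x := y) (irr_classFunction η))
  have hval : ∀ c : Subgroup.centralizer ({y} : Set G), (η : G → ℂ) (y * (c : G)) =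
      ∑ ξ : IrrCharacter (Subgroup.centralizer ({y} : Set G)),
        classInner (fun k : Subgroup.centralizer ({y} : Set G) => (η : G → ℂ) (y * (k : G)))
          (ξ : Subgroup.centralizer ({y} : Set G) → ℂ) *
            (ξ : Subgroup.centralizer ({y} : Set G) → ℂ) c := fun c => by
    have h := congrFun hexp c
    simpa [Finset.sum_apply] using h
  rw [Finset.sum_congr rfl fun (q : Q) _ => hval _]
  simp only [Finset.mul_sum]
  rw [Finset.sum_comm]
  refine IsIntegral.sum _ fun ξ _ => ?_
  obtain ⟨n, hn⟩ := Char.exists_int_classInner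
    (Char.isGeneralized_restrict Q (Char.isGeneralized_of_isIrr ξ.2)) Char.isGeneralized_one
  rw [classInner] at hn
  simp only [map_one, mul_one] at hn
  rw [Finset.sum_congr rfl fun q _ => mul_left_comm _ _ _, ← Finset.mul_sum, ← Finset.mul_sum, hn]
  exact (classInner_translate η ξ).1.mul (isIntegral_algebraMap (R := ℤ) (A := ℂ) (x := n))

/-- A local combination vanishing on the singular elements is divisible by the centralizers. -/
theorem memLocalRing_div_centralizer (hM : IsPModular p M) (s : Finset (IrrCharacter G))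
    (a : IrrCharacter G → ℂ) (ha : ∀ η ∈ s, MemLocalRing M (a η))
    (h0 : ∀ g : G, ¬ IsPRegular p g → ∑ η ∈ s, a η * (η : G → ℂ) g = 0) (y : G) :
    MemLocalRing M ((∑ η ∈ s, a η * (η : G → ℂ) y) /
      (Nat.card (Subgroup.centralizer ({y} : Set G)) : ℂ)) := by
  classical
  have := isPrime_of_isPModular hM
  have : Fact p.Prime := ⟨hM.1⟩
  by_cases hy : IsPRegular p y
  swap
  · rw [h0 y hy, zero_div]; exact memLocalRing_zero
  set C := Subgroup.centralizer ({y} : Set G)
  set Q : Sylow p C := default
  let := Fintype.ofFinite (Q : Subgroup C)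
  have hsing : ∀ q : (Q : Subgroup C), q ≠ 1 → ¬ IsPRegular p (y * ((q : C) : G)) := by
    intro q hq1 hreg
    obtain ⟨j, hj⟩ := IsPGroup.iff_orderOf.mp Q.2 q
    have hcom : Commute ((q : C) : G) y := Subgroup.mem_centralizer_singleton_iff.mp (q : C).2
    have hpp : IsPPart p (((q : C) : G) * y) ((q : C) : G) :=
      isPPart_mul hcom ⟨j, by rw [Subgroup.orderOf_coe, Subgroup.orderOf_coe, hj]⟩ hy
    have h1 : IsPPart p (((q : C) : G) * y) 1 := ⟨_, one_mul _, Commute.one_left _, ⟨0, by simp⟩,
      by rwa [hcom.eq]⟩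
    exact hq1 (Subtype.ext (Subtype.ext (IsPPart.unique hM.1 hpp h1)))
  have hQ : (Nat.card (Q : Subgroup C) : ℂ) ≠ 0 := Nat.cast_ne_zero.mpr Nat.card_pos.ne'
  have hkey : (∑ η ∈ s, a η * (η : G → ℂ) y) / (Nat.card (Q : Subgroup C) : ℂ) =
      ∑ η ∈ s, a η * ((Nat.card (Q : Subgroup C) : ℂ)⁻¹ *
        ∑ q : (Q : Subgroup C), (η : G → ℂ) (y * ((q : C) : G))) := by
    simp only [Finset.mul_sum]
    rw [Finset.sum_comm, Finset.sum_eq_single_of_mem (1 : (Q : Subgroup C)) (Finset.mem_univ _)
      (fun q _ hq => ?_), Finset.sum_div]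
    · refine Finset.sum_congr rfl fun η _ => ?_
      rw [OneMemClass.coe_one, OneMemClass.coe_one, mul_one, div_eq_mul_inv]
      ring
    · have h := h0 _ (hsing q hq)
      rw [Finset.sum_congr rfl fun η _ => mul_left_comm _ _ _, ← Finset.mul_sum, h, mul_zero]
  have hu := (unit_natCast_div (a := Nat.card (Q : Subgroup C)) (b := Nat.card C) hM
    Nat.card_pos.ne' Nat.card_pos.ne' (by
      rw [Q.card_eq_multiplicity, Nat.Prime.factorization_pow hM.1, Finsupp.single_eq_same])).1
  have hC : (Nat.card C : ℂ) ≠ 0 := Nat.cast_ne_zero.mpr Nat.card_pos.ne'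
  rw [show (∑ η ∈ s, a η * (η : G → ℂ) y) / (Nat.card C : ℂ) =
    ((∑ η ∈ s, a η * (η : G → ℂ) y) / (Nat.card (Q : Subgroup C) : ℂ)) *
      ((Nat.card (Q : Subgroup C) : ℂ) / (Nat.card C : ℂ)) by field_simp, hkey]
  exact memLocalRing_mul (memLocalRing_sum _ _ fun η hη =>
    memLocalRing_mul (ha η hη) (memLocalRing_of_isIntegral (isIntegral_mean η y _))) hu

end CfsgLib.Blocks.FreeQuot
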