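import Cfsg.Agent.Lib.Blocks.FreeQuotient.Count
import Cfsg.Agent.Lib.Blocks.FreeQuotient.VanishDiv

/-!
# Perfect isometries from matching columns

A signed bijection between two blocks with abelian defect group and free inertial quotient which
matches the columns of the two families of subsections is a perfect isometry.
-/

set_option autoImplicit false
set_option linter.unusedSectionVars false

namespace CfsgLib.Blocks.FreeQuot

open Cfsg
open scoped ComplexConjugate CfsgLib.Char

variable {p : ℕ} {M : Ideal AlgInt} [M.IsPrime]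

section One

variable {G : Type*} [Group G] [Fintype G] {P : Subgroup G}
  {c : Set (IrrCharacter (Subgroup.centralizer (P : Set G)))} {B : Set (IrrCharacter G)}
  [DecidablePred (· ∈ B)]

/-- The members of a uniform block: `|b|` times a value is divisible by the centralizer. -/
theorem uni_divisible (hM : IsPModular p M) {K : Type*} [Group K] [Fintype K]
    {b : Set (IrrCharacter K)} (hb : IsPBlock M b) (hu : Uni p b) {ξ : IrrCharacter K} (hξ : ξ ∈ b)
    (y : K) (hy : IsPRegular p y) :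
    MemLocalRing M ((Nat.card b : ℂ) * (ξ : K → ℂ) y /
      (Nat.card (Subgroup.centralizer ({y} : Set K)) : ℂ)) := by
  classical
  have hdeg : ∀ η ∈ b, (η : K → ℂ) 1 = (ξ : K → ℂ) 1 := fun η hη =>
    hu η hη ξ hξ 1 (by simp [IsPRegular, hM.1.ne_one])
  have h := memLocalRing_div_centralizer hM (Finset.univ.filter (· ∈ b)) (fun _ => 1)
    (fun _ _ => memLocalRing_one) (fun g hg => ?_) y
  · convert h using 2
    rw [Finset.sum_congr rfl (g := fun _ => (ξ : K → ℂ) y) fun η hη => by
      rw [one_mul, hu η (Finset.mem_filter.mp hη).2 ξ hξ y hy],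
      Finset.sum_const, nsmul_eq_mul, Nat.card_eq_fintype_card, Fintype.card_subtype]
  · obtain ⟨a, ha, -⟩ := exists_isPPart hM.1 g
    have h1 := sum_block_eq_zero_of_not_isConj hM ha
      (show IsPPart p (1 : K) 1 from ⟨1, one_mul _, Commute.one_left _, ⟨0, by simp⟩,
        by simp [hM.1.ne_one]⟩)
      (fun hconj => hg (by
        obtain ⟨w, hw, -, -, hreg⟩ := ha
        rw [isConj_one_left.mp hconj, one_mul] at hw
        exact hw ▸ hreg)) hb
    rw [Finset.sum_congr rfl fun η hη => by rw [hdeg η (Finset.mem_filter.mp hη).2],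
      ← Finset.sum_mul, mul_eq_zero] at h1
    rcases h1 with h1 | h1
    · simpa using h1
    · exact absurd ((map_eq_zero_iff _ (RingHom.injective _)).mp h1) (Char.irr_degree_ne_zero ξ.2)

variable (hM : IsPModular p M) (hmax : IsMaximalBrauerPair p M B P c)
  (hab : ∀ x ∈ P, ∀ y ∈ P, x * y = y * x)
  (hfree : ∀ g ∈ blockT P c, ∀ x ∈ P, x ≠ 1 → g * x * g⁻¹ = x →
    g ∈ Subgroup.centralizer (P : Set G))
include hM hmax hab hfree

/-- A block at a `p`-element inducing `B` has the column of a representative. -/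
theorem exists_rep_of_induced {R : Finset G} (hR : IsReps P c R) {x : G}
    (hx : ∃ k : ℕ, orderOf x = p ^ k) (hx1 : x ≠ 1) [Fintype (cz x)]
    {b : Set (IrrCharacter (cz x))} (hb : IsInducedBlock M (cz x) b B) :
    ∃ r ∈ R, Uni p b ∧ Nat.card b = Nat.card P ∧
      ∀ χ : IrrCharacter G, dcol (cz x) x b (χ : G → ℂ) = col p M P c r χ := by
  classical
  have hpair := (isBrauerPairOf_iff_induced hM hx hb.1).mpr hb
  obtain ⟨h, hh⟩ := exists_conjPair_le_maximal hM hmax hpair
  set u := h * x * h⁻¹ with hudef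
  rw [conjPair_zpowers hudef.symm] at hh
  have huP : u ∈ P := PairLE.fst_le hh (Subgroup.mem_zpowers u)
  have hu1 : u ≠ 1 := fun he => hx1 (conj_eq_one_iff.mp he)
  let := Fintype.ofFinite (cz u)
  have hbu : conjSet h (cz x) (cz u) b = bk p M P c u :=
    eq_of_le_top hM hmax.1.1 hh (bk_le hM hmax.1.1 huP)
  obtain ⟨r, hr, y, hy, hyu⟩ := hR.ex u huP hu1
  obtain ⟨huni, hcard⟩ := bk_uni_card hM hmax hab hfree huP hu1
  have hiff : ∀ z, h * z * h⁻¹ ∈ cz u ↔ z ∈ cz x := fun z => cz_conj_iff _ _ _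
  refine ⟨r, hr, fun η hη η' hη' s hs => ?_, ?_, fun χ => ?_⟩
  · rw [← conjIrr_apply hiff η (c' := conjIso hiff s) rfl,
      ← conjIrr_apply hiff η' (c' := conjIso hiff s) rfl]
    refine huni _ ?_ _ ?_ _ ?_
    · rw [← hbu]; exact conjIrr_mem_conjSet hiff hη
    · rw [← hbu]; exact conjIrr_mem_conjSet hiff hη'
    · rw [IsPRegular, (conjIso hiff).orderOf_eq]; exact hs
  · rw [← hcard, ← hbu, conjSet_eq_image hiff]
    exact (Nat.card_image_of_injective (conjIrr_injective hiff) b).symm
  · rw [← col_blockT hM hmax.1.1 hy (hR.mem r hr).1 χ, hyu, col_eq, ← hbu]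
    exact (dcol_conj hiff x b (irr_classFunction χ)).symm

/-- The value at a singular element in the columns. -/
theorem value_span {R : Finset G} (hR : IsReps P c R) {g : G} (hg : ¬ IsPRegular p g) :
    ∃ a : G → ℂ, (∀ χ ∈ B, (χ : G → ℂ) g = ∑ r ∈ R, a r * col p M P c r χ) ∧
      ∀ r, IsIntegral ℤ (a r) ∧ MemLocalRing M ((Nat.card P : ℂ) * a r /
        (Nat.card (Subgroup.centralizer ({g} : Set G)) : ℂ)) := by
  classical
  obtain ⟨x, ⟨y, hxy, hcom, hx, hy⟩, -⟩ := exists_isPPart hM.1 g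
  have hx1 : x ≠ 1 := fun h => hg (by rw [← hxy, h, one_mul]; exact hy)
  have key : ∀ (K : Subgroup G) [Fintype K], K = Subgroup.centralizer ({x} : Set G) →
      ∀ yK : K, ¬ p ∣ orderOf yK → ∀ S : Finset (Set (IrrCharacter K)),
      (∀ b, b ∈ S ↔ IsInducedBlock M K b B) →
      (∀ χ ∈ B, (χ : G → ℂ) (x * (yK : G)) = ∑ b ∈ S, blockPart b (secFun K x (χ : G → ℂ)) yK) ∧
      Nat.card (Subgroup.centralizer ({x * (yK : G)} : Set G)) =
        Nat.card (Subgroup.centralizer ({yK} : Set K)) := by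
    intro K _ hK yK hyK S hS
    subst hK
    exact ⟨fun χ hχ => value_eq_sum_inducing_blocks hM hx hmax.1.2.1 hχ hyK S hS,
      card_centralizer_translate hM hx hyK⟩
  let := Fintype.ofFinite (cz x)
  set yK : cz x := ⟨y, mem_centralizer_zpowers hcom⟩
  have hyK : ¬ p ∣ orderOf yK := by rwa [← Subgroup.orderOf_coe]
  set S := (subBlocks M (cz x)).filter fun b => IsInducedBlock M (cz x) b B
  have hS : ∀ b, b ∈ S ↔ IsInducedBlock M (cz x) b B := fun b => by
    simp only [S, Finset.mem_filter, mem_subBlocks]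
    exact ⟨fun h => h.2, fun h => ⟨h.1, h⟩⟩
  obtain ⟨hval, hcen⟩ := key (cz x) (cz_eq x) yK hyK S hS
  rw [show x * (yK : G) = g from hxy] at hval hcen
  have hrep := fun b (hb : b ∈ S) => exists_rep_of_induced hM hmax hab hfree hR hx hx1 ((hS b).mp hb)
  choose! rb hrb huni hcard hcol using hrep
  have : Nonempty (IrrCharacter (cz x)) := ⟨trivIrr _⟩
  choose! ξ hξ using fun b (hb : b ∈ S) => IsPBlock.nonempty ((hS b).mp hb).1
  refine ⟨fun r => ∑ b ∈ S with rb b = r, (ξ b : cz x → ℂ) yK, fun χ hχ => ?_, fun r => ?_⟩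
  · rw [hval χ hχ, ← Finset.sum_fiberwise_of_maps_to (g := rb) (t := R) hrb]
    refine Finset.sum_congr rfl fun r _ => ?_
    rw [Finset.sum_mul]
    refine Finset.sum_congr rfl fun b hb => ?_
    obtain ⟨hb, hbr⟩ := Finset.mem_filter.mp hb
    rw [blockPart_secFun x (huni b hb) (hξ b hb) _ hyK, hcol b hb χ, hbr, mul_comm]
  · refine ⟨IsIntegral.sum _ fun b _ => irr_isIntegral (ξ b).2 _, ?_⟩
    rw [hcen, Finset.mul_sum, Finset.sum_div]
    refine memLocalRing_sum _ _ fun b hb => ?_
    obtain ⟨hb, -⟩ := Finset.mem_filter.mp hb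
    rw [← hcard b hb]
    exact uni_divisible hM ((hS b).mp hb).1 (huni b hb) (hξ b hb) yK hyK

/-- The columns against the values at a singular element. -/
theorem col_value {R : Finset G} (hR : IsReps P c R) {g : G} {a : G → ℂ}
    (ha : ∀ χ ∈ B, (χ : G → ℂ) g⁻¹ = ∑ r ∈ R, a r * col p M P c r χ) {u : G} (hu : u ∈ R) :
    ∑ χ : IrrCharacter G with χ ∈ B, col p M P c u χ * (χ : G → ℂ) g =
      (Nat.card P : ℂ) * conj (a u) := by
  classical
  have hval : ∀ χ : IrrCharacter G, χ ∈ B →
      (χ : G → ℂ) g = ∑ r ∈ R, conj (a r) * conj (col p M P c r χ) := fun χ hχ => by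
    rw [show (χ : G → ℂ) g = conj ((χ : G → ℂ) g⁻¹) by
      rw [← irr_value_inv χ.2, inv_inv], ha χ hχ, map_sum]
    simp only [map_mul]
  rw [Finset.sum_congr rfl fun χ hχ => by rw [hval χ (Finset.mem_filter.mp hχ).2, Finset.mul_sum],
    Finset.sum_comm, Finset.sum_eq_single_of_mem u hu fun r hr hne => ?_]
  · rw [← col_norm hM hmax hab hfree (hR.mem u hu).1 (hR.mem u hu).2, Finset.sum_mul]
    exact Finset.sum_congr rfl fun χ _ => by ring
  · rw [Finset.sum_congr rfl fun χ _ => mul_left_comm _ _ _, ← Finset.mul_sum,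
      col_orth hM hmax hab hfree (hR.mem u hu).1 (hR.mem u hu).2 (hR.mem r hr).1 (hR.mem r hr).2
        (fun y hy h => hne (hR.uniq u hu r hr ⟨y, hy, h⟩).symm), mul_zero]

end One

section Two

theorem regular_inv {K : Type*} [Group K] (p : ℕ) (g : K) : IsPRegular p g⁻¹ ↔ IsPRegular p g := by
  rw [IsPRegular, IsPRegular, orderOf_inv]

theorem sum_fibre {α β : Type*} [Fintype α] [Fintype β] [DecidableEq β] {A : Set α} {B : Set β}
    [DecidablePred (· ∈ A)] [DecidablePred (· ∈ B)] {I : α → β} (hI : Set.BijOn I A B)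
    (f : β → α → ℂ) :
    ∑ η : α with η ∈ A, f (I η) η = ∑ χ : β with χ ∈ B, ∑ η : α with η ∈ A ∧ I η = χ, f χ η := by
  rw [← Finset.sum_fiberwise_of_maps_to (g := I) (t := Finset.univ.filter (· ∈ B))
    (fun η hη => by simpa using hI.mapsTo (Finset.mem_filter.mp hη).2)]
  refine Finset.sum_congr rfl fun χ _ => ?_
  rw [Finset.filter_filter]
  exact Finset.sum_congr rfl fun η hη => by rw [(Finset.mem_filter.mp hη).2.2]

variable {G : Type*} [Group G] [Fintype G] {P : Subgroup G}
  {c : Set (IrrCharacter (Subgroup.centralizer (P : Set G)))} {B : Set (IrrCharacter G)}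
  {H : Type*} [Group H] [Fintype H] {P' : Subgroup H}
  {c' : Set (IrrCharacter (Subgroup.centralizer (P' : Set H)))} {B' : Set (IrrCharacter H)}

/-- A signed bijection matching the columns up to weights of absolute value one is a perfect
isometry. -/
theorem isPerfectIsometry_of_cols_weight [DecidablePred (· ∈ B)] [DecidablePred (· ∈ B')]
    (hM : IsPModular p M) (hmax : IsMaximalBrauerPair p M B P c)
    (hab : ∀ x ∈ P, ∀ y ∈ P, x * y = y * x)
    (hfree : ∀ g ∈ blockT P c, ∀ x ∈ P, x ≠ 1 → g * x * g⁻¹ = x →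
      g ∈ Subgroup.centralizer (P : Set G))
    (hmax' : IsMaximalBrauerPair p M B' P' c')
    (hab' : ∀ x ∈ P', ∀ y ∈ P', x * y = y * x)
    (hfree' : ∀ g ∈ blockT P' c', ∀ x ∈ P', x ≠ 1 → g * x * g⁻¹ = x →
      g ∈ Subgroup.centralizer (P' : Set H))
    {R : Finset G} (hR : IsReps P c R) {R' : Finset H} (hR' : IsReps P' c' R')
    {σ : H → G} (hσ : Set.BijOn σ R' R) {I : IrrCharacter H → IrrCharacter G}
    (hI : Set.BijOn I B' B) {ε : IrrCharacter H → ℤ} (hε : ∀ η ∈ B', ε η = 1 ∨ ε η = -1)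
    {m : H → ℂ} (hm : ∀ r ∈ R', IsIntegral ℤ (m r) ∧ m r * conj (m r) = 1)
    (hcols : ∀ r ∈ R', ∀ η ∈ B', (ε η : ℂ) * col p M P' c' r η = m r * col p M P c (σ r) (I η)) :
    IsPerfectIsometry p M B' B I ε := by
  classical
  refine ⟨hI, hε, fun x y => ?_⟩
  set μ := signedBijectionKernel B' I ε x y with hμ
  have hμ' : μ = ∑ η : IrrCharacter H with η ∈ B', (ε η : ℂ) * (I η : G → ℂ) x * (η : H → ℂ) y := by
    rw [hμ, signedBijectionKernel, sum_mem_eq_filter]
  have hbij : ∀ f : IrrCharacter G → ℂ, ∑ η : IrrCharacter H with η ∈ B', f (I η) =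
      ∑ χ : IrrCharacter G with χ ∈ B, f χ := fun f => by
    refine Finset.sum_bij (fun η _ => I η) (fun η hη => ?_) (fun a ha b hb h => ?_) (fun χ hχ => ?_)
      fun η _ => rfl
    · simpa using hI.mapsTo (Finset.mem_filter.mp hη).2
    · exact hI.injOn (Finset.mem_filter.mp ha).2 (Finset.mem_filter.mp hb).2 h
    · obtain ⟨η, hη, rfl⟩ := hI.surjOn (Finset.mem_filter.mp hχ).2
      exact ⟨η, by simpa using hη, rfl⟩
  have hεε : ∀ η ∈ B', (ε η : ℂ) * (ε η : ℂ) = 1 := fun η hη => by
    rcases hε η hη with h | h <;> simp [h]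
  have hcols' : ∀ r ∈ R', ∀ η ∈ B',
      col p M P' c' r η = (ε η : ℂ) * m r * col p M P c (σ r) (I η) := fun r hr η hη => by
    rw [mul_assoc, ← hcols r hr η hη, ← mul_assoc, hεε η hη, one_mul]
  have hloc : ∀ (η : IrrCharacter H), MemLocalRing M ((ε η : ℂ)) := fun η =>
    memLocalRing_of_isIntegral (isIntegral_algebraMap (R := ℤ) (A := ℂ) (x := ε η))
  -- a regular against a singular element
  have hzeroH : IsPRegular p x → ∀ z : H, ¬ IsPRegular p z →
      ∑ η : IrrCharacter H with η ∈ B', (ε η : ℂ) * (I η : G → ℂ) x * (η : H → ℂ) z = 0 := by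
    intro hx z hz
    obtain ⟨a, ha, -⟩ := value_span hM hmax' hab' hfree' hR' hz
    rw [Finset.sum_congr rfl fun η hη => by
      rw [ha η (Finset.mem_filter.mp hη).2, Finset.mul_sum], Finset.sum_comm]
    refine Finset.sum_eq_zero fun r hr => ?_
    rw [Finset.sum_congr rfl (g := fun η => a r * m r *
      (col p M P c (σ r) (I η) * (I η : G → ℂ) x)) fun η hη => by
      rw [show a r * m r * (col p M P c (σ r) (I η) * (I η : G → ℂ) x) =
        a r * (m r * col p M P c (σ r) (I η)) * (I η : G → ℂ) x by ring,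
        ← hcols r hr η (Finset.mem_filter.mp hη).2]
      ring, ← Finset.mul_sum,
      hbij fun χ => col p M P c (σ r) χ * (χ : G → ℂ) x]
    refine mul_eq_zero_of_right _ ?_
    have h := col_regular hM hmax hab hfree (hR.mem _ (hσ.mapsTo hr)).1 (hR.mem _ (hσ.mapsTo hr)).2
      ((regular_inv p x).mpr hx)
    rw [← h]
    exact Finset.sum_congr rfl fun χ _ => by rw [← irr_value_inv χ.2, inv_inv]
  have hzeroG : IsPRegular p y → ∀ z : G, ¬ IsPRegular p z →
      ∑ η : IrrCharacter H with η ∈ B', (ε η : ℂ) * (I η : G → ℂ) z * (η : H → ℂ) y = 0 := by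
    intro hy z hz
    obtain ⟨a, ha, -⟩ := value_span hM hmax hab hfree hR hz
    rw [Finset.sum_congr rfl fun η hη => by
      rw [ha (I η) (hI.mapsTo (Finset.mem_filter.mp hη).2), Finset.mul_sum, Finset.sum_mul],
      Finset.sum_comm]
    refine Finset.sum_eq_zero fun r hr => ?_
    obtain ⟨r', hr', rfl⟩ := hσ.surjOn hr
    rw [Finset.sum_congr rfl (g := fun η => a (σ r') * conj (m r') *
      (col p M P' c' r' η * (η : H → ℂ) y)) fun η hη => by
      rw [hcols' r' hr' η (Finset.mem_filter.mp hη).2]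
      linear_combination -((ε η : ℂ) * a (σ r') * col p M P c (σ r') (I η) * (η : H → ℂ) y) *
        (hm r' hr').2, ← Finset.mul_sum]
    refine mul_eq_zero_of_right _ ?_
    have h := col_regular hM hmax' hab' hfree' (hR'.mem _ hr').1 (hR'.mem _ hr').2
      ((regular_inv p y).mpr hy)
    rw [← h]
    exact Finset.sum_congr rfl fun χ _ => by rw [← irr_value_inv χ.2, inv_inv]
  -- both singular
  have hboth : ¬ IsPRegular p x → ¬ IsPRegular p y →
      MemLocalRing M (μ / (Nat.card (Subgroup.centralizer ({x} : Set G)) : ℂ)) ∧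
        MemLocalRing M (μ / (Nat.card (Subgroup.centralizer ({y} : Set H)) : ℂ)) := by
    intro hx hy
    obtain ⟨a, ha, haloc⟩ := value_span hM hmax hab hfree hR hx
    obtain ⟨b, hb, hbloc⟩ := value_span hM hmax' hab' hfree' hR' ((regular_inv p y).not.mpr hy)
    obtain ⟨a', ha', ha'loc⟩ := value_span hM hmax hab hfree hR ((regular_inv p x).not.mpr hx)
    obtain ⟨b', hb', hb'loc⟩ := value_span hM hmax' hab' hfree' hR' hy
    have h1 : μ = ∑ r ∈ R', a (σ r) * conj (m r) * ((Nat.card P' : ℂ) * conj (b r)) := by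
      rw [hμ', Finset.sum_congr rfl fun η hη => by
        rw [ha (I η) (hI.mapsTo (Finset.mem_filter.mp hη).2), Finset.mul_sum, Finset.sum_mul],
        Finset.sum_comm]
      refine (Finset.sum_bij (fun r' _ => σ r') (fun r' hr' => hσ.mapsTo hr')
        (fun _ ha _ hb h => hσ.injOn ha hb h) (fun r hr => ?_) fun r' hr' => ?_).symm
      · obtain ⟨r', hr', rfl⟩ := hσ.surjOn hr
        exact ⟨r', hr', rfl⟩
      · rw [← col_value hM hmax' hab' hfree' hR' hb hr', Finset.mul_sum]
        refine Finset.sum_congr rfl fun η hη => ?_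
        rw [hcols' r' hr' η (Finset.mem_filter.mp hη).2]
        linear_combination ((ε η : ℂ) * a (σ r') * col p M P c (σ r') (I η) * (η : H → ℂ) y) *
          (hm r' hr').2
    have h2 : μ = ∑ r ∈ R', b' r * m r * ((Nat.card P : ℂ) * conj (a' (σ r))) := by
      rw [hμ', Finset.sum_congr rfl fun η hη => by
        rw [hb' η (Finset.mem_filter.mp hη).2, Finset.mul_sum], Finset.sum_comm]
      refine Finset.sum_congr rfl fun r hr => ?_
      rw [← col_value hM hmax hab hfree hR ha' (hσ.mapsTo hr),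
        ← hbij fun χ => col p M P c (σ r) χ * (χ : G → ℂ) x, Finset.mul_sum]
      refine Finset.sum_congr rfl fun η hη => ?_
      rw [show b' r * m r * (col p M P c (σ r) (I η) * (I η : G → ℂ) x) =
        b' r * (m r * col p M P c (σ r) (I η)) * (I η : G → ℂ) x by ring,
        ← hcols r hr η (Finset.mem_filter.mp hη).2]
      ring
    have hcard : ∀ r ∈ R', (Nat.card P : ℂ) = (Nat.card P' : ℂ) := fun r hr => by
      rw [← col_norm hM hmax hab hfree (hR.mem _ (hσ.mapsTo hr)).1 (hR.mem _ (hσ.mapsTo hr)).2,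
        ← col_norm hM hmax' hab' hfree' (hR'.mem r hr).1 (hR'.mem r hr).2,
        ← hbij fun χ => col p M P c (σ r) χ * conj (col p M P c (σ r) χ)]
      refine Finset.sum_congr rfl fun η hη => ?_
      have hη' := (Finset.mem_filter.mp hη).2
      rw [hcols' r hr η hη', map_mul, map_mul, map_intCast]
      linear_combination -(col p M P c (σ r) (I η) * conj (col p M P c (σ r) (I η)) * m r *
        conj (m r)) * hεε η hη' - (col p M P c (σ r) (I η) * conj (col p M P c (σ r) (I η))) *
        (hm r hr).2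
    constructor
    · rw [h1, Finset.sum_div]
      refine memLocalRing_sum _ _ fun r hr => ?_
      rw [show a (σ r) * conj (m r) * ((Nat.card P' : ℂ) * conj (b r)) /
          (Nat.card (Subgroup.centralizer ({x} : Set G)) : ℂ) =
        ((Nat.card P : ℂ) * a (σ r) / (Nat.card (Subgroup.centralizer ({x} : Set G)) : ℂ)) *
          (conj (m r) * conj (b r)) by rw [hcard r hr]; ring]
      exact memLocalRing_mul (haloc _).2 (memLocalRing_of_isIntegral
        (((hm r hr).1.map (starRingEnd ℂ).toIntAlgHom).mul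
          ((hbloc r).1.map (starRingEnd ℂ).toIntAlgHom)))
    · rw [h2, Finset.sum_div]
      refine memLocalRing_sum _ _ fun r hr => ?_
      rw [show b' r * m r * ((Nat.card P : ℂ) * conj (a' (σ r))) /
          (Nat.card (Subgroup.centralizer ({y} : Set H)) : ℂ) =
        ((Nat.card P' : ℂ) * b' r / (Nat.card (Subgroup.centralizer ({y} : Set H)) : ℂ)) *
          (m r * conj (a' (σ r))) by rw [hcard r hr]; ring]
      exact memLocalRing_mul (hb'loc _).2 (memLocalRing_of_isIntegral
        ((hm r hr).1.mul ((ha'loc (σ r)).1.map (starRingEnd ℂ).toIntAlgHom)))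
  by_cases hx : IsPRegular p x
  · by_cases hy : IsPRegular p y
    · refine ⟨?_, ?_, Or.inl ⟨fun _ => hy, fun _ => hx⟩⟩
      · rw [hμ']
        have h := memLocalRing_div_centralizer hM (Finset.univ.filter (· ∈ B))
          (fun χ => ∑ η : IrrCharacter H with η ∈ B' ∧ I η = χ, (ε η : ℂ) * (η : H → ℂ) y)
          (fun χ _ => memLocalRing_sum _ _ fun η _ =>
            memLocalRing_mul (hloc η) (memLocalRing_of_isIntegral (irr_isIntegral η.2 _)))
          (fun z hz => ?_) x
        · convert h using 2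
          rw [sum_fibre hI fun χ η => (ε η : ℂ) * (χ : G → ℂ) x * (η : H → ℂ) y]
          refine Finset.sum_congr rfl fun χ _ => ?_
          rw [Finset.sum_mul]
          exact Finset.sum_congr rfl fun η _ => by ring
        · rw [← hzeroG hy z hz]
          rw [sum_fibre hI fun χ η => (ε η : ℂ) * (χ : G → ℂ) z * (η : H → ℂ) y]
          refine Finset.sum_congr rfl fun χ _ => ?_
          rw [Finset.sum_mul]
          exact Finset.sum_congr rfl fun η _ => by ring
      · rw [hμ']
        exact memLocalRing_div_centralizer hM _ _ (fun η _ => memLocalRing_mul (hloc η)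
          (memLocalRing_of_isIntegral (irr_isIntegral (I η).2 _))) (hzeroH hx) y
    · have h : μ = 0 := hμ'.trans (hzeroH hx y hy)
      simp [h, memLocalRing_zero]
  · by_cases hy : IsPRegular p y
    · have h : μ = 0 := hμ'.trans (hzeroG hy x hx)
      simp [h, memLocalRing_zero]
    · exact ⟨(hboth hx hy).1, (hboth hx hy).2, Or.inl ⟨fun h => absurd h hx, fun h => absurd h hy⟩⟩

/-- A signed bijection matching the columns is a perfect isometry. -/
theorem isPerfectIsometry_of_cols [DecidablePred (· ∈ B)] [DecidablePred (· ∈ B')]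
    (hM : IsPModular p M) (hmax : IsMaximalBrauerPair p M B P c)
    (hab : ∀ x ∈ P, ∀ y ∈ P, x * y = y * x)
    (hfree : ∀ g ∈ blockT P c, ∀ x ∈ P, x ≠ 1 → g * x * g⁻¹ = x →
      g ∈ Subgroup.centralizer (P : Set G))
    (hmax' : IsMaximalBrauerPair p M B' P' c')
    (hab' : ∀ x ∈ P', ∀ y ∈ P', x * y = y * x)
    (hfree' : ∀ g ∈ blockT P' c', ∀ x ∈ P', x ≠ 1 → g * x * g⁻¹ = x →
      g ∈ Subgroup.centralizer (P' : Set H))
    {R : Finset G} (hR : IsReps P c R) {R' : Finset H} (hR' : IsReps P' c' R')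
    {σ : H → G} (hσ : Set.BijOn σ R' R) {I : IrrCharacter H → IrrCharacter G}
    (hI : Set.BijOn I B' B) {ε : IrrCharacter H → ℤ} (hε : ∀ η ∈ B', ε η = 1 ∨ ε η = -1)
    (hcols : ∀ r ∈ R', ∀ η ∈ B', (ε η : ℂ) * col p M P' c' r η = col p M P c (σ r) (I η)) :
    IsPerfectIsometry p M B' B I ε :=
  isPerfectIsometry_of_cols_weight hM hmax hab hfree hmax' hab' hfree' hR hR' hσ hI hε
    (m := fun _ => 1) (fun _ _ => ⟨isIntegral_one, by simp⟩)
    fun r hr η hη => by rw [one_mul]; exact hcols r hr η hη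

end Two

end CfsgLib.Blocks.FreeQuot
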