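import Cfsg.Agent.Lib.Blocks.FreeQuotient.Shape
import Cfsg.Agent.Lib.Blocks.FreeQuotient.PerfectCols

/-!
# Perfect isometries between two blocks of the same shape

An isomorphism of the defect groups respecting the inertial quotients matches the exceptional
members and so gives a perfect isometry.
-/

set_option autoImplicit false
set_option linter.unusedSectionVars false

namespace CfsgLib.Blocks.FreeQuot

open Cfsg
open scoped ComplexConjugate CfsgLib.Char

variable {p : ℕ} {M : Ideal AlgInt} [M.IsPrime] {G : Type*} [Group G] [Fintype G] {P : Subgroup G}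
  {c : Set (IrrCharacter (Subgroup.centralizer (P : Set G)))} {B : Set (IrrCharacter G)}
  {H : Type*} [Group H] [Fintype H] {P' : Subgroup H}
  {c' : Set (IrrCharacter (Subgroup.centralizer (P' : Set H)))} {B' : Set (IrrCharacter H)}
  [DecidablePred (· ∈ B)] [DecidablePred (· ∈ B')] [Fintype P] [Fintype P']

/-- Transport of nontrivial linear characters. -/
noncomputable def ntCongr (φ : P ≃* P') : NTIrr P' ≃ NTIrr P where
  toFun lam := ⟨inflate φ.toMonoidHom φ.surjective lam.1, fun h => lam.2 (Subtype.ext (funext fun x => by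
    have := congrFun (congrArg Subtype.val h) (φ.symm x)
    simpa [inflate, trivIrr] using this))⟩
  invFun lam := ⟨inflate φ.symm.toMonoidHom φ.symm.surjective lam.1, fun h =>
    lam.2 (Subtype.ext (funext fun x => by
      have := congrFun (congrArg Subtype.val h) (φ x)
      simpa [inflate, trivIrr] using this))⟩
  left_inv lam := Subtype.ext (Subtype.ext (funext fun x => by simp [inflate]))
  right_inv lam := Subtype.ext (Subtype.ext (funext fun x => by simp [inflate]))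

theorem ntCongr_apply (φ : P ≃* P') (lam : NTIrr P') (u : P) :
    ((ntCongr φ lam).1 : P → ℂ) u = (lam.1 : P' → ℂ) (φ u) := rfl

open Classical in
/-- The isometry. -/
theorem exists_isometry_of_shapes (hM : IsPModular p M)
    (hmax : IsMaximalBrauerPair p M B P c) (hab : ∀ x ∈ P, ∀ y ∈ P, x * y = y * x)
    (hfree : ∀ g ∈ blockT P c, ∀ x ∈ P, x ≠ 1 → g * x * g⁻¹ = x →
      g ∈ Subgroup.centralizer (P : Set G))
    (hmax' : IsMaximalBrauerPair p M B' P' c') (hab' : ∀ x ∈ P', ∀ y ∈ P', x * y = y * x)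
    (hfree' : ∀ g ∈ blockT P' c', ∀ x ∈ P', x ≠ 1 → g * x * g⁻¹ = x →
      g ∈ Subgroup.centralizer (P' : Set H))
    {ω : P → ℂ} (hω : IsColWeight p M P c ω)
    {exc : Quotient (orbitSetoid (A := P) (inertAut P c)) ↪ {χ // χ ∈ B}} {δ : ℤ}
    {w : {χ // χ ∈ B} → ℤ} (S : IsShape p M P c B ω exc δ w)
    {ω' : P' → ℂ} (hω' : IsColWeight p M P' c' ω')
    {exc' : Quotient (orbitSetoid (A := P') (inertAut P' c')) ↪ {χ // χ ∈ B'}} {δ' : ℤ}
    {w' : {χ // χ ∈ B'} → ℤ} (S' : IsShape p M P' c' B' ω' exc' δ' w')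
    (φ : P ≃* P')
    (hE : ∀ v : MulAut P, v ∈ inertAut P c ↔ MulAut.congr φ v ∈ inertAut P' c') :
    ∃ (I : IrrCharacter H → IrrCharacter G) (ε : IrrCharacter H → ℤ),
      IsPerfectIsometry p M B' B I ε ∧ ∀ o, ε (exc' o).1 = δ * δ' := by
  let := fintypeOrbits (inertAut P c)
  let := Fintype.ofFinite (inertAut P c)
  let := Fintype.ofFinite (inertAut P' c')
  have habP : ∀ a b : P, a * b = b * a := fun a b => Subtype.ext (hab _ a.2 _ b.2)
  let eE : inertAut P c ≃ inertAut P' c' :=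
    (MulAut.congr φ).toEquiv.subtypeEquiv fun v => hE v
  have heE : ∀ (v : inertAut P c) (u : P), ((eE v : inertAut P' c') : MulAut P') (φ u) =
      φ ((v : MulAut P) u) := fun v u => by
    show φ ((v : MulAut P) (φ.symm (φ u))) = _
    rw [MulEquiv.symm_apply_apply]
  let Φ : Quotient (orbitSetoid (A := P') (inertAut P' c')) ≃
      Quotient (orbitSetoid (A := P) (inertAut P c)) :=
    Quotient.congr (ntCongr φ) fun a b => by
      constructor
      · rintro ⟨v, hv, h⟩
        refine ⟨(eE.symm ⟨v, hv⟩ : MulAut P), (eE.symm ⟨v, hv⟩).2, Subtype.ext (funext fun u => ?_)⟩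
        rw [twistIrr_apply, ntCongr_apply, ntCongr_apply, ← heE, Equiv.apply_symm_apply, ← h]
        rfl
      · rintro ⟨v, hv, h⟩
        refine ⟨(eE ⟨v, hv⟩ : MulAut P'), (eE ⟨v, hv⟩).2, Subtype.ext (funext fun x => ?_)⟩
        obtain ⟨u, rfl⟩ := φ.surjective x
        rw [twistIrr_apply, heE]
        exact congrFun (congrArg Subtype.val h) u
  have horb : ∀ o (u : P), orbChar c (Φ o) u = orbChar c' o (φ u) := by
    intro o u
    have hΦ : (Quotient.mk (orbitSetoid (A := P) (inertAut P c)) (ntCongr φ o.out)) = Φ o := by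
      conv_rhs => rw [← o.out_eq]
      rfl
    obtain ⟨t, ht, he⟩ := Quotient.exact (s := orbitSetoid (A := P) (inertAut P c))
      (hΦ.trans (Φ o).out_eq.symm)
    simp only [orbChar]
    refine Finset.sum_equiv (((Equiv.mulLeft (⟨t, ht⟩ : inertAut P c)).trans eE)) (by simp) ?_
    intro v _
    rw [← he]
    show ((ntCongr φ o.out).1 : P → ℂ) (t ((v : MulAut P) u)) =
      (o.out.1 : P' → ℂ) ((eE (⟨t, ht⟩ * v) : MulAut P') (φ u))
    rw [heE, ntCongr_apply]
    rfl
  have hcard : Nat.card {i : {χ // χ ∈ B'} // ∀ o, exc' o ≠ i} =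
      Nat.card {i : {χ // χ ∈ B} // ∀ o, exc o ≠ i} := by
    rw [S.card, S'.card]; exact (Nat.card_congr eE).symm
  have β : {i : {χ // χ ∈ B'} // ∀ o, exc' o ≠ i} ≃ {i : {χ // χ ∈ B} // ∀ o, exc o ≠ i} :=
    Classical.choice (Finite.card_eq.mp hcard)
  let I₀ : {χ // χ ∈ B'} → {χ // χ ∈ B} := fun η =>
    if h : ∀ o, exc' o ≠ η then (β ⟨η, h⟩).1
    else exc (Φ (_root_.not_forall_not.mp h).choose)
  have hI₀exc : ∀ o, I₀ (exc' o) = exc (Φ o) := fun o => by
    have h : ¬ ∀ o', exc' o' ≠ exc' o := fun h => h o rfl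
    simp only [I₀, dif_neg h]
    rw [exc'.injective (_root_.not_forall_not.mp h).choose_spec]
  have hI₀rest : ∀ η (h : ∀ o, exc' o ≠ η), I₀ η = (β ⟨η, h⟩).1 := fun η h => dif_pos h
  let ε₀ : {χ // χ ∈ B'} → ℤ := fun η =>
    if ∀ o, exc' o ≠ η then w' η * w (I₀ η) else δ * δ'
  have hbij : Function.Bijective I₀ := by
    refine ⟨fun a b h => ?_, fun χ => ?_⟩
    · by_cases ha : ∀ o, exc' o ≠ a
      · by_cases hb : ∀ o, exc' o ≠ b
        · rw [hI₀rest a ha, hI₀rest b hb] at h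
          exact congrArg Subtype.val (β.injective (Subtype.ext h))
        · push Not at hb
          obtain ⟨o, rfl⟩ := hb
          rw [hI₀rest a ha, hI₀exc] at h
          exact absurd h.symm ((β ⟨a, ha⟩).2 _)
      · push Not at ha
        obtain ⟨o, rfl⟩ := ha
        by_cases hb : ∀ o, exc' o ≠ b
        · rw [hI₀rest b hb, hI₀exc] at h
          exact absurd h ((β ⟨b, hb⟩).2 _)
        · push Not at hb
          obtain ⟨o', rfl⟩ := hb
          rw [hI₀exc, hI₀exc] at h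
          rw [Φ.injective (exc.injective h)]
    · by_cases hχ : ∀ o, exc o ≠ χ
      · obtain ⟨⟨η, hη⟩, he⟩ := β.surjective ⟨χ, hχ⟩
        exact ⟨η, by rw [hI₀rest η hη, he]⟩
      · push Not at hχ
        obtain ⟨o, rfl⟩ := hχ
        exact ⟨exc' (Φ.symm o), by rw [hI₀exc, Equiv.apply_symm_apply]⟩
  have hsq : ∀ z : ℤ, z = 1 ∨ z = -1 → (z : ℂ) * z = 1 := fun z hz => by
    rcases hz with rfl | rfl <;> simp
  have hvals : ∀ (η : {χ // χ ∈ B'}) (u : P), u ≠ 1 →
      (ε₀ η : ℂ) * (ω' (φ u) * col p M P' c' ((φ u : P') : H) η.1) =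
        ω u * col p M P c (u : G) (I₀ η).1 := by
    intro η u hu
    have hu' : φ u ≠ 1 := fun h => hu (φ.injective (h.trans (map_one φ).symm))
    by_cases hη : ∀ o, exc' o ≠ η
    · rw [show ε₀ η = w' η * w (I₀ η) from if_pos hη, S'.rest η hη _ hu',
        S.rest (I₀ η) (by rw [hI₀rest η hη]; exact (β ⟨η, hη⟩).2) u hu, Int.cast_mul]
      linear_combination (w (I₀ η) : ℂ) * hsq _ (S'.rest_sign η hη)
    · push Not at hη
      obtain ⟨o, rfl⟩ := hη
      rw [show ε₀ (exc' o) = δ * δ' from if_neg fun h => h o rfl, S'.exc_val o _ hu', hI₀exc,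
        S.exc_val (Φ o) u hu, horb, Int.cast_mul]
      linear_combination (δ : ℂ) * orbChar c' o (φ u) * hsq _ S'.sign
  let I : IrrCharacter H → IrrCharacter G := fun η =>
    if h : η ∈ B' then (I₀ ⟨η, h⟩).1 else trivIrr G
  let ε : IrrCharacter H → ℤ := fun η => if h : η ∈ B' then ε₀ ⟨η, h⟩ else 1
  have hI : Set.BijOn I B' B := by
    refine ⟨fun η hη => ?_, fun a ha b hb h => ?_, fun χ hχ => ?_⟩
    · simp only [I, dif_pos hη]; exact (I₀ _).2
    · simp only [I, dif_pos ha, dif_pos hb] at h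
      exact congrArg Subtype.val (hbij.1 (Subtype.ext h))
    · obtain ⟨⟨η, hη⟩, he⟩ := hbij.2 ⟨χ, hχ⟩
      exact ⟨η, hη, by simp only [I, dif_pos hη, he]⟩
  have hε : ∀ η ∈ B', ε η = 1 ∨ ε η = -1 := by
    intro η hη
    simp only [ε, dif_pos hη, ε₀]
    split_ifs with h
    · rcases S'.rest_sign _ h with h1 | h1 <;>
        rcases S.rest_sign (I₀ ⟨η, hη⟩) (by rw [hI₀rest _ h]; exact (β ⟨_, h⟩).2) with h2 | h2 <;>
        simp [h1, h2]
    · rcases S.sign with h1 | h1 <;> rcases S'.sign with h2 | h2 <;> simp [h1, h2]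
  obtain ⟨R, hR⟩ := exists_isReps (P := P) (c := c)
  obtain ⟨R', hR'⟩ := exists_isReps (P := P') (c := c')
  have hσex : ∀ r ∈ R', ∃ u : P, (u : G) ∈ R ∧ ∃ v ∈ inertAut P c, ((φ (v u) : P') : H) = r := by
    intro r hr
    set u' : P := φ.symm ⟨r, (hR'.mem r hr).1⟩ with hu'
    have hu1 : (u' : G) ≠ 1 := fun h => (hR'.mem r hr).2 (by
      have h' : u' = 1 := Subtype.ext h
      simpa [hu'] using h')
    obtain ⟨s, hs, y, hy, hyu⟩ := hR.ex u' u'.2 hu1
    refine ⟨⟨s, (hR.mem s hs).1⟩, hs, _, autT_mem hy, ?_⟩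
    rw [show autT P c ⟨y, hy⟩ ⟨s, (hR.mem s hs).1⟩ = u' from Subtype.ext hyu, hu',
      MulEquiv.apply_symm_apply]
  choose! σ₀ hσR v hv hvr using hσex
  let σ : H → G := fun r => (σ₀ r : G)
  have hσ : Set.BijOn σ R' R := by
    refine ⟨fun r hr => hσR r hr, fun a ha b hb h => ?_, fun s hs => ?_⟩
    · have h' : σ₀ a = σ₀ b := Subtype.ext h
      set t : inertAut P' c' := eE ⟨v b * (v a)⁻¹, mul_mem (hv b hb) (inv_mem (hv a ha))⟩
      obtain ⟨y, hy, hyv⟩ := exists_of_mem_inertAut t.2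
      refine hR'.uniq a ha b hb ⟨y, hy, ?_⟩
      rw [← hvr a ha, ← hyv, heE]
      refine Eq.trans ?_ (hvr b hb)
      congr 2
      show v b ((v a)⁻¹ (v a (σ₀ a))) = _
      rw [show (v a)⁻¹ (v a (σ₀ a)) = σ₀ a from (v a).symm_apply_apply _, h']
    · set s' : P := ⟨s, (hR.mem s hs).1⟩ with hs'
      have hs1 : ((φ s' : P') : H) ≠ 1 := fun h => (hR.mem s hs).2 (by
        have h' : s' = 1 := φ.injective ((Subtype.ext h : φ s' = 1).trans (map_one φ).symm)
        exact congrArg Subtype.val h')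
      obtain ⟨r, hr, y, hy, hyr⟩ := hR'.ex _ (φ s').2 hs1
      refine ⟨r, hr, ?_⟩
      set t : inertAut P c := eE.symm ⟨_, autT_mem hy⟩
      obtain ⟨z, hz, hzv⟩ := exists_of_mem_inertAut (mul_mem t.2 (hv r hr))
      refine hR.uniq _ (hσR r hr) s hs ⟨z, hz, ?_⟩
      rw [← hzv]
      show ((((t : MulAut P) (v r (σ₀ r)) : P)) : G) = (s' : G)
      congr 1
      apply φ.injective
      rw [← heE, Equiv.apply_symm_apply]
      exact Subtype.ext (by rw [autT_apply, hvr r hr, hyr])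
  let m : H → ℂ := fun r => if h : r ∈ R' then
    conj (ω' ⟨r, (hR'.mem r h).1⟩) * ω (σ₀ r) else 1
  refine ⟨I, ε, isPerfectIsometry_of_cols_weight hM hmax hab hfree hmax' hab' hfree' hR hR' hσ hI
    hε (m := m) (fun r hr => ?_) (fun r hr η hη => ?_), fun o => ?_⟩
  · have hr' : r ∈ R' := hr
    have h1 : (⟨r, (hR'.mem r hr).1⟩ : P') ≠ 1 := fun h =>
      (hR'.mem r hr).2 (congrArg Subtype.val h)
    have h2 : σ₀ r ≠ 1 := fun h => (hR.mem _ (hσR r hr)).2 (congrArg Subtype.val h)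
    simp only [m, dif_pos hr']
    refine ⟨((hω'.integral _).map (starRingEnd ℂ).toIntAlgHom).mul (hω.integral _), ?_⟩
    rw [map_mul, Complex.conj_conj]
    linear_combination (ω (σ₀ r) * conj (ω (σ₀ r))) * hω'.unit _ h1 + hω.unit _ h2
  · have hs1 : σ₀ r ≠ 1 := fun h => (hR.mem _ (hσR r hr)).2 (congrArg Subtype.val h)
    have hvs : v r (σ₀ r) ≠ 1 := fun h => hs1 ((v r).injective (h.trans (map_one (v r)).symm))
    have h := hvals ⟨η, hη⟩ (v r (σ₀ r)) hvs
    rw [show φ (v r (σ₀ r)) = (⟨r, (hR'.mem r hr).1⟩ : P') from Subtype.ext (hvr r hr),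
      hω.inv _ (hv r hr), col_inertAut hM hmax.1.1 (hv r hr)] at h
    simp only [m, dif_pos hr, ε, I, dif_pos hη, σ]
    have h1 := hω'.unit ⟨r, (hR'.mem r hr).1⟩ fun h =>
      (hR'.mem r hr).2 (congrArg Subtype.val h)
    linear_combination conj (ω' ⟨r, (hR'.mem r hr).1⟩) * h -
      ((ε₀ ⟨η, hη⟩ : ℂ) * col p M P' c' r η) * h1
  · simp only [ε, dif_pos (exc' o).2, Subtype.coe_eta, ε₀]
    exact if_neg fun h => h o rfl

end CfsgLib.Blocks.FreeQuot
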