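import Cfsg.Agent.Lib.Blocks.Sections
import Cfsg.Agent.Lib.Blocks.AbelianLocal
import Cfsg.Agent.S4437

/-!
# A height zero character has a part outside the maximal ideal in each inducing block
-/

set_option autoImplicit false
set_option linter.unusedSectionVars false

namespace CfsgLib.Blocks.FreeQuot

open Cfsg
open scoped ComplexConjugate CfsgLib.Char

variable {p : ℕ} {M : Ideal AlgInt} [M.IsPrime] {G : Type*} [Group G] [Fintype G]
  {B : Set (IrrCharacter G)}

/-- The part of the restriction of a height zero character in a block inducing its block is not in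
the maximal ideal at every regular element. -/
theorem exists_blockPart_notMem (hM : IsPModular p M) {K : Subgroup G} [Fintype K]
    {b : Set (IrrCharacter K)} (hb : IsInducedBlock M K b B) {χ : IrrCharacter G} (hχ : χ ∈ B)
    (h0 : blockHeight p B (χ : G → ℂ) = 0) :
    ∃ y : K, IsPRegular p y ∧
      ¬ MemLocalIdeal M (blockPart b (fun c : K => (χ : G → ℂ) (c : G)) y) := by
  classical
  by_contra hno
  push Not at hno
  set θ₀ : K → ℂ := fun c => (χ : G → ℂ) (c : G)
  have hθ₀ : IsClassFunction K θ₀ := fun c a => by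
    simpa only [θ₀, Subgroup.coe_mul, Subgroup.coe_inv] using
      irr_classFunction χ (c : G) (a : G)
  set Ψ : K → ℂ := blockPart b θ₀
  obtain ⟨ξ, hξ⟩ := IsPBlock.nonempty hb.1
  have hu := not_memLocalIdeal_omega_dualReg hM hb.2.1 hχ h0 hχ
  have hc := IsInducedBlock.omega_congr hb hξ hχ (f := dualReg p (χ : G → ℂ))
    (isClassFunction_dualReg (irr_classFunction χ)) (memLocalRing_dualReg χ)
  rw [dualReg_comp_subtype] at hc
  refine hu ((memLocalIdeal_iff_of_sub hc).mp ?_)
  have hlin : ∀ (s : Finset (IrrCharacter K)) (a : IrrCharacter K → ℂ),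
      dualReg p (∑ η ∈ s, a η • (η : K → ℂ)) = ∑ η ∈ s, a η • dualReg p (η : K → ℂ) := fun s a => by
    funext h
    by_cases hh : IsPRegular p h
    · simp [dualReg, regPart_of_regular hh, Finset.sum_apply]
    · simp [dualReg, regPart_of_singular hh, Finset.sum_apply]
  have hΨe : Ψ = ∑ η : IrrCharacter K with η ∈ b,
      classInner θ₀ (η : K → ℂ) • (η : K → ℂ) := by
    funext c
    show blockPart b θ₀ c = _
    rw [blockPart_eq_filter, Finset.sum_apply]
    exact Finset.sum_congr rfl fun η _ => rfl
  have heq : omega (ξ : K → ℂ) (dualReg p θ₀) = omega (ξ : K → ℂ) (dualReg p Ψ) := by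
    rw [hΨe]
    conv_lhs => rw [Char.classFunction_expansion hθ₀]
    rw [hlin, hlin, omega_sum, omega_sum]
    symm
    refine Finset.sum_subset (Finset.subset_univ _) fun η _ hη => ?_
    rw [omega_smul, omega_dualReg_eq_zero hM fun hs => hη (Finset.mem_filter.mpr ⟨Finset.mem_univ _,
      IsPBlock.mem_of_sameBlock hb.1 hξ (SameBlock.symm hs)⟩), mul_zero]
  show MemLocalIdeal M (omega (ξ : K → ℂ) (dualReg p θ₀))
  rw [heq]
  have : Fintype (ConjClasses K) := Fintype.ofFinite _
  have hΨc : IsClassFunction K Ψ := by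
    rw [hΨe]
    intro c a
    simp only [Finset.sum_apply, Pi.smul_apply,
      fun η : IrrCharacter K => irr_classFunction η c a]
  rw [omega_eq_sum_classes ξ (isClassFunction_dualReg hΨc)]
  refine memLocalIdeal_sum _ _ fun q _ => memLocalIdeal_mul_right ?_ (memLocalRing_centralChar ξ _)
  by_cases hq : IsPRegular p (Quotient.out q)
  · rw [dualReg, regPart_of_regular hq]
    exact hno _ (by rw [IsPRegular, orderOf_inv]; exact hq)
  · rw [dualReg, regPart_of_singular hq]
    exact memLocalIdeal_zero

/-- The block of a maximal pair of an abelian defect group induces. -/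
theorem induced_of_maximal (hM : IsPModular p M) {P : Subgroup G}
    {c : Set (IrrCharacter (Subgroup.centralizer (P : Set G)))}
    (hmax : IsMaximalBrauerPair p M B P c) (hab : ∀ x ∈ P, ∀ y ∈ P, x * y = y * x) :
    IsInducedBlock M (Subgroup.centralizer (P : Set G)) c B := by
  classical
  let := Fintype.ofFinite (Subgroup.centralizer (P : Set G))
  have hPC : P ≤ Subgroup.centralizer (P : Set G) := fun x hx y hy => hab y hy x hx
  obtain ⟨B', hB'⟩ := inducedBlockDefined_of_le_normalizer hM hmax.1.1.1 hPC le_rfl
    (Subgroup.centralizer_le_normalizer _) hmax.1.1.2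
  have hpair := Cfsg.Agent.S4437.isBrauerPairOf_of_induced hM hmax.1.1.1 hPC le_rfl
    (Subgroup.centralizer_le_normalizer _) hmax.1.1.2 hmax.1.1.2
    (fun t => blockCoeff_centralizer c t) hB'
  obtain rfl : B' = B := (existsUnique_isBrauerPairOf hM hmax.1.1).unique hpair hmax.1
  exact hB'

end CfsgLib.Blocks.FreeQuot
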