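import Cfsg.Agent.Lib.Blocks.SectionOrth
import Cfsg.Agent.Lib.Blocks.SectionContribution
import Cfsg.Agent.Lib.Blocks.PrincipalColumn

/-!
# The column of a subsection whose block has one Brauer character

If all members of a block `b` of the centralizer of `x` agree on the regular elements, the part of
the translate of `χ` in `b` is on the regular elements the number `dcol K x b χ` times a member.
-/

set_option autoImplicit false
set_option linter.unusedSectionVars false

namespace CfsgLib.Blocks.FreeQuot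

open Cfsg
open scoped ComplexConjugate CfsgLib.Char

variable {p : ℕ} {M : Ideal AlgInt} {G : Type*} [Group G] [Fintype G]

/-- All members agree on the regular elements. -/
def Uni (p : ℕ) {H : Type*} [Group H] (b : Set (IrrCharacter H)) : Prop :=
  ∀ η ∈ b, ∀ η' ∈ b, ∀ s : H, IsPRegular p s → (η : H → ℂ) s = (η' : H → ℂ) s

/-- The translate of `χ` by `x` on `K`. -/
def secFun (K : Subgroup G) (x : G) (χ : G → ℂ) : K → ℂ := fun c => χ (x * (c : G))

/-- The coefficient of the subsection. -/
noncomputable def dcol (K : Subgroup G) [Fintype K] (x : G) (b : Set (IrrCharacter K))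
    (χ : G → ℂ) : ℂ :=
  ∑ᶠ η ∈ b, classInner (secFun K x χ) (η : K → ℂ)

/-- The part of a translate at a regular element. -/
theorem blockPart_secFun {K : Subgroup G} [Fintype K] (x : G) {b : Set (IrrCharacter K)}
    (hu : Uni p b) {ξ : IrrCharacter K} (hξ : ξ ∈ b) (χ : G → ℂ) {s : K} (hs : IsPRegular p s) :
    blockPart b (secFun K x χ) s = dcol K x b χ * (ξ : K → ℂ) s := by
  classical
  rw [blockPart_eq_filter, dcol, sum_mem_eq_filter, Finset.sum_mul]
  exact Finset.sum_congr rfl fun η hη => by rw [hu η (Finset.mem_filter.mp hη).2 ξ hξ s hs]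

theorem regular_one (hM : IsPModular p M) {H : Type*} [Group H] : IsPRegular p (1 : H) := by
  simp [IsPRegular, hM.1.ne_one]

theorem blockPart_secFun_one (hM : IsPModular p M) {K : Subgroup G} [Fintype K] (x : G)
    {b : Set (IrrCharacter K)} (hu : Uni p b) {ξ : IrrCharacter K} (hξ : ξ ∈ b) (χ : G → ℂ) :
    blockPart b (secFun K x χ) 1 = dcol K x b χ * (charDegree (ξ : K → ℂ) : ℂ) := by
  rw [blockPart_secFun x hu hξ χ (regular_one hM), (irr_degree_eq ξ).1]

section Orth

variable (hM : IsPModular p M) {x : G} (hx : ∃ k : ℕ, orderOf x = p ^ k)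
  {B : Set (IrrCharacter G)} [DecidablePred (· ∈ B)] (hB : IsPBlock M B)
include hM hx hB

open Classical in
/-- The columns of the subsections at `x`. -/
theorem dcol_orth {K : Subgroup G} [Fintype K] (hK : K = Subgroup.centralizer ({x} : Set G))
    {b e : Set (IrrCharacter K)} (hb : IsInducedBlock M K b B) (he : IsPBlock M e)
    (hub : Uni p b) (hue : Uni p e) :
    ∑ χ : IrrCharacter G with χ ∈ B, dcol K x b (χ : G → ℂ) * conj (dcol K x e (χ : G → ℂ)) =
      if b = e then (Nat.card b : ℂ) else 0 := by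
  subst hK
  have := isPrime_of_isPModular hM
  obtain ⟨ξ, hξ⟩ := IsPBlock.nonempty hb.1
  obtain ⟨ζ, hζ⟩ := IsPBlock.nonempty he
  have h1 : ¬ p ∣ orderOf (1 : Subgroup.centralizer ({x} : Set G)) := regular_one hM
  have h := sum_blockPart_mul_conj_blockPart hM hx hB hb he h1 h1
  have hne : (charDegree (ξ : Subgroup.centralizer ({x} : Set G) → ℂ) : ℂ) * (charDegree (ζ : Subgroup.centralizer ({x} : Set G) → ℂ) : ℂ) ≠ 0 :=
    mul_ne_zero (Nat.cast_ne_zero.mpr (irr_degree_eq ξ).2.ne')
      (Nat.cast_ne_zero.mpr (irr_degree_eq ζ).2.ne')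
  refine mul_right_cancel₀ hne ?_
  rw [Finset.sum_mul]
  refine Eq.trans (Eq.trans (Finset.sum_congr rfl fun χ _ => ?_) h) ?_
  · show _ = blockPart b (secFun _ x (χ : G → ℂ)) 1 * conj (blockPart e (secFun _ x (χ : G → ℂ)) 1)
    rw [blockPart_secFun_one hM x hub hξ, blockPart_secFun_one hM x hue hζ, map_mul, map_natCast]
    ring
  by_cases hbe : b = e
  · subst hbe
    rw [if_pos rfl, Finset.sum_congr rfl fun η hη => by
      rw [hub η (Finset.mem_filter.mp hη).2.1 ξ hξ 1 (regular_one hM), (irr_degree_eq ξ).1,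
        map_natCast],
      Finset.sum_const, nsmul_eq_mul]
    have hd : (charDegree (ζ : Subgroup.centralizer ({x} : Set G) → ℂ) : ℂ) = (charDegree (ξ : Subgroup.centralizer ({x} : Set G) → ℂ) : ℂ) := by
      rw [← (irr_degree_eq ζ).1, ← (irr_degree_eq ξ).1, hub ζ hζ ξ hξ 1 (regular_one hM)]
    rw [hd, Nat.card_eq_fintype_card]
    congr 2
    rw [Fintype.card_subtype]
    congr 1
    ext η
    simp
  · rw [if_neg hbe, zero_mul]
    refine Finset.sum_eq_zero fun η hη => absurd ?_ hbe
    obtain ⟨h2, h3⟩ := (Finset.mem_filter.mp hη).2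
    exact IsPBlock.eq_of_mem_of_mem hb.1 he h2 h3

/-- The column against the values at an element of another section. -/
theorem dcol_orth_value {K : Subgroup G} [Fintype K] (hK : K = Subgroup.centralizer ({x} : Set G))
    {b : Set (IrrCharacter K)} (hb : IsPBlock M b) (hub : Uni p b) {h a : G} (hh : IsPPart p h a)
    (hne : ¬ IsConj x a) :
    ∑ χ : IrrCharacter G with χ ∈ B, dcol K x b (χ : G → ℂ) * conj ((χ : G → ℂ) h) = 0 := by
  classical
  subst hK
  have := isPrime_of_isPModular hM
  obtain ⟨ξ, hξ⟩ := IsPBlock.nonempty hb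
  refine mul_right_cancel₀ (Nat.cast_ne_zero.mpr (irr_degree_eq ξ).2.ne' :
    (charDegree (ξ : Subgroup.centralizer ({x} : Set G) → ℂ) : ℂ) ≠ 0) ?_
  rw [zero_mul, Finset.sum_mul]
  set θ : Subgroup.centralizer ({x} : Set G) → ℂ := fun k =>
    ∑ χ : IrrCharacter G with χ ∈ B, (χ : G → ℂ) (x * (k : G)) * conj ((χ : G → ℂ) h)
  have hθ : ∀ χ : IrrCharacter G, IsClassFunction (Subgroup.centralizer ({x} : Set G))
      (fun k : Subgroup.centralizer ({x} : Set G) => (χ : G → ℂ) (x * (k : G))) :=
    fun χ => isClassFunction_translate (x := x) (irr_classFunction χ)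
  have hc : IsClassFunction (Subgroup.centralizer ({x} : Set G)) θ := fun k a =>
    Finset.sum_congr rfl fun χ _ => by have := hθ χ k a; beta_reduce at this; rw [this]
  have h0 := blockPart_eq_zero_of_regular_zero hM hb (θ := θ) (fun k hk => by
    refine sum_block_eq_zero_of_not_isConj hM ?_ hh hne hB
    exact isPPart_mul (Subgroup.mem_centralizer_singleton_iff.mp k.2).symm hx (by
      rw [Subgroup.orderOf_coe]; exact hk)) (y := 1) (regular_one hM)
  rw [blockPart_eq_sum b hc] at h0
  rw [← h0]
  simp only [θ, Finset.mul_sum]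
  rw [Finset.sum_comm]
  refine Finset.sum_congr rfl fun χ _ => ?_
  rw [show dcol _ x b (χ : G → ℂ) * conj ((χ : G → ℂ) h) * (charDegree (ξ : Subgroup.centralizer ({x} : Set G) → ℂ) : ℂ) =
    blockPart b (secFun _ x (χ : G → ℂ)) 1 * conj ((χ : G → ℂ) h) by
      rw [blockPart_secFun_one hM x hub hξ]; ring]
  show blockPart b (fun c : Subgroup.centralizer ({x} : Set G) => (χ : G → ℂ) (x * (c : G))) 1 * _ = _
  rw [blockPart_eq_sum b (hθ χ), Finset.sum_mul]
  exact Finset.sum_congr rfl fun k _ => mul_assoc _ _ _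

/-- The column against the regular values. -/
theorem dcol_orth_regular {K : Subgroup G} [Fintype K]
    (hK : K = Subgroup.centralizer ({x} : Set G))
    {b : Set (IrrCharacter K)} (hb : IsPBlock M b) (hub : Uni p b) (hx1 : x ≠ 1) {g : G}
    (hg : IsPRegular p g) :
    ∑ χ : IrrCharacter G with χ ∈ B, dcol K x b (χ : G → ℂ) * conj ((χ : G → ℂ) g) = 0 := by
  refine dcol_orth_value hM hx hB hK hb hub (a := 1) ?_ fun h => hx1 ?_
  · exact ⟨g, one_mul g, Commute.one_left g, ⟨0, by simp⟩, hg⟩
  · exact isConj_one_left.mp h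

/-- The columns of subsections at elements which are not conjugate. -/
theorem dcol_orth_other {K K' : Subgroup G} [Fintype K] [Fintype K']
    (hK : K = Subgroup.centralizer ({x} : Set G)) {x' : G} (hx' : ∃ k : ℕ, orderOf x' = p ^ k)
    (hK' : K' = Subgroup.centralizer ({x'} : Set G))
    {b : Set (IrrCharacter K)} (hb : IsPBlock M b) (hub : Uni p b)
    {b' : Set (IrrCharacter K')} (hb' : IsPBlock M b') (hub' : Uni p b') (hne : ¬ IsConj x x') :
    ∑ χ : IrrCharacter G with χ ∈ B, dcol K x b (χ : G → ℂ) * conj (dcol K' x' b' (χ : G → ℂ)) = 0 := by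
  classical
  have := isPrime_of_isPModular hM
  subst hK'
  obtain ⟨ξ, hξ⟩ := IsPBlock.nonempty hb'
  refine (map_eq_zero_iff (starRingEnd ℂ) (RingHom.injective _)).mp ?_
  refine mul_right_cancel₀ (Nat.cast_ne_zero.mpr (irr_degree_eq ξ).2.ne' :
    (charDegree (ξ : Subgroup.centralizer ({x'} : Set G) → ℂ) : ℂ) ≠ 0) ?_
  rw [zero_mul, map_sum, Finset.sum_mul]
  set θ : Subgroup.centralizer ({x'} : Set G) → ℂ := fun k =>
    ∑ χ : IrrCharacter G with χ ∈ B, conj (dcol K x b (χ : G → ℂ)) * (χ : G → ℂ) (x' * (k : G))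
  have hθ : ∀ χ : IrrCharacter G, IsClassFunction (Subgroup.centralizer ({x'} : Set G))
      (fun k : Subgroup.centralizer ({x'} : Set G) => (χ : G → ℂ) (x' * (k : G))) :=
    fun χ => isClassFunction_translate (x := x') (irr_classFunction χ)
  have hc : IsClassFunction (Subgroup.centralizer ({x'} : Set G)) θ := fun k a =>
    Finset.sum_congr rfl fun χ _ => by have := hθ χ k a; beta_reduce at this; rw [this]
  have h0 := blockPart_eq_zero_of_regular_zero hM hb' (θ := θ) (fun k hk => by
    have h := dcol_orth_value hM hx hB hK hb hub (h := x' * (k : G)) (a := x')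
      (isPPart_mul (Subgroup.mem_centralizer_singleton_iff.mp k.2).symm hx' (by
        rw [Subgroup.orderOf_coe]; exact hk)) hne
    have h' := congrArg conj h
    simpa [θ, map_sum, map_mul] using h') (y := 1) (regular_one hM)
  rw [blockPart_eq_sum b' hc] at h0
  rw [← h0]
  simp only [θ, Finset.mul_sum]
  rw [Finset.sum_comm]
  refine Finset.sum_congr rfl fun χ _ => ?_
  rw [map_mul, Complex.conj_conj, mul_assoc, ← blockPart_secFun_one hM x' hub' hξ]
  show _ * blockPart b' (fun c : Subgroup.centralizer ({x'} : Set G) =>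
    (χ : G → ℂ) (x' * (c : G))) 1 = _
  rw [blockPart_eq_sum b' (hθ χ), Finset.mul_sum]
  exact Finset.sum_congr rfl fun k _ => mul_left_comm _ _ _

end Orth

/-- As a function of the powers of `x` the coefficient is a character. -/
theorem exists_character_dcol {x : G} {K : Subgroup G} [Fintype K]
    (hK : K = Subgroup.centralizer ({x} : Set G)) (b : Set (IrrCharacter K)) (χ : IrrCharacter G) :
    ∃ F : Subgroup.zpowers x → ℂ, IsCharacter (Subgroup.zpowers x) F ∧
      ∀ v : Subgroup.zpowers x, F v = dcol K (v : G) b (χ : G → ℂ) := by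
  classical
  subst hK
  obtain ⟨m, hm⟩ := Char.exists_multiplicities
    (Char.isCharacter_restrict (Subgroup.centralizer ({x} : Set G)) (Char.isCharacter_of_isIrr χ.2))
  refine ⟨fun v => ∑ η : IrrCharacter (Subgroup.centralizer ({x} : Set G)) with η ∈ b,
    (m η : ℂ) * (centralScalar x η v : ℂ), ?_, fun v => ?_⟩
  · have h := Char.isCharacter_sum (Finset.univ.filter (· ∈ b)) (fun η => fun v : Subgroup.zpowers x =>
      (m η : ℂ) * (centralScalar x η v : ℂ)) fun η _ =>
        Char.isCharacter_natCast_smul (isCharacter_units_hom (centralScalar x η)) (m η)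
    convert h using 1
    funext v
    simp [Finset.sum_apply]
  · rw [dcol, sum_mem_eq_filter]
    refine Finset.sum_congr rfl fun η _ => ?_
    have hθ : secFun (Subgroup.centralizer ({x} : Set G)) (v : G) (χ : G → ℂ) =
        ∑ ψ : IrrCharacter (Subgroup.centralizer ({x} : Set G)),
          ((m ψ : ℂ) * (centralScalar x ψ v : ℂ)) • (ψ : Subgroup.centralizer ({x} : Set G) → ℂ) := by
      funext c
      have h := congrFun hm (c * zpowersToCentralizer x v)
      simp only [Finset.sum_apply, Pi.smul_apply, smul_eq_mul, centralScalar_mul] at h ⊢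
      rw [secFun, show (χ : G → ℂ) ((v : G) * (c : G)) =
          (χ : G → ℂ) (((c * zpowersToCentralizer x v :
          Subgroup.centralizer ({x} : Set G)) : G)) by
        refine congrArg (χ : G → ℂ) ?_
        obtain ⟨k, hk⟩ := Subgroup.mem_zpowers_iff.mp v.2
        show (v : G) * (c : G) = (c : G) * (v : G)
        rw [← hk]
        exact ((show Commute (c : G) x from
          Subgroup.mem_centralizer_singleton_iff.mp c.2).zpow_right k).eq.symm, h]
      exact Finset.sum_congr rfl fun ψ _ => by ring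
    rw [hθ, Char.classInner_sum_smul_irr]

end CfsgLib.Blocks.FreeQuot
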