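import Cfsg.Agent.Lib.Blocks.FreeQuotient.IdemVanishing
import Cfsg.Agent.Lib.Blocks.FreeQuotient.Column

/-!
# The trace of a character on an idempotent of the centralizer of a subsection

For an idempotent `j` of a block `b` with one Brauer character of a subgroup `L` centralizing `v`,
the trace of `χ` at `v` on `j` is the coefficient of the subsection times a number.
-/

set_option autoImplicit false
set_option linter.unusedSectionVars false

namespace CfsgLib.Blocks.FreeQuot

open Cfsg CfsgLib.GrpRing
open scoped ComplexConjugate CfsgLib.Char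

variable {p : ℕ} {M : Ideal AlgInt} [M.IsPrime] {G : Type*} [Group G] [Fintype G]

/-- A product of elements supported in a subgroup. -/
theorem coeff_mul_supported {R : Type*} [CommRing R] {L : Subgroup G} [Fintype L]
    {a b : MonoidAlgebra R G} (ha : ∀ g ∉ L, a.coeff g = 0) (h : L) :
    (a * b).coeff (h : G) =
      ((ofFun fun z : L => a.coeff (z : G)) * ofFun fun z : L => b.coeff (z : G)).coeff h := by
  classical
  rw [coeff_mul_fintype, coeff_mul_fintype]
  symm
  refine Fintype.sum_of_injective Subtype.val Subtype.val_injective _ _ (fun y hy => ?_) fun y => ?_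
  · rw [ha y fun hm => hy ⟨⟨y, hm⟩, rfl⟩, zero_mul]
  · rw [coeff_ofFun, coeff_ofFun]
    rfl

/-- A product of elements supported in a subgroup is supported there. -/
theorem coeff_mul_eq_zero {R : Type*} [CommRing R] {L : Subgroup G}
    {a b : MonoidAlgebra R G} (ha : ∀ g ∉ L, a.coeff g = 0) (hb : ∀ g ∉ L, b.coeff g = 0)
    {g : G} (hg : g ∉ L) : (a * b).coeff g = 0 := by
  classical
  rw [coeff_mul_fintype]
  refine Finset.sum_eq_zero fun y _ => ?_
  by_cases hy : y ∈ L
  · rw [hb _ fun hm => hg (by simpa using mul_mem hy hm), mul_zero]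
  · rw [ha y hy, zero_mul]

open Classical in
/-- An element of the group ring of a subgroup in the group ring of the group. -/
noncomputable def push {R : Type*} [CommRing R] (L : Subgroup G) (a : MonoidAlgebra R L) :
    MonoidAlgebra R G := ofFun fun g => if h : g ∈ L then a.coeff ⟨g, h⟩ else 0

theorem coeff_push_mem {R : Type*} [CommRing R] {L : Subgroup G} (a : MonoidAlgebra R L) (h : L) :
    (push L a).coeff (h : G) = a.coeff h := by
  simp [push, coeff_ofFun, h.2]

theorem coeff_push_notMem {R : Type*} [CommRing R] {L : Subgroup G} (a : MonoidAlgebra R L) {g : G}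
    (hg : g ∉ L) : (push L a).coeff g = 0 := by
  simp [push, coeff_ofFun, hg]

theorem isIdempotentElem_push {R : Type*} [CommRing R] {L : Subgroup G} [Fintype L]
    {a : MonoidAlgebra R L} (ha : IsIdempotentElem a) : IsIdempotentElem (push L a) := by
  refine MonoidAlgebra.ext (Finsupp.ext fun g => ?_)
  by_cases hg : g ∈ L
  · lift g to L using hg
    have e : (ofFun fun z : L => (push L a).coeff (z : G)) = a :=
      MonoidAlgebra.ext (Finsupp.ext fun z => by rw [coeff_ofFun, coeff_push_mem])
    rw [coeff_mul_supported (fun z hz => coeff_push_notMem a hz), coeff_push_mem, e, ha.eq]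
  · rw [coeff_mul_eq_zero (fun z hz => coeff_push_notMem a hz)
      (fun z hz => coeff_push_notMem a hz) hg, coeff_push_notMem a hg]

/-- The coefficient times a number. -/
theorem exists_trace_idem (hM : IsPModular p M) {L : Subgroup G} [Fintype L]
    {b : Set (IrrCharacter L)} (hb : IsPBlock M b) (hu : Uni p b) {ξ : IrrCharacter L} (hξ : ξ ∈ b)
    {j : KG M G} (hj : IsIdempotentElem j) (hjL : ∀ g ∉ L, j.coeff g = 0)
    (hjb : j * blkK M L b = j) :
    ∃ N : ℕ, res M (N : ℂ) = ∑ h : L, j.coeff (h : G) * res M ((ξ : L → ℂ) h) ∧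
      ∀ v : G, v ∈ L → (∀ h ∈ L, h * v = v * h) → ∀ {χ : G → ℂ}, IsClassFunction G χ →
        blkTrace χ v j = dcol L v b χ * N := by
  classical
  -- the lift
  set j' : KG M L := ofFun fun z => j.coeff (z : G)
  have hj' : IsIdempotentElem j' := MonoidAlgebra.ext (Finsupp.ext fun z => by
    rw [← coeff_mul_supported hjL, hj.eq, coeff_ofFun])
  obtain ⟨J, -, hJ, hJr⟩ := exists_lift_idempotent' (S := (∅ : Set L)) hj'
    (mem_fixAlg.mpr fun s hs => absurd hs (Set.notMem_empty s))
  set eb : OG M L := ofFun fun z => ⟨blockCoeff b z, IsPBlock.memLocalRing_blockCoeff hb z⟩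
  have heb : IsIdempotentElem eb := MonoidAlgebra.ext (Finsupp.ext fun z => Subtype.ext (by
    have h := congrFun (coe_coeff_mul_eq_conv eb eb) z
    simp only [eb, coeff_ofFun] at h ⊢
    rw [h, conv_blockCoeff_self]))
  have hcen : ∀ a : OG M L, Commute eb a := fun a => by
    refine commute_of_support (S := (Set.univ : Set L)) (fun g hg => absurd (Set.mem_univ g) hg) ?_
    exact mem_fixAlg_iff.mpr fun s _ g => Subtype.ext (by
      rw [coeff_ofFun, coeff_ofFun]
      exact isClassFunction_blockCoeff b g s)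
  have hJe : IsIdempotentElem (J * eb) := by
    rw [IsIdempotentElem, mul_assoc, ← mul_assoc eb J, (hcen J).eq, mul_assoc J eb eb, heb.eq,
      ← mul_assoc, hJ.eq]
  have hJer : red (J * eb) = red J := by
    rw [map_mul, hJr]
    refine MonoidAlgebra.ext (Finsupp.ext fun z => ?_)
    rw [show red eb = ofFun fun y : L => (blkK M L b).coeff (y : G) from
      MonoidAlgebra.ext (Finsupp.ext fun y => by
        rw [coeff_red, coeff_ofFun, coeff_ofFun, blkK, coeff_ofFun, subgroupBlockCoeff_eq,
          extendByZero_apply L (blockCoeff b) y,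
          res_mk (IsPBlock.memLocalRing_blockCoeff hb y)]), ← coeff_mul_supported hjL, hjb,
      coeff_ofFun]
  obtain ⟨N, hN⟩ : ∃ N : ℕ, chiSum (ξ : L → ℂ) J = N := by
    obtain ⟨n, ρ, hρ⟩ := isCharacter_chiSum (Char.isCharacter_of_isIrr ξ.2) (1 : Unit →* L) hJ
      fun _ => by rw [MonoidHom.one_apply, GrpRing.dlt_one]; exact Commute.one_left _
    refine ⟨n, ?_⟩
    have h2 := congrFun hρ 1
    rw [Representation.char_one] at h2
    simp only [MonoidHom.one_apply, GrpRing.dlt_one, mul_one] at h2
    simpa using h2.symm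
  refine ⟨N, ?_, fun v hv hc χ hχ => ?_⟩
  · rw [← hN, chiSum, res_sum _ _ fun z _ => memLocalRing_mul (J.coeff z).2
      (memLocalRing_of_isIntegral (irr_isIntegral ξ.2 z))]
    refine Finset.sum_congr rfl fun z _ => ?_
    rw [res_mul (J.coeff z).2 (memLocalRing_of_isIntegral (irr_isIntegral ξ.2 z))]
    congr 1
    have h := DFunLike.congr_fun (congrArg MonoidAlgebra.coeff hJr) z
    rw [coeff_red, coeff_ofFun] at h
    rw [← h]
    exact res_mk (J.coeff z).2
  set E := push L J
  have hE : IsIdempotentElem E := isIdempotentElem_push hJ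
  have hEr : red E = j := MonoidAlgebra.ext (Finsupp.ext fun g => by
    rw [coeff_red]
    by_cases hg : g ∈ L
    · lift g to L using hg
      rw [coeff_push_mem, ← coeff_red, hJr, coeff_ofFun]
    · rw [coeff_push_notMem J hg, map_zero, hjL g hg])
  have hEv : E ∈ fixAlg (locRing M) {v} := mem_fixAlg_iff.mpr fun s hs g => by
    rw [Set.mem_singleton_iff.mp hs]
    by_cases hg : g ∈ L
    · rw [show v * g * v⁻¹ = g by rw [← hc g hg, mul_inv_cancel_right]]
    · rw [coeff_push_notMem J hg, coeff_push_notMem J fun hm => hg (by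
        simpa [mul_assoc] using mul_mem (mul_mem (inv_mem hv) hm) hv)]
  rw [← hEr, blkTrace_red hχ hE hEv, chiSum_mul_dlt]
  set θ : L → ℂ := secFun L v χ with hθdef
  have hθ : IsClassFunction L θ := fun z a => by
    simp only [hθdef, secFun, Subgroup.coe_mul, Subgroup.coe_inv]
    rw [show v * ((a : G) * (z : G) * (a : G)⁻¹) = (a : G) * (v * (z : G)) * (a : G)⁻¹ by
      rw [← mul_assoc, ← mul_assoc, ← mul_assoc, hc _ a.2]]
    exact hχ _ _
  have h1 : ∑ z : G, ((E.coeff z : locRing M) : ℂ) * χ (z * v) = chiSum θ J := by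
    symm
    refine Fintype.sum_of_injective Subtype.val Subtype.val_injective _ _ (fun y hy => ?_)
      fun y => ?_
    · rw [coeff_push_notMem J fun hm => hy ⟨⟨y, hm⟩, rfl⟩, ZeroMemClass.coe_zero, zero_mul]
    · rw [coeff_push_mem, hc _ y.2]
      rfl
  have hΨ : IsClassFunction L (blockPart b θ) := fun z a => by
    rw [blockPart_eq_filter, blockPart_eq_filter]
    exact Finset.sum_congr rfl fun η _ => by rw [irr_classFunction η z a]
  have h2 : chiSum θ J = chiSum (blockPart b θ) J := by
    have hx : ∀ a : OG M L, a ∈ fixAlg (locRing M) ({1} : Set L) := fun a =>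
      mem_fixAlg.mpr fun s hs => by
        rw [Set.mem_singleton_iff.mp hs, GrpRing.dlt_one]; exact Commute.one_left _
    have hxK : ∀ a : KG M L, a ∈ fixAlg (ResField M) ({1} : Set L) := fun a =>
      mem_fixAlg.mpr fun s hs => by
        rw [Set.mem_singleton_iff.mp hs, GrpRing.dlt_one]; exact Commute.one_left _
    have h := chiSum_eq_of_equiv hθ hJe hJ (hx _) (hx _) (c := red J) (d := red J) (hxK _) (hxK _)
      (by rw [← map_mul, hJ.eq, hJer]) (by rw [← map_mul, hJ.eq])
    rw [GrpRing.dlt_one, mul_one, mul_one] at h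
    rw [← h, chiSum_mul]
    refine Finset.sum_congr rfl fun z _ => ?_
    rw [blockPart_eq_sum b hθ, Finset.mul_sum]
    refine Finset.sum_congr rfl fun k _ => ?_
    simp only [eb, coeff_ofFun]
    rw [← hθ (z * k) z⁻¹, show z⁻¹ * (z * k) * z⁻¹⁻¹ = k * z by group]
    ring
  set δ : L → ℂ := fun z => blockPart b θ z - dcol L v b χ * (ξ : L → ℂ) z
  have hδ0 : chiSum δ J = 0 := by
    refine chiSum_idem_eq_zero hM hJ (fun z a => ?_) fun z hz => ?_
    · simp only [δ, hΨ z a, irr_classFunction ξ z a]
    · simp only [δ, hθdef, blockPart_secFun v hu hξ χ hz, sub_self]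
  rw [h1, h2, ← hN]
  simp only [δ, chiSum] at hδ0 ⊢
  rw [Finset.mul_sum, ← sub_eq_zero, ← Finset.sum_sub_distrib, ← hδ0]
  exact Finset.sum_congr rfl fun z _ => by ring

end CfsgLib.Blocks.FreeQuot
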