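import Cfsg.Agent.Lib.Blocks.FreeQuotient.HeightZeroPart
import Cfsg.Agent.Lib.Blocks.FreeQuotient.TraceIdem
import Cfsg.Agent.Lib.Blocks.PairVal

/-!
# An idempotent fixed by the defect group supported on the pairs below the maximal pair

The trace of a height zero character of the block on it is prime to `p`.
-/

set_option autoImplicit false
set_option linter.unusedSectionVars false

namespace CfsgLib.Blocks.FreeQuot

open Cfsg CfsgLib.GrpRing
open scoped ComplexConjugate CfsgLib.Char

variable {p : ℕ} {M : Ideal AlgInt} [M.IsPrime] {G : Type*} [Group G] [Fintype G] {P : Subgroup G}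
  {c : Set (IrrCharacter (Subgroup.centralizer (P : Set G)))} {B : Set (IrrCharacter G)}

theorem chiSum_smul (χ : G → ℂ) (t : locRing M) (a : OG M G) :
    chiSum χ (t • a) = (t : ℂ) * chiSum χ a := by
  simp [chiSum, Finset.mul_sum, mul_assoc]

theorem chiSum_finset_sum {ι : Type*} (χ : G → ℂ) (s : Finset ι) (a : ι → OG M G) :
    chiSum χ (∑ i ∈ s, a i) = ∑ i ∈ s, chiSum χ (a i) := by
  classical
  induction s using Finset.induction with
  | empty => simp [chiSum]
  | insert i t hit ih => rw [Finset.sum_insert hit, Finset.sum_insert hit, chiSum_add, ih]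

theorem memLocalRing_chiSum {χ : G → ℂ} (hχ : ∀ g, MemLocalRing M (χ g)) (a : OG M G) :
    MemLocalRing M (chiSum χ a) :=
  memLocalRing_sum _ _ fun g _ => memLocalRing_mul (a.coeff g).2 (hχ g)

/-- An idempotent of the group ring of `C_G(P)` below the block, with a non-zero trace. -/
theorem exists_centralizer_idem (hM : IsPModular p M) (hmax : IsMaximalBrauerPair p M B P c)
    (hab : ∀ x ∈ P, ∀ y ∈ P, x * y = y * x) {χ : IrrCharacter G} (hχ : χ ∈ B)
    (h0 : blockHeight p B (χ : G → ℂ) = 0) :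
    ∃ j : KG M G, IsIdempotentElem j ∧ (∀ g ∉ Subgroup.centralizer (P : Set G), j.coeff g = 0) ∧
      j * blkK M (Subgroup.centralizer (P : Set G)) c = j ∧
      blkK M (Subgroup.centralizer (P : Set G)) c * j = j ∧
      ∑ g, j.coeff g * res M ((χ : G → ℂ) g) ≠ 0 := by
  classical
  let := Fintype.ofFinite (Subgroup.centralizer (P : Set G))
  obtain ⟨y, hy, hnot⟩ := exists_blockPart_notMem hM (induced_of_maximal hM hmax hab) hχ h0
  set n := orderOf y with hn
  have hn0 : 0 < n := orderOf_pos y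
  have hny : ((y : G)) ^ n = 1 := by rw [← Subgroup.coe_pow, pow_orderOf_eq_one, Subgroup.coe_one]
  set μ : ℂ := Complex.exp (2 * Real.pi * Complex.I / n)
  have hμ : IsPrimitiveRoot μ n := Complex.isPrimitiveRoot_exp n hn0.ne'
  have hnp : ¬ p ∣ n := hy
  have hloc : ∀ k : ℕ, MemLocalRing M ((n : ℂ)⁻¹ * μ ^ k) := fun k =>
    memLocalRing_mul (memLocalRing_natCast_inv hM hnp)
      (memLocalRing_pow (memLocalRing_of_isIntegral
        (IsIntegral.of_pow hn0 (hμ.pow_eq_one ▸ isIntegral_one))) _)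
  set ce := blkO hmax.1.1.2
  let E : ℕ → OG M G := fun l => ∑ i ∈ Finset.range n,
    (⟨(n : ℂ)⁻¹ * μ ^ (l * i), hloc _⟩ : locRing M) • dlt (locRing M) ((y : G) ^ i)
  have hcom : ∀ l, Commute ce (E l) := fun l => Commute.sum_right _ _ _ fun i _ =>
    Commute.smul_right ((mem_fixAlg.mp (blkO_mem_fixAlg hmax.1.1.2) _ (Subgroup.pow_mem (Subgroup.centralizer (P : Set G)) y.2 i)).symm) _
  have hid : ∀ l, IsIdempotentElem (E l) := by
    intro l
    have hζ : ∀ a b : ℕ, a % n = b % n → (μ ^ (l * a) : ℂ) = μ ^ (l * b) := fun a b h => by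
      rw [pow_eq_pow_mod (l * a) hμ.pow_eq_one, pow_eq_pow_mod (l * b) hμ.pow_eq_one]
      congr 1
      rw [Nat.mul_mod, h, ← Nat.mul_mod]
    have hyn : ∀ a b : ℕ, a % n = b % n → (y : G) ^ a = (y : G) ^ b := fun a b h => by
      rw [pow_eq_pow_mod a hny, pow_eq_pow_mod b hny, h]
    show E l * E l = E l
    simp only [E]
    rw [Finset.sum_mul]
    simp only [Finset.mul_sum, smul_mul_assoc, mul_smul_comm, Finset.smul_sum, smul_smul]
    have hterm : ∀ i ∈ Finset.range n, ∑ j ∈ Finset.range n,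
        ((⟨(n : ℂ)⁻¹ * μ ^ (l * j), hloc _⟩ : locRing M) * ⟨(n : ℂ)⁻¹ * μ ^ (l * i), hloc _⟩) •
          (dlt (locRing M) ((y : G) ^ i) * dlt (locRing M) ((y : G) ^ j)) =
        (⟨(n : ℂ)⁻¹, memLocalRing_natCast_inv hM hnp⟩ : locRing M) • E l := by
      intro i hi
      simp only [E, Finset.smul_sum, smul_smul]
      refine Finset.sum_bij (fun j _ => (i + j) % n)
        (fun j _ => Finset.mem_range.mpr (Nat.mod_lt _ hn0)) (fun a ha b hb h => ?_) (fun b hb => ?_)
        fun j _ => ?_
      · have h1 : a ≡ b [MOD n] := Nat.ModEq.add_left_cancel' i h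
        rwa [Nat.ModEq, Nat.mod_eq_of_lt (Finset.mem_range.mp ha),
          Nat.mod_eq_of_lt (Finset.mem_range.mp hb)] at h1
      · refine ⟨(n - i + b) % n, Finset.mem_range.mpr (Nat.mod_lt _ hn0), ?_⟩
        have h2 := Finset.mem_range.mp hi
        rw [Nat.add_mod_mod, show i + (n - i + b) = b + n by omega, Nat.add_mod_right,
          Nat.mod_eq_of_lt (Finset.mem_range.mp hb)]
      · rw [GrpRing.dlt_mul, ← pow_add, hyn ((i + j) % n) (i + j) (Nat.mod_mod _ _)]
        congr 1
        refine Subtype.ext ?_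
        show (n : ℂ)⁻¹ * μ ^ (l * j) * ((n : ℂ)⁻¹ * μ ^ (l * i)) =
          (n : ℂ)⁻¹ * ((n : ℂ)⁻¹ * μ ^ (l * ((i + j) % n)))
        rw [hζ ((i + j) % n) (i + j) (Nat.mod_mod _ _), mul_add l, pow_add]
        ring
    rw [Finset.sum_congr rfl hterm, Finset.sum_const, Finset.card_range,
      ← Nat.cast_smul_eq_nsmul (locRing M), smul_smul]
    rw [show ((n : locRing M) * ⟨(n : ℂ)⁻¹, memLocalRing_natCast_inv hM hnp⟩) = 1 from
      Subtype.ext (mul_inv_cancel₀ (Nat.cast_ne_zero.mpr hn0.ne')), one_smul]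
  obtain ⟨l, hl⟩ : ∃ l, ¬ MemLocalIdeal M (chiSum (χ : G → ℂ) (ce * E l)) := by
    by_contra hcon
    push Not at hcon
    refine hnot ?_
    have h1 : ∑ l ∈ Finset.range n, μ ^ (l * (n - 1)) * chiSum (χ : G → ℂ) (ce * E l) =
        chiSum (χ : G → ℂ) (ce * dlt (locRing M) (y : G)) := by
      have hT : ∀ l, chiSum (χ : G → ℂ) (ce * E l) = ∑ i ∈ Finset.range n,
          (n : ℂ)⁻¹ * μ ^ (l * i) * chiSum (χ : G → ℂ) (ce * dlt (locRing M) ((y : G) ^ i)) := by
        intro l
        simp only [E, Finset.mul_sum, mul_smul_comm, chiSum_finset_sum, chiSum_smul]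
      simp only [hT, Finset.mul_sum]
      rw [Finset.sum_comm, Finset.sum_eq_single_of_mem (1 % n)
        (Finset.mem_range.mpr (Nat.mod_lt _ hn0))]
      · rw [pow_eq_pow_mod (1 % n) hny, Nat.mod_mod, ← pow_eq_pow_mod 1 hny, pow_one]
        rw [Finset.sum_congr rfl (g := fun _ => (n : ℂ)⁻¹ *
          chiSum (χ : G → ℂ) (ce * dlt (locRing M) (y : G))) fun l _ => by
          rw [← mul_assoc, ← mul_assoc, mul_comm _ ((n : ℂ)⁻¹), mul_assoc (n : ℂ)⁻¹, ← pow_add,
            ← mul_add]
          have hd : n ∣ n - 1 + 1 % n := by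
            rcases Nat.lt_or_ge 1 n with h | h
            · rw [Nat.mod_eq_of_lt h, Nat.sub_add_cancel hn0]
            · rw [show n = 1 by omega]
              exact one_dvd _
          obtain ⟨d, hd⟩ := hd
          rw [hd, show l * (n * d) = n * (l * d) by ring, pow_mul, hμ.pow_eq_one, one_pow, mul_one],
          Finset.sum_const, Finset.card_range, nsmul_eq_mul, ← mul_assoc,
          mul_inv_cancel₀ (Nat.cast_ne_zero.mpr hn0.ne'), one_mul]
      · intro i hi hne
        rw [Finset.sum_congr rfl (g := fun l => ((n : ℂ)⁻¹ *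
          chiSum (χ : G → ℂ) (ce * dlt (locRing M) ((y : G) ^ i))) * (μ ^ (n - 1 + i)) ^ l)
          fun l _ => by
            rw [← pow_mul, mul_comm (n - 1 + i) l, mul_add, pow_add]
            ring, ← Finset.mul_sum, sum_geom_eq_zero (by
              rw [← pow_mul, mul_comm, pow_mul, hμ.pow_eq_one, one_pow]) fun h => hne ?_, mul_zero]
        obtain ⟨d, hd⟩ := (hμ.pow_eq_one_iff_dvd _).mp h
        have h2 := Finset.mem_range.mp hi
        rcases d with - | - | d
        · rw [mul_zero] at hd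
          rw [show n = 1 by omega, Nat.mod_self]
          omega
        · rcases Nat.lt_or_ge 1 n with h3 | h3
          · rw [Nat.mod_eq_of_lt h3]; omega
          · rw [show n = 1 by omega, Nat.mod_self]; omega
        · have : n * 2 ≤ n * (d + 1 + 1) := Nat.mul_le_mul_left n (by omega)
          omega
    have h2 : blockPart c (fun z : (Subgroup.centralizer (P : Set G)) => (χ : G → ℂ) (z : G)) y =
        chiSum (χ : G → ℂ) (ce * dlt (locRing M) (y : G)) := by
      rw [blockPart_eq_sum c (fun z a => by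
        simpa only [Subgroup.coe_mul, Subgroup.coe_inv] using irr_classFunction χ (z : G) (a : G)),
        chiSum_mul_dlt]
      refine Fintype.sum_of_injective Subtype.val Subtype.val_injective _ _ (fun z hz => ?_)
        fun z => ?_
      · rw [coe_coeff_blkO, subgroupBlockCoeff_eq,
          extendByZero_eq_zero _ _ fun hm => hz ⟨⟨z, hm⟩, rfl⟩, zero_mul]
      · rw [coe_coeff_blkO, subgroupBlockCoeff_eq, extendByZero_apply (Subgroup.centralizer (P : Set G)) (blockCoeff c) z]
        rfl
    rw [h2, ← h1]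
    exact memLocalIdeal_sum _ _ fun l _ => memLocalIdeal_mul_left
      (memLocalRing_pow (memLocalRing_of_isIntegral
        (IsIntegral.of_pow hn0 (hμ.pow_eq_one ▸ isIntegral_one))) _) (hcon l)
  have hidem : IsIdempotentElem (ce * E l) := by
    rw [IsIdempotentElem, mul_assoc, ← mul_assoc (E l), ← (hcom l).eq, mul_assoc ce (E l) (E l),
      (hid l).eq, ← mul_assoc, (isIdempotentElem_blkO hmax.1.1.2).eq]
  refine ⟨red (ce * E l), hidem.map red, fun g hg => ?_, ?_, ?_, ?_⟩
  · have hsuppE : ∀ z ∉ (Subgroup.centralizer (P : Set G)), (red (E l) : KG M G).coeff z = 0 := fun z hz => by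
      rw [coeff_red]
      simp only [E, MonoidAlgebra.coeff_sum, Finsupp.coe_finsetSum, Finset.sum_apply, map_sum]
      refine Finset.sum_eq_zero fun i _ => ?_
      have : (y : G) ^ i ≠ z := fun e => hz (e ▸ Subgroup.pow_mem (Subgroup.centralizer (P : Set G)) y.2 i)
      simp [this]
    rw [map_mul, red_blkO]
    exact coeff_mul_eq_zero (fun z hz => coeff_blkK_of_notMem c hz) hsuppE hg
  · rw [← red_blkO hmax.1.1.2, ← map_mul, mul_assoc, ← (hcom l).eq, ← mul_assoc,
      (isIdempotentElem_blkO hmax.1.1.2).eq]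
  · rw [← red_blkO hmax.1.1.2, ← map_mul, ← mul_assoc, (isIdempotentElem_blkO hmax.1.1.2).eq]
  · intro h
    refine hl ?_
    have hint : ∀ g, MemLocalRing M ((χ : G → ℂ) g) := fun g =>
      memLocalRing_of_isIntegral (irr_isIntegral χ.2 g)
    rw [← sub_zero (chiSum (χ : G → ℂ) (ce * E l))]
    refine (res_eq_iff (memLocalRing_chiSum hint _) memLocalRing_zero).mp ?_
    rw [res_zero, ← h,
      chiSum, res_sum _ _ fun g _ => memLocalRing_mul ((ce * E l).coeff g).2 (hint g)]
    refine Finset.sum_congr rfl fun g _ => ?_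
    rw [res_mul ((ce * E l).coeff g).2 (hint g), coeff_red]
    congr 1
    exact res_mk ((ce * E l).coeff g).2

/-- An idempotent fixed by `P`, with pairs below `(P, c)` only and non-zero trace. -/
theorem exists_local_idem (hM : IsPModular p M) (hmax : IsMaximalBrauerPair p M B P c)
    (hab : ∀ x ∈ P, ∀ y ∈ P, x * y = y * x) {χ : IrrCharacter G} (hχ : χ ∈ B)
    (h0 : blockHeight p B (χ : G → ℂ) = 0) :
    ∃ e ∈ fixAlg (ResField M) (P : Set G), IsIdempotentElem e ∧
      (∀ (U : Subgroup G) (g : Set (IrrCharacter (Subgroup.centralizer (U : Set G)))), U ≤ P →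
        IsPBlock M g → ¬ SubpairLE p M U g P c →
          trunc U e * blkK M (Subgroup.centralizer (U : Set G)) g = 0) ∧
      ∑ g, e.coeff g * res M ((χ : G → ℂ) g) ≠ 0 := by
  classical
  have : Fact p.Prime := ⟨hM.1⟩
  have := charP_resField hM
  have hPp : IsPGroup p P := hmax.1.1.1
  obtain ⟨j, hj, hjC, hjc, hcj, hjsum⟩ := exists_centralizer_idem hM hmax hab hχ h0
  obtain ⟨a, ha', haP, habad⟩ := exists_localized hM hPp hmax.1.1.2 (R := ⊥) bot_le
    (by rw [Subgroup.card_bot]; exact hM.1.not_dvd_one)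
  have ha : a ∈ fixAlg (ResField M) (P : Set G) := fixAlg_anti Set.subset_union_left ha'
  have hjfix : j ∈ fixAlg (ResField M) (P : Set G) := mem_fixAlg_iff.mpr fun s hs g => by
    by_cases hg : g ∈ (Subgroup.centralizer (P : Set G))
    · rw [show s * g * s⁻¹ = g by rw [hg s hs, mul_inv_cancel_right]]
    · rw [hjC g hg, hjC]
      exact fun hm => hg ((conj_mem_centralizer_iff (Subgroup.le_normalizer hs)).mp hm)
  have hjt : trunc P j = j := trunc_eq_self hjC
  set s := j * a * j with hs
  have hsfix : s ∈ fixAlg (ResField M) (P : Set G) := mul_mem (mul_mem hjfix ha) hjfix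
  obtain ⟨q, n, he, hn⟩ := exists_fitting_idempotent (K := ResField M) s
  set t := Polynomial.aeval s q
  set e := s * t
  have ht : t ∈ fixAlg (ResField M) (P : Set G) := aeval_mem_subalgebra _ hsfix q
  have hefix : e ∈ fixAlg (ResField M) (P : Set G) := mul_mem hsfix ht
  have hts : trunc P s = j := by
    rw [hs, trunc_mul hPp (mul_mem hjfix ha) hjfix, trunc_mul hPp hjfix ha, hjt, haP, hjc, hj.eq]
  have hpow : ∀ m, j * trunc P (s ^ m) = j := fun m => by
    induction m with
    | zero => rw [pow_zero, trunc_one, mul_one]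
    | succ m ih => rw [pow_succ, trunc_mul hPp (pow_mem hsfix m) hsfix, hts, ← mul_assoc, ih, hj.eq]
  have hze : trunc P e = j := by
    have h1 : j * trunc P e = trunc P e := by
      simp only [e]
      rw [trunc_mul hPp hsfix ht, hts, ← mul_assoc, hj.eq]
    have h2 := congrArg (fun z => j * trunc P z) hn
    simp only [trunc_mul hPp (pow_mem hsfix n) hefix, ← mul_assoc, hpow] at h2
    exact h1.symm.trans h2
  refine ⟨e, hefix, he, fun U g hU hg hbad => ?_, ?_⟩
  · have hUp : IsPGroup p U := hPp.to_le hU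
    have hfix : ∀ {z : KG M G}, z ∈ fixAlg (ResField M) (P : Set G) →
        z ∈ fixAlg (ResField M) (U : Set G) := fun hz => fixAlg_anti (fun x hx => hU hx) hz
    rw [show e = j * (a * (j * t)) by simp only [e, hs, mul_assoc],
      trunc_mul hUp (hfix hjfix) (hfix (mul_mem ha (mul_mem hjfix ht))),
      trunc_mul hUp (hfix ha) (hfix (mul_mem hjfix ht)), mul_assoc, mul_assoc,
      ← (commute_blkK_trunc U g (j * t)).eq, ← mul_assoc (trunc U a), habad U g hU hg hbad,
      zero_mul, mul_zero]
  · let τ : G → ResField M := fun g => res M ((χ : G → ℂ) g)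
    letI : MulAction P G := MulAction.compHom G ((MulAut.conj : G →* MulAut G).comp P.subtype)
    have hinv : ∀ (s : P) (g : G), e.coeff (s • g) * τ (s • g) = e.coeff g * τ g := fun s g => by
      show e.coeff ((s : G) * g * (s : G)⁻¹) * τ ((s : G) * g * (s : G)⁻¹) = _
      rw [mem_fixAlg_iff.mp hefix _ s.2 g]
      simp only [τ, irr_classFunction χ g (s : G)]
    have hfixed : ∀ g, g ∈ MulAction.fixedPoints P G ↔ g ∈ (Subgroup.centralizer (P : Set G)) := fun g => by
      constructor
      · intro h x hx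
        exact mul_inv_eq_iff_eq_mul.mp (h ⟨x, hx⟩)
      · intro h x
        show (x : G) * g * (x : G)⁻¹ = g
        rw [h x x.2, mul_inv_cancel_right]
    have hsum := sum_eq_sum_fixed (Q := P) (f := fun g => e.coeff g * τ g) hPp hinv
    show ∑ g, e.coeff g * τ g ≠ 0
    rw [hsum]
    refine fun h => hjsum ?_
    rw [← h, Finset.sum_filter]
    refine Finset.sum_congr rfl fun g _ => ?_
    by_cases hg : g ∈ (Subgroup.centralizer (P : Set G))
    · rw [if_pos ((hfixed g).mpr hg), ← coeff_trunc_of_mem e hg, hze]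
    · rw [if_neg fun hm => hg ((hfixed g).mp hm), hjC g hg, zero_mul]

end CfsgLib.Blocks.FreeQuot
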