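import Cfsg.Agent.Lib.Blocks.FreeQuotient.Column
import Cfsg.Agent.Lib.Blocks.AbelianLocal
import Cfsg.Agent.Lib.Blocks.NilpotentStar
import Cfsg.Agent.Lib.Char.Artin

/-!
# Blocks with abelian defect group and free inertial quotient: the subsections

The fusion of pairs below `(P, c)` is controlled by `T`.  For `u ≠ 1` in `P` the block `bk u` of
the centralizer of `u` below `(P, c)` has `|P|` members, which agree on the regular elements.
-/

set_option autoImplicit false
set_option linter.unusedSectionVars false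

namespace CfsgLib.Blocks.FreeQuot

open Cfsg Cfsg.FusionSystem
open scoped ComplexConjugate CfsgLib.Char

variable {p : ℕ} {M : Ideal AlgInt} [M.IsPrime] {G : Type*} [Group G] [Fintype G] {P : Subgroup G}
  {c : Set (IrrCharacter (Subgroup.centralizer (P : Set G)))} {B : Set (IrrCharacter G)}

/-- Fusion of pairs below `(P, c)` is controlled by the stabilizer of `c`. -/
theorem exists_blockT_agree (hM : IsPModular p M) (hmax : IsMaximalBrauerPair p M B P c)
    (hab : ∀ x ∈ P, ∀ y ∈ P, x * y = y * x) {Q : Subgroup G} {g : G}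
    (hg : Carries p M P c g Q) : ∃ y ∈ blockT P c, ∀ z ∈ Q, g * z * g⁻¹ = y * z * y⁻¹ := by
  have hPe := hmax.1.1
  have hF := isBlockFusionSystemOn_blockFusion hM hmax
  have hQP := hg.le
  obtain ⟨f, hf, hgf⟩ := hg
  set R := Q.map (MulAut.conj g).toMonoidHom
  have hRP : R ≤ P := PairLE.fst_le hgf
  have hle : SubpairLE p M R (conjPair g ⟨Q, f⟩).2 P c := hgf
  have hfc : (blockFusion hM hmax.1.1).IsFullyCentralized R :=
    ⟨hRP, fun R' _ => by
      rw [centralizerIn_eq_self hab hRP]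
      exact Subgroup.card_le_of_le inf_le_left⟩
  have hrec := Fusion.isReceptive_iff.mp (isReceptive_block hM hF hle hfc)
  have hiso : Fusion.IsIso (blockFusion hM hmax.1.1) Q R (fun z => g * z * g⁻¹) := by
    refine ⟨(isMap_block_iff hF).mpr ⟨g, ⟨f, hf, hgf⟩, fun _ _ => rfl⟩, ?_⟩
    rw [show (R : Set G) = _ from Subgroup.coe_map _ Q]
    rfl
  obtain ⟨f', hf', hext⟩ := hrec.2 Q _ hiso
  rw [show Fusion.nPhi P Q (fun z => g * z * g⁻¹) = P from le_antisymm (Fusion.nPhi_le_self Q _)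
    ((centralizerIn_eq_self hab hQP).symm.le.trans (Fusion.centralizerIn_le_nPhi Q _))] at hf'
  obtain ⟨y, hy, hyv⟩ := (isMap_block_iff hF).mp hf'
  have hyN : y ∈ Subgroup.normalizer (P : Set G) := by
    have heq : P.map (MulAut.conj y).toMonoidHom = P :=
      Subgroup.eq_of_le_of_card_ge hy.map_le (card_map_conj _ _).ge
    refine Subgroup.mem_normalizer_iff.mpr fun z => ⟨fun hz => hy.map_le ⟨z, hz, rfl⟩, fun hz => ?_⟩
    rw [← heq, mem_map_conj_iff] at hz
    simpa [mul_assoc] using hz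
  exact ⟨y, mem_blockT_of_carries hM hPe Relation.ReflTransGen.refl hy hyN, fun z hz =>
    (hext z hz).symm.trans (hyv z (hQP hz))⟩

theorem conjPair_top_blockT {y : G} (hy : y ∈ blockT P c) : conjPair y ⟨P, c⟩ = ⟨P, c⟩ := by
  rw [conjPair_of_mem_normalizer (blockT_le_normalizer hy) c,
    (stabilizesBlock_iff.mp (mem_blockT.mp hy).2).2]

variable (p M P c) in
/-- The block of the centralizer of `u` below `(P, c)`. -/
noncomputable def bk (u : G) : Set (IrrCharacter (cz u)) :=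
  open Classical in if h : ∃ f, PairLE p M ⟨Subgroup.zpowers u, f⟩ ⟨P, c⟩ then h.choose else ∅

theorem bk_le (hM : IsPModular p M) (hPe : IsBrauerPair p M P c) {u : G} (hu : u ∈ P) :
    PairLE p M ⟨Subgroup.zpowers u, bk p M P c u⟩ ⟨P, c⟩ := by
  have h := exists_le_top hM hPe (Subgroup.zpowers_le.mpr hu)
  rw [bk, dif_pos h]
  exact h.choose_spec

theorem bk_subpair (hM : IsPModular p M) (hPe : IsBrauerPair p M P c) {u : G} (hu : u ∈ P) :
    SubpairLE p M (Subgroup.zpowers u) (bk p M P c u) P c := bk_le hM hPe hu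

theorem bk_isBlock (hM : IsPModular p M) (hPe : IsBrauerPair p M P c) {u : G} (hu : u ∈ P) :
    IsPBlock M (bk p M P c u) :=
  (SubpairLE.isBrauerPair (bk_subpair hM hPe hu) hPe).2

theorem bk_pairOf (hM : IsPModular p M) (hmax : IsMaximalBrauerPair p M B P c) {u : G}
    (hu : u ∈ P) : IsBrauerPairOf p M B (Subgroup.zpowers u) (bk p M P c u) :=
  (SubpairLE.isBrauerPairOf_iff hM (bk_subpair hM hmax.1.1 hu) hmax.1.2.1).mp hmax.1

theorem bk_induced (hM : IsPModular p M) (hmax : IsMaximalBrauerPair p M B P c) {u : G}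
    (hu : u ∈ P) : IsInducedBlock M (cz u) (bk p M P c u) B :=
  (isBrauerPairOf_iff_induced hM (exists_pow_orderOf_mem hM hmax.1.1.1 ⟨u, hu⟩)
    (bk_isBlock hM hmax.1.1 hu)).mp (bk_pairOf hM hmax hu)

/-- The block `bk u` has `|P|` members agreeing on the regular elements. -/
theorem bk_uni_card (hM : IsPModular p M) (hmax : IsMaximalBrauerPair p M B P c)
    (hab : ∀ x ∈ P, ∀ y ∈ P, x * y = y * x)
    (hfree : ∀ g ∈ blockT P c, ∀ x ∈ P, x ≠ 1 → g * x * g⁻¹ = x →
      g ∈ Subgroup.centralizer (P : Set G))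
    {u : G} (hu : u ∈ P) (hu1 : u ≠ 1) :
    Uni p (bk p M P c u) ∧ Nat.card (bk p M P c u) = Nat.card P := by
  classical
  have hpair := bk_pairOf hM hmax hu
  have hnil := isNilpotentBlock_of_free hM hmax hab hfree
    (by simpa using hu1 : Subgroup.zpowers u ≠ ⊥) hpair
  let := Fintype.ofFinite (cz u)
  obtain ⟨D, hD⟩ := exists_isDefectGroup hM hnil.1
  let := Fintype.ofFinite D
  obtain ⟨E, hE, hDE⟩ := IsInducedBlock.exists_defectGroup_le hM (bk_induced hM hmax hu) hD
  obtain ⟨x, hx⟩ := IsDefectGroup.exists_conj_eq hM hmax.1.2.1 (isDefectGroup_of_maximal hM hmax) hE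
  have hDab : ∀ a b : D, a * b = b * a := fun a b => by
    have hmem : ∀ d : D, x⁻¹ * ((d : cz u) : G) * x ∈ P := fun d => by
      have h : ((d : cz u) : G) ∈ P.map (MulAut.conj x).toMonoidHom :=
        hx ▸ hDE ⟨(d : cz u), d.2, rfl⟩
      exact mem_map_conj_iff.mp h
    have h := hab _ (hmem a) _ (hmem b)
    apply Subtype.ext; apply Subtype.ext
    show ((a : cz u) : G) * ((b : cz u) : G) = ((b : cz u) : G) * ((a : cz u) : G)
    calc ((a : cz u) : G) * ((b : cz u) : G)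
        = x * ((x⁻¹ * ((a : cz u) : G) * x) * (x⁻¹ * ((b : cz u) : G) * x)) * x⁻¹ := by group
      _ = x * ((x⁻¹ * ((b : cz u) : G) * x) * (x⁻¹ * ((a : cz u) : G) * x)) * x⁻¹ := by rw [h]
      _ = _ := by group
  obtain ⟨f, hf⟩ := exists_pair_of_defectGroup hM hnil.1 hD
  obtain ⟨χ₀, -, Φ, hΦ⟩ :=
    nilpotent_block_characters hM (isMaximalBrauerPair_of_defectGroup hM hD hf) hnil
  refine ⟨fun η hη η' hη' s hs => ?_, ?_⟩
  · rw [(hΦ ⟨η, hη⟩).2 s hs, (hΦ ⟨η', hη'⟩).2 s hs, Char.degree_one_of_comm hDab,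
      Char.degree_one_of_comm hDab]
  · rw [Nat.card_congr Φ, Char.card_irr_eq_card_conjClasses,
      show Nat.card (ConjClasses D) = Nat.card D from
        (Nat.card_congr (Equiv.ofBijective ConjClasses.mk ⟨fun a b h => by
          obtain ⟨z, hz⟩ := isConj_iff.mp (ConjClasses.mk_eq_mk_iff_isConj.mp h)
          rwa [hDab z a, mul_inv_cancel_right] at hz, Quot.mk_surjective⟩)).symm]
    obtain ⟨g, hg, hcard⟩ := exists_conj_centralizer_eq hM hmax (bk_subpair hM hmax.1.1 hu)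
    rw [IsDefectGroup.card_eq hM hnil.1 hD, ← hcard]
    congr 1
    rw [inf_eq_left.mpr]
    exact fun a ha b hb => hab b (hg.map_le hb) a ha

/-- Conjugate subsections have equal coefficients. -/
theorem dcol_conj {g : G} {K K' : Subgroup G} [Fintype K] [Fintype K']
    (h : ∀ z, g * z * g⁻¹ ∈ K' ↔ z ∈ K) (x : G) (b : Set (IrrCharacter K)) {χ : G → ℂ}
    (hχ : IsClassFunction G χ) :
    dcol K' (g * x * g⁻¹) (conjSet g K K' b) χ = dcol K x b χ := by
  rw [dcol, dcol, conjSet_eq_image h, finsum_mem_image (conjIrr_injective h).injOn]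
  refine finsum_mem_congr rfl fun η _ => ?_
  rw [classInner, classInner, Nat.card_congr (conjIso h).toEquiv]
  congr 1
  refine (Fintype.sum_equiv (conjIso h).toEquiv _ _ fun z => ?_).symm
  show secFun K x χ z * conj ((η : K → ℂ) z) =
    secFun K' (g * x * g⁻¹) χ (conjIso h z) * conj ((conjIrr h η : K' → ℂ) (conjIso h z))
  rw [conjIrr_apply h η (c := z) rfl]
  congr 1
  show χ (x * (z : G)) = χ (g * x * g⁻¹ * (g * (z : G) * g⁻¹))
  rw [show g * x * g⁻¹ * (g * (z : G) * g⁻¹) = g * (x * (z : G)) * g⁻¹ by group]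
  exact (hχ _ g).symm

theorem cz_conj_iff (g u z : G) : g * z * g⁻¹ ∈ cz (g * u * g⁻¹) ↔ z ∈ cz u := by
  simp only [cz_eq, Subgroup.mem_centralizer_singleton_iff]
  rw [show g * z * g⁻¹ * (g * u * g⁻¹) = g * (z * u) * g⁻¹ by group,
    show g * u * g⁻¹ * (g * z * g⁻¹) = g * (u * z) * g⁻¹ by group, mul_left_inj, mul_right_inj]

theorem conjPair_zpowers {g u u' : G} (h : g * u * g⁻¹ = u') (b : Set (IrrCharacter (cz u))) :
    conjPair g ⟨Subgroup.zpowers u, b⟩ =
      (⟨Subgroup.zpowers u', conjSet g (cz u) (cz u') b⟩ : BrauerPairIdx G) := by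
  have key : ∀ Q' : Subgroup G, Q' = (Subgroup.zpowers u).map (MulAut.conj g).toMonoidHom →
      conjPair g ⟨Subgroup.zpowers u, b⟩ = ⟨Q', conjSet g (cz u)
        (Subgroup.centralizer (Q' : Set G)) b⟩ := by
    rintro Q' rfl
    rfl
  exact key _ (by rw [map_zpowers_conj, h])

/-- The image of `bk u` under the stabilizer. -/
theorem conjSet_bk_blockT (hM : IsPModular p M) (hPe : IsBrauerPair p M P c) {y u : G}
    (hy : y ∈ blockT P c) (hu : u ∈ P) :
    conjSet y (cz u) (cz (y * u * y⁻¹)) (bk p M P c u) = bk p M P c (y * u * y⁻¹) := by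
  have h := subpairLE_conjPair y (bk_le hM hPe hu)
  rw [conjPair_top_blockT hy, conjPair_zpowers rfl] at h
  exact eq_of_le_top hM hPe h (bk_le hM hPe
    ((Subgroup.mem_normalizer_iff.mp (blockT_le_normalizer hy) u).mp hu))

/-- Conjugate subsections below `(P, c)` are conjugate under the stabilizer. -/
theorem exists_blockT_of_conjSet (hM : IsPModular p M) (hmax : IsMaximalBrauerPair p M B P c)
    (hab : ∀ x ∈ P, ∀ y ∈ P, x * y = y * x) {u u' g : G} (hu : u ∈ P) (hu' : u' ∈ P)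
    (hg : g * u * g⁻¹ = u') (hb : conjSet g (cz u) (cz u') (bk p M P c u) = bk p M P c u') :
    ∃ y ∈ blockT P c, y * u * y⁻¹ = u' := by
  have hc : Carries p M P c g (Subgroup.zpowers u) := by
    refine ⟨bk p M P c u, bk_le hM hmax.1.1 hu, ?_⟩
    rw [conjPair_zpowers hg, hb]
    exact bk_le hM hmax.1.1 hu'
  obtain ⟨y, hy, hyv⟩ := exists_blockT_agree hM hmax hab hc
  exact ⟨y, hy, (hyv u (Subgroup.mem_zpowers u)).symm.trans hg⟩

variable [DecidablePred (· ∈ B)]

variable (p M P c) in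
/-- The column of `u`. -/
noncomputable def col (u : G) (χ : IrrCharacter G) : ℂ :=
  letI := Fintype.ofFinite (cz u)
  dcol (cz u) u (bk p M P c u) (χ : G → ℂ)

theorem col_eq {u : G} [Fintype (cz u)] (χ : IrrCharacter G) :
    col p M P c u χ = dcol (cz u) u (bk p M P c u) (χ : G → ℂ) := by
  rw [col]
  convert rfl

theorem col_blockT (hM : IsPModular p M) (hPe : IsBrauerPair p M P c) {y u : G}
    (hy : y ∈ blockT P c) (hu : u ∈ P) (χ : IrrCharacter G) :
    col p M P c (y * u * y⁻¹) χ = col p M P c u χ := by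
  let := Fintype.ofFinite (cz u)
  let := Fintype.ofFinite (cz (y * u * y⁻¹))
  rw [col_eq, col_eq, ← conjSet_bk_blockT hM hPe hy hu]
  exact dcol_conj (cz_conj_iff y u) u _ (irr_classFunction χ)

section Orth

variable (hM : IsPModular p M) (hmax : IsMaximalBrauerPair p M B P c)
  (hab : ∀ x ∈ P, ∀ y ∈ P, x * y = y * x)
  (hfree : ∀ g ∈ blockT P c, ∀ x ∈ P, x ≠ 1 → g * x * g⁻¹ = x →
    g ∈ Subgroup.centralizer (P : Set G))
include hM hmax hab hfree

theorem col_norm {u : G} (hu : u ∈ P) (hu1 : u ≠ 1) :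
    ∑ χ : IrrCharacter G with χ ∈ B, col p M P c u χ * conj (col p M P c u χ) =
      (Nat.card P : ℂ) := by
  classical
  let := Fintype.ofFinite (cz u)
  obtain ⟨huni, hcard⟩ := bk_uni_card hM hmax hab hfree hu hu1
  simp only [col_eq]
  rw [dcol_orth hM (exists_pow_orderOf_mem hM hmax.1.1.1 ⟨u, hu⟩) hmax.1.2.1 (cz_eq u)
    (bk_induced hM hmax hu) (bk_isBlock hM hmax.1.1 hu) huni huni, if_pos rfl, hcard]

theorem col_orth {u u' : G} (hu : u ∈ P) (hu1 : u ≠ 1) (hu' : u' ∈ P) (hu1' : u' ≠ 1)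
    (hne : ∀ y ∈ blockT P c, y * u * y⁻¹ ≠ u') :
    ∑ χ : IrrCharacter G with χ ∈ B, col p M P c u χ * conj (col p M P c u' χ) = 0 := by
  classical
  let := Fintype.ofFinite (cz u)
  let := Fintype.ofFinite (cz u')
  obtain ⟨huni, -⟩ := bk_uni_card hM hmax hab hfree hu hu1
  obtain ⟨huni', -⟩ := bk_uni_card hM hmax hab hfree hu' hu1'
  have hpu := exists_pow_orderOf_mem hM hmax.1.1.1 ⟨u, hu⟩
  have hpu' := exists_pow_orderOf_mem hM hmax.1.1.1 ⟨u', hu'⟩
  simp only [col_eq]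
  by_cases hconj : IsConj u u'
  · obtain ⟨g, rfl⟩ := isConj_iff.mp hconj
    have hiff := cz_conj_iff g u
    have hinj := conjIrr_injective hiff
    have huni'' : Uni p (conjSet g (cz u) (cz (g * u * g⁻¹)) (bk p M P c u)) := by
      rw [conjSet_eq_image hiff]
      rintro _ ⟨η, hη, rfl⟩ _ ⟨η', hη', rfl⟩ s hs
      obtain ⟨z, rfl⟩ := (conjIso hiff).surjective s
      rw [conjIrr_apply hiff η (c := z) rfl, conjIrr_apply hiff η' (c := z) rfl]
      refine huni η hη η' hη' z ?_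
      rw [IsPRegular] at hs ⊢
      rwa [(conjIso hiff).orderOf_eq] at hs
    have hind : IsInducedBlock M (cz (g * u * g⁻¹))
        (conjSet g (cz u) (cz (g * u * g⁻¹)) (bk p M P c u)) B := by
      have hp := isBrauerPairOf_conjPair g
        (a := ⟨Subgroup.zpowers u, bk p M P c u⟩) (bk_pairOf hM hmax hu)
      rw [conjPair_zpowers rfl] at hp
      exact (isBrauerPairOf_iff_induced hM hpu' hp.1.2).mp hp
    have h := dcol_orth hM hpu' hmax.1.2.1 (cz_eq _) hind
      (bk_isBlock hM hmax.1.1 hu') huni'' huni'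
    rw [if_neg fun hb => by
      obtain ⟨y, hy, hyu⟩ := exists_blockT_of_conjSet hM hmax hab hu hu' rfl hb
      exact hne y hy hyu] at h
    rw [← h]
    exact Finset.sum_congr rfl fun χ _ => by rw [dcol_conj hiff u _ (irr_classFunction χ)]
  · exact dcol_orth_other hM hpu hmax.1.2.1 (cz_eq u) hpu' (cz_eq u')
      (bk_isBlock hM hmax.1.1 hu) huni (bk_isBlock hM hmax.1.1 hu') huni' hconj

theorem col_regular {u : G} (hu : u ∈ P) (hu1 : u ≠ 1) {g : G} (hg : IsPRegular p g) :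
    ∑ χ : IrrCharacter G with χ ∈ B, col p M P c u χ * conj ((χ : G → ℂ) g) = 0 := by
  classical
  let := Fintype.ofFinite (cz u)
  obtain ⟨huni, -⟩ := bk_uni_card hM hmax hab hfree hu hu1
  simp only [col_eq]
  exact dcol_orth_regular hM (exists_pow_orderOf_mem hM hmax.1.1.1 ⟨u, hu⟩) hmax.1.2.1 (cz_eq u)
    (bk_isBlock hM hmax.1.1 hu) huni hu1 hg

theorem col_ne_zero {u : G} (hu : u ∈ P) (hu1 : u ≠ 1) {χ : IrrCharacter G} (hχ : χ ∈ B)
    (h0 : blockHeight p B (χ : G → ℂ) = 0) : col p M P c u χ ≠ 0 := by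
  classical
  let := Fintype.ofFinite (cz u)
  obtain ⟨huni, -⟩ := bk_uni_card hM hmax hab hfree hu hu1
  obtain ⟨s, hs, hne⟩ := exists_part_ne_zero_of_height_zero hM hmax hχ h0 (y := ⟨u, hu⟩)
    (bk_subpair hM hmax.1.1 hu)
  obtain ⟨ξ, hξ⟩ := IsPBlock.nonempty (bk_isBlock hM hmax.1.1 hu)
  intro hz
  refine hne ?_
  show blockPart (bk p M P c u) (secFun (cz u) u (χ : G → ℂ)) s = 0
  rw [blockPart_secFun u huni hξ _ hs, ← col_eq, hz, zero_mul]

/-- At an involution the column is integral. -/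
theorem col_int {u : G} (hu : u ∈ P) (hu2 : u * u = 1) (χ : IrrCharacter G) :
    ∃ n : ℤ, col p M P c u χ = (n : ℂ) := by
  classical
  let := Fintype.ofFinite (cz u)
  obtain ⟨F, hF, hFv⟩ := exists_character_dcol (cz_eq u) (bk p M P c u) χ
  rw [col_eq, ← hFv ⟨u, Subgroup.mem_zpowers u⟩]
  obtain ⟨n, ρ, rfl⟩ := hF
  set t : Subgroup.zpowers u := ⟨u, Subgroup.mem_zpowers u⟩
  obtain ⟨μ, h1, h2⟩ := Char.character_pow_eq_sum ρ t
  have e : ∀ i, ∃ z : ℤ, μ i = z := fun i => by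
    have h3 : orderOf t ∣ 2 := orderOf_dvd_of_pow_eq_one (Subtype.ext (by
      rw [pow_two]; exact hu2))
    obtain ⟨k, hk⟩ := h3
    have h4 : μ i ^ 2 = 1 := by rw [hk, pow_mul, h1 i, one_pow]
    rcases sq_eq_one_iff.mp h4 with h | h
    exacts [⟨1, by simp [h]⟩, ⟨-1, by simp [h]⟩]
  choose z hz using e
  refine ⟨∑ i, z i, ?_⟩
  rw [show t = t ^ 1 from (pow_one t).symm, h2, Int.cast_sum]
  exact Finset.sum_congr rfl fun i _ => by rw [pow_one, hz]

end Orth

end CfsgLib.Blocks.FreeQuot
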