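import Cfsg.Agent.Lib.Blocks.CentralChar
import Cfsg.Agent.Lib.Char.Artin
import Cfsg.Agent.Lib.Char.Central
import Cfsg.Agent.Lib.Char.Virtual
import Cfsg.Agent.Lib.Char.Induced
import Cfsg.Agent.Lib.Char.Counting
import Mathlib.FieldTheory.Finite.Basic

/-!
# Choosing signs for a family of multiplicities on the subgroups of an abelian `p`-group

`M` gives a natural number for each nontrivial subgroup `Q`, such that for every such `Q` some
character of `A` has absolute values `M (Q ⊔ ⟨x⟩)`, up to units.  Then signs can be chosen so that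
the signed numbers at the cyclic subgroups are the values of a generalized character off the
identity.
-/

set_option autoImplicit false
set_option linter.unusedSectionVars false

namespace CfsgLib.Blocks.FreeQuot

open Cfsg
open scoped ComplexConjugate CfsgLib.Char

variable {A : Type*} [Group A] [Fintype A]

theorem isClassFunction_of_comm (hA : ∀ a b : A, a * b = b * a) (f : A → ℂ) :
    IsClassFunction A f := fun g h => by rw [hA h g, mul_inv_cancel_right]

open Classical in
/-- A function all of whose sums over subgroups are rational has rational sums over the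
generators of each cyclic subgroup. -/
theorem exists_rat_sum_gen (F : A → ℂ)
    (hF : ∀ C : Subgroup A, ∃ q : ℚ, ∑ x : A with x ∈ C, F x = (q : ℂ)) (C : Subgroup A) :
    ∃ q : ℚ, ∑ x : A with Subgroup.zpowers x = C, F x = (q : ℂ) := by
  induction hn : Nat.card C using Nat.strong_induction_on generalizing C with
  | _ n ih =>
  subst hn
  have : Fintype (Subgroup A) := Fintype.ofFinite _
  obtain ⟨q, hq⟩ := hF C
  have hlt : ∀ D ∈ ({D : Subgroup A | D ≤ C} : Finset _).erase C,
      ∃ q : ℚ, ∑ x : A with Subgroup.zpowers x = D, F x = (q : ℂ) := fun D hD => by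
    obtain ⟨hne, hD⟩ := Finset.mem_erase.mp hD
    have hle : D ≤ C := (Finset.mem_filter.mp hD).2
    exact ih _ (lt_of_le_of_ne (Subgroup.card_le_of_le hle)
      fun e => hne (Subgroup.eq_of_le_of_card_ge hle e.ge)) D rfl
  choose! r hr using hlt
  refine ⟨q - ∑ D ∈ ({D : Subgroup A | D ≤ C} : Finset _).erase C, r D, ?_⟩
  rw [← Finset.sum_fiberwise_of_maps_to (g := fun x : A => Subgroup.zpowers x)
    (t := ({D : Subgroup A | D ≤ C} : Finset _)) (fun x hx => by
      simpa [Subgroup.zpowers_le] using hx)] at hq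
  rw [← Finset.add_sum_erase _ _ (show C ∈ ({D : Subgroup A | D ≤ C} : Finset _) by simp)] at hq
  have hfilt : ∀ D : Subgroup A, D ≤ C →
      ({x : A | x ∈ C} : Finset A).filter (fun x => Subgroup.zpowers x = D) =
        ({x : A | Subgroup.zpowers x = D} : Finset A) := fun D hD => by
    ext x
    simp only [Finset.mem_filter, Finset.mem_univ, true_and, and_iff_right_iff_imp]
    rintro rfl
    exact hD (Subgroup.mem_zpowers x)
  rw [hfilt C le_rfl, Finset.sum_congr rfl (g := fun D => (r D : ℂ)) fun D hD => by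
    rw [hfilt D (Finset.mem_filter.mp (Finset.mem_erase.mp hD).2).2, hr D hD]] at hq
  push_cast
  exact eq_sub_of_add_eq hq

/-- The coefficients of a generalized character times a rational function of the generated
subgroup are rational. -/
theorem exists_rat_classInner {f : A → ℂ} (hf : IsGeneralizedCharacter A f) (r : Subgroup A → ℚ)
    (ψ : IrrCharacter A) : ∃ q : ℚ,
      classInner (fun x => (r (Subgroup.zpowers x) : ℂ) * f x) (ψ : A → ℂ) = (q : ℂ) := by
  classical
  have : Fintype (Subgroup A) := Fintype.ofFinite _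
  have hF : ∀ C : Subgroup A,
      ∃ q : ℚ, ∑ x : A with x ∈ C, f x * conj ((ψ : A → ℂ) x) = (q : ℂ) := fun C => by
    obtain ⟨n, hn⟩ := Char.exists_int_classInner (Char.isGeneralized_restrict C hf)
      (Char.isGeneralized_restrict C (Char.isGeneralized_of_isIrr ψ.2))
    refine ⟨(Nat.card C : ℚ) * n, ?_⟩
    rw [classInner, inv_mul_eq_iff_eq_mul₀ (Nat.cast_ne_zero.mpr Nat.card_pos.ne')] at hn
    push_cast
    rw [← hn, Finset.sum_subtype (p := (· ∈ C)) _ (fun x => by simp)]
  choose g hg using exists_rat_sum_gen _ hF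
  refine ⟨(Nat.card A : ℚ)⁻¹ * ∑ C : Subgroup A, r C * g C, ?_⟩
  push_cast
  rw [classInner]
  congr 1
  rw [← Finset.sum_fiberwise_of_maps_to (g := fun x : A => Subgroup.zpowers x)
    (t := (Finset.univ : Finset (Subgroup A))) (fun x _ => Finset.mem_univ _)]
  refine Finset.sum_congr rfl fun C _ => ?_
  rw [← hg, Finset.mul_sum]
  exact Finset.sum_congr rfl fun x hx => by rw [(Finset.mem_filter.mp hx).2, mul_assoc]

/-- A function congruent to a generalized character modulo the order, with rational coefficients,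
is a generalized character. -/
theorem isGeneralized_of_congr (hA : ∀ a b : A, a * b = b * a) {f F : A → ℂ}
    (hF : IsGeneralizedCharacter A F)
    (hrat : ∀ ψ : IrrCharacter A, ∃ q : ℚ, classInner f (ψ : A → ℂ) = (q : ℂ))
    (hint : ∀ x, IsIntegral ℤ ((f x - F x) / (Nat.card A : ℂ))) :
    IsGeneralizedCharacter A f := by
  rw [Char.isGeneralized_iff_classInner (isClassFunction_of_comm hA f)]
  intro ψ
  obtain ⟨q, hq⟩ := hrat ψ
  obtain ⟨m, hm⟩ := Char.exists_int_classInner hF (Char.isGeneralized_of_isIrr ψ.2)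
  have hsplit : classInner f (ψ : A → ℂ) = (m : ℂ) +
      ∑ x, ((f x - F x) / (Nat.card A : ℂ)) * conj ((ψ : A → ℂ) x) := by
    rw [← hm, classInner, classInner, Finset.mul_sum, Finset.mul_sum, ← Finset.sum_add_distrib]
    exact Finset.sum_congr rfl fun x _ => by rw [div_eq_mul_inv]; ring
  have hi : IsIntegral ℤ (q : ℂ) := by
    rw [← hq, hsplit]
    exact (isIntegral_algebraMap (R := ℤ) (A := ℂ) (x := m)).add (IsIntegral.sum _ fun x _ =>
      (hint x).mul ((irr_isIntegral ψ.2 x).map (starRingEnd ℂ).toIntAlgHom))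
  obtain ⟨n, hn⟩ := Char.exists_int_of_isIntegral_rat hi
  exact ⟨n, by rw [hq, hn, Rat.cast_intCast]⟩

open Classical in
theorem isGeneralized_indicator (hA : ∀ a b : A, a * b = b * a) (K : Subgroup A) :
    IsGeneralizedCharacter A (fun x => if x ∈ K then (K.index : ℂ) else 0) := by
  have h := Char.isGeneralized_indFun K (Char.isGeneralized_one (G := K))
  convert h using 1
  funext x
  have hc : ∀ y : A, y⁻¹ * x * y = x := fun y => by rw [mul_assoc, hA x y, inv_mul_cancel_left]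
  simp only [indFun, hc, Finset.sum_const, Finset.card_univ, nsmul_eq_mul,
    ← Nat.card_eq_fintype_card (α := A)]
  have hne : (Nat.card K : ℂ) ≠ 0 := Nat.cast_ne_zero.mpr Nat.card_pos.ne'
  by_cases hx : x ∈ K
  · rw [if_pos hx, show extendByZero K (fun _ => (1 : ℂ)) x = 1 from
      (Function.Injective.extend_apply Subtype.val_injective (fun _ : K => (1 : ℂ)) 0 ⟨x, hx⟩),
      mul_one, eq_inv_mul_iff_mul_eq₀ hne, ← Nat.cast_mul, Subgroup.card_mul_index]
  · rw [if_neg hx, show extendByZero K (fun _ => (1 : ℂ)) x = 0 from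
      Function.extend_apply' _ _ _ fun ⟨k, hk⟩ => hx (hk ▸ k.2), mul_zero, mul_zero]

theorem norm_irr_eq_one (hA : ∀ a b : A, a * b = b * a) (ψ : IrrCharacter A) (x : A) :
    ‖(ψ : A → ℂ) x‖ = 1 := by
  have h := Char.linearHom_apply (Char.isCharacter_of_isIrr ψ.2) (Char.degree_one_of_comm hA ψ) x
  rw [← h]
  refine Complex.norm_eq_one_of_pow_eq_one ?_ (orderOf_pos x).ne'
  rw [← Units.val_pow_eq_pow_val, ← map_pow, pow_orderOf_eq_one, map_one, Units.val_one]

/-- Twisting a character so that it is constant on a subgroup where it has maximal absolute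
value. -/
theorem exists_twist_const (hA : ∀ a b : A, a * b = b * a) {f : A → ℂ} (hf : IsCharacter A f)
    {m : ℕ} (hm : m ≠ 0) (h1 : f 1 = m) (Q : Subgroup A) (hQ : ∀ q ∈ Q, ‖f q‖ = m) :
    ∃ ψ : IrrCharacter A, IsCharacter A (fun x => f x * conj ((ψ : A → ℂ) x)) ∧
      ∀ q ∈ Q, f q * conj ((ψ : A → ℂ) q) = m := by
  classical
  obtain ⟨c, hc⟩ := Char.exists_multiplicities hf
  have hval : ∀ x, f x = ∑ ψ : IrrCharacter A, (c ψ : ℂ) * (ψ : A → ℂ) x := fun x => by
    rw [hc]; simp [Finset.sum_apply]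
  have hsum : ∑ ψ : IrrCharacter A, (c ψ : ℝ) = m := by
    have h := hval 1
    simp only [h1, Char.degree_one_of_comm hA, mul_one] at h
    have := congrArg Complex.re h
    simpa [Complex.re_sum] using this.symm
  obtain ⟨ψ₀, hψ₀⟩ : ∃ ψ : IrrCharacter A, c ψ ≠ 0 := by
    by_contra hcon
    push Not at hcon
    simp [hcon] at hsum
    exact hm (by exact_mod_cast hsum.symm)
  refine ⟨ψ₀, Char.isCharacter_mul hf (Char.isCharacter_conj (Char.isCharacter_of_isIrr ψ₀.2)),
    fun q hq => ?_⟩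
  set S : ℂ := f q * conj ((ψ₀ : A → ℂ) q) with hS
  have hSn : ‖S‖ = m := by
    rw [hS, norm_mul, Complex.norm_conj, hQ q hq, norm_irr_eq_one hA, mul_one]
  have hS0 : S ≠ 0 := fun h => hm (by
    rw [h, norm_zero] at hSn; exact_mod_cast hSn.symm)
  set w : ℂ := conj S / (‖S‖ : ℂ) with hw
  have hn0 : (‖S‖ : ℂ) ≠ 0 := by simpa using hS0
  have hwS : w * S = (‖S‖ : ℂ) := by
    rw [hw, div_mul_eq_mul_div, mul_comm, Complex.mul_conj', sq, mul_div_assoc, div_self hn0,
      mul_one]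
  have hwn : ‖w‖ = 1 := by
    rw [hw, norm_div, Complex.norm_conj, Complex.norm_real, norm_norm,
      div_self (norm_ne_zero_iff.mpr hS0)]
  set z : IrrCharacter A → ℂ := fun ψ => w * ((ψ : A → ℂ) q * conj ((ψ₀ : A → ℂ) q))
  have hzn : ∀ ψ, ‖z ψ‖ = 1 := fun ψ => by
    simp [z, hwn, norm_irr_eq_one hA]
  have hre : ∀ ψ, (z ψ).re ≤ 1 := fun ψ => (Complex.re_le_norm _).trans (hzn ψ).le
  have htot : ∑ ψ : IrrCharacter A, (c ψ : ℝ) * (z ψ).re = ∑ ψ : IrrCharacter A, (c ψ : ℝ) := by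
    rw [hsum, ← hSn]
    have := congrArg Complex.re hwS
    rw [Complex.ofReal_re] at this
    rw [← this, hS, hval, Finset.sum_mul, Finset.mul_sum, Complex.re_sum]
    refine Finset.sum_congr rfl fun ψ _ => ?_
    rw [show w * ((c ψ : ℂ) * (ψ : A → ℂ) q * conj ((ψ₀ : A → ℂ) q)) = ((c ψ : ℝ) : ℂ) * z ψ by
      simp only [z, Complex.ofReal_natCast]; ring, Complex.re_ofReal_mul]
  have h0 := (Finset.sum_eq_sum_iff_of_le fun ψ _ =>
    mul_le_of_le_one_right (Nat.cast_nonneg (c ψ)) (hre ψ)).mp htot ψ₀ (Finset.mem_univ _)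
  have hz1 : (z ψ₀).re = 1 := by
    have hcne : (c ψ₀ : ℝ) ≠ 0 := Nat.cast_ne_zero.mpr hψ₀
    exact mul_left_cancel₀ hcne (h0.trans (mul_one _).symm)
  have hzeq : z ψ₀ = w := by
    simp [z, Complex.mul_conj', norm_irr_eq_one hA]
  have hw1 : w = 1 := by
    rw [hzeq] at hz1
    refine Complex.ext hz1 ?_
    have := Complex.normSq_eq_norm_sq w
    rw [Complex.normSq_apply, hwn, hz1] at this
    simp only [Complex.one_im]
    nlinarith
  rw [hw1, one_mul] at hwS
  rw [hwS, hSn]
  simp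

theorem pow_totient_modEq {p n : ℕ} [Fact p.Prime] {h : ℤ} (hh : ¬ (p : ℤ) ∣ h) :
    ((p : ℤ) ^ n) ∣ h ^ (2 * Nat.totient (p ^ n)) - 1 := by
  rw [← Nat.cast_pow, ← ZMod.intCast_zmod_eq_zero_iff_dvd]
  push_cast
  have hu : IsUnit ((h : ℤ) : ZMod (p ^ n)) := by
    have H : IsUnit ((h.natAbs : ℕ) : ZMod (p ^ n)) := (ZMod.isUnit_iff_coprime _ _).mpr
      (Nat.Coprime.pow_right _ ((Nat.Prime.coprime_iff_not_dvd Fact.out).mpr fun hd =>
        hh (Int.natCast_dvd.mpr hd)).symm)
    rcases Int.natAbs_eq h with e | e <;> rw [e] <;> simpa using H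
  obtain ⟨u, hu⟩ := hu
  rw [← hu, mul_comm, pow_mul, ← Units.val_pow_eq_pow_val, ZMod.pow_totient, Units.val_one,
    one_pow, sub_self]

/-- The number theory. -/
theorem dvd_sub_or_add {p k : ℕ} (hp : p.Prime) {t₀ : ℤ}
    (h : ∀ j : ℤ, ∃ I : ℤ, I * (p : ℤ) ^ k = (t₀ + j * (p : ℤ) ^ k) ^ 2 + (p : ℤ) ^ k - 1 ∧
      |t₀ + j * (p : ℤ) ^ k| ≤ I) :
    (p : ℤ) ^ k ∣ t₀ - 1 ∨ (p : ℤ) ^ k ∣ t₀ + 1 := by
  have hprod : (p : ℤ) ^ k ∣ (t₀ - 1) * (t₀ + 1) := by
    obtain ⟨I, hI, -⟩ := h 0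
    exact ⟨I - 1, by linear_combination -hI⟩
  have hpz : Prime (p : ℤ) := Nat.prime_iff_prime_int.mp hp
  by_cases h2 : (p : ℤ) ∣ t₀ - 1 ∧ (p : ℤ) ∣ t₀ + 1
  swap
  · rcases not_and_or.mp h2 with h' | h'
    · exact Or.inr (hpz.pow_dvd_of_dvd_mul_left k h' hprod)
    · exact Or.inl (hpz.pow_dvd_of_dvd_mul_right k h' hprod)
  obtain ⟨ha, hb⟩ := h2
  have hp2 : p = 2 := by
    have : (p : ℤ) ∣ 2 := by simpa using Int.dvd_sub hb ha
    exact (Nat.prime_dvd_prime_iff_eq hp Nat.prime_two).mp (by exact_mod_cast this)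
  subst hp2
  match k with
  | 0 => exact Or.inl (by simp)
  | 1 => exact Or.inl (by simpa using ha)
  | 2 =>
    obtain ⟨a, ha'⟩ := ha
    norm_num at ha' ⊢
    omega
  | k + 3 =>
    obtain ⟨a, ha'⟩ := ha
    push_cast at ha'
    have h4 : (2 : ℤ) ^ (k + 1) ∣ a * (a + 1) := by
      obtain ⟨c, hc⟩ := hprod
      push_cast at hc
      exact ⟨c, mul_left_cancel₀ (show (4 : ℤ) ≠ 0 by norm_num) (by
        rw [pow_add] at hc ⊢
        linear_combination hc - (t₀ + 1 + 2 * a) * ha')⟩
    have hsplit : (2 : ℤ) ^ (k + 1) ∣ a ∨ (2 : ℤ) ^ (k + 1) ∣ a + 1 := by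
      have h2z : Prime (2 : ℤ) := by simpa using hpz
      rcases Int.even_or_odd a with he | ho
      · refine Or.inl (h2z.pow_dvd_of_dvd_mul_right _ (fun hd => ?_) h4)
        obtain ⟨b, rfl⟩ := he
        omega
      · refine Or.inr (h2z.pow_dvd_of_dvd_mul_left _ (fun hd => ?_) h4)
        obtain ⟨b, rfl⟩ := ho
        omega
    set H : ℤ := 2 ^ (k + 2) with hH
    have hN : (2 : ℤ) ^ (k + 3) = 2 * H := by rw [hH]; ring
    have hH4 : 4 ≤ H := by
      rw [hH, pow_add]
      have : (1 : ℤ) ≤ 2 ^ k := one_le_pow₀ (by norm_num)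
      linarith
    have bad : ∀ t : ℤ, (∃ j : ℤ, t₀ + j * (2 : ℤ) ^ (k + 3) = t) → |t| = H - 1 → False := by
      rintro t ⟨j, hj⟩ ht
      obtain ⟨I, hI, hle⟩ := h j
      push_cast at hI hle
      rw [hj, ← sq_abs, ht, hN] at hI
      rw [hj, ht] at hle
      nlinarith
    push_cast
    rcases hsplit with ⟨c, hc⟩ | ⟨c, hc⟩
    · rcases Int.even_or_odd c with ⟨b, rfl⟩ | ⟨b, rfl⟩
      · exact Or.inl ⟨b, by rw [ha', hc]; ring⟩
      · exfalso
        refine bad (1 - H) ⟨-(b + 1), ?_⟩ (by rw [abs_of_nonpos (by linarith)]; ring)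
        rw [hH]
        linear_combination ha' + 2 * hc
    · rcases Int.even_or_odd c with ⟨b, rfl⟩ | ⟨b, rfl⟩
      · exact Or.inr ⟨b, by linear_combination ha' + 2 * hc⟩
      · exfalso
        refine bad (H - 1) ⟨-b, ?_⟩ (abs_of_nonneg (by linarith))
        rw [hH]
        linear_combination ha' + 2 * hc

open Classical in
/-- A family of functions with values of absolute value one off `Q` and an integer on `Q`, all
generalized characters: the integer is `1` or `-1` modulo the index. -/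
theorem dvd_of_norm_one (hA : ∀ a b : A, a * b = b * a) {p n : ℕ} (hp : p.Prime)
    (hcard : Nat.card A = p ^ n) (Q : Subgroup A) {t₀ : ℤ} {s : ℤ → A → ℂ}
    (hs : ∀ j, IsGeneralizedCharacter A (s j))
    (hin : ∀ j, ∀ x ∈ Q, s j x = ((t₀ + j * Q.index : ℤ) : ℂ))
    (hout : ∀ j, ∀ x ∉ Q, ‖s j x‖ = 1) :
    (Q.index : ℤ) ∣ t₀ - 1 ∨ (Q.index : ℤ) ∣ t₀ + 1 := by
  obtain ⟨k, -, hk⟩ := (Nat.dvd_prime_pow hp).mp (hcard ▸ Q.index_dvd_card)
  rw [hk, Nat.cast_pow]
  refine dvd_sub_or_add hp fun j => ?_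
  rw [← Nat.cast_pow, ← hk]
  set t := t₀ + j * (Q.index : ℤ) with ht
  obtain ⟨c, hc⟩ := Char.isGeneralized_iff.mp (hs j)
  have hn := Char.sum_sq_coeff c
  rw [← hc] at hn
  refine ⟨∑ ψ, c ψ ^ 2, ?_, ?_⟩
  · have hpt : ∀ x, s j x * conj (s j x) = if x ∈ Q then ((t ^ 2 : ℤ) : ℂ) else 1 := fun x => by
      split_ifs with hx
      · rw [hin j x hx, map_intCast, ← ht]; push_cast; ring
      · rw [Complex.mul_conj', hout j x hx]; simp
    rw [classInner, inv_mul_eq_iff_eq_mul₀ (Nat.cast_ne_zero.mpr Nat.card_pos.ne')] at hn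
    simp only [hpt] at hn
    rw [Finset.sum_ite, Finset.sum_const, Finset.sum_const, Finset.filter_not,
      Finset.card_sdiff_of_subset (Finset.subset_univ _), Finset.card_univ,
      ← Fintype.card_subtype, ← Nat.card_eq_fintype_card, ← Nat.card_eq_fintype_card,
      nsmul_eq_mul, nsmul_eq_mul, Nat.cast_sub (Nat.le_of_dvd Nat.card_pos
        Q.card_subgroup_dvd_card), ← Q.card_mul_index] at hn
    apply mul_left_cancel₀ (show (Nat.card Q : ℤ) ≠ 0 by exact_mod_cast Nat.card_pos.ne')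
    apply Int.cast_injective (α := ℂ)
    push_cast at hn ⊢
    linear_combination -hn
  · have h1 := congrFun hc 1
    rw [hin j 1 Q.one_mem, Finset.sum_apply] at h1
    simp only [Pi.smul_apply, Char.degree_one_of_comm hA, smul_eq_mul, mul_one] at h1
    rw [show t = ∑ ψ, c ψ from Int.cast_injective (α := ℂ) (by rw [h1]; push_cast; rfl)]
    refine (Finset.abs_sum_le_sum_abs _ _).trans (Finset.sum_le_sum fun ψ _ => ?_)
    rw [← sq_abs]
    rcases eq_or_ne (c ψ) 0 with h0 | h0
    · simp [h0]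
    · exact le_self_pow₀ (Int.one_le_abs h0) two_ne_zero

open Classical in
/-- The sum defining the signed number at a subgroup. -/
noncomputable def hsum [Fintype (Subgroup A)] (a : Subgroup A → ℤ) (Q : Subgroup A) : ℤ :=
  ∑ K : Subgroup A with Q ≤ K, a K * K.index

variable (p : ℕ)

/-- Each nontrivial proper subgroup has a character with the prescribed absolute values. -/
def HasLocalChars (M : Subgroup A → ℕ) : Prop :=
  ∀ Q : Subgroup A, Q ≠ ⊥ → Q ≠ ⊤ → ∃ (f δ : A → ℂ), IsCharacter A f ∧ f 1 = M Q ∧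
    (∀ q ∈ Q, ‖f q‖ = M Q) ∧ ∀ x ∉ Q, IsIntegral ℤ (δ x) ∧ ‖δ x‖ = 1 ∧
      f x = δ x * M (Q ⊔ Subgroup.zpowers x)

variable {p} [Fact p.Prime]

/-- The signed numbers. -/
theorem exists_signs (hA : ∀ a b : A, a * b = b * a) {n : ℕ} (hcard : Nat.card A = p ^ n)
    {M : Subgroup A → ℕ} (htop : ¬ p ∣ M ⊤) (hloc : HasLocalChars M) :
    ∃ (h : Subgroup A → ℤ) (H : A → ℤ), (∀ Q, Q ≠ ⊥ →
      (h Q).natAbs = M Q ∧ (p : ℤ) ∣ h Q - M ⊤) ∧
      IsGeneralizedCharacter A (fun x => (H x : ℂ)) ∧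
      ∀ x, x ≠ 1 → H x = h (Subgroup.zpowers x) := by
  classical
  have hp : p.Prime := Fact.out
  have : Fintype (Subgroup A) := Fintype.ofFinite _
  have hgen : ∀ (a : Subgroup A → ℤ) (T : Finset (Subgroup A)), IsGeneralizedCharacter A
      (fun x => ((∑ K ∈ T with x ∈ K, a K * (K.index : ℤ) : ℤ) : ℂ)) := fun a T => by
    have : (fun x => ((∑ K ∈ T with x ∈ K, a K * (K.index : ℤ) : ℤ) : ℂ)) =
        ∑ K ∈ T, (a K : ℂ) • fun x => if x ∈ K then (K.index : ℂ) else 0 := funext fun x => by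
      simp [Finset.sum_filter, Finset.sum_apply, apply_ite]
    rw [this]
    exact Char.isGeneralized_sum _ _ fun K _ =>
      Char.isGeneralized_intCast_smul (isGeneralized_indicator hA K) _
  have htopZ : ¬ (p : ℤ) ∣ (M ⊤ : ℤ) := fun h => htop (Int.natCast_dvd_natCast.mp h)
  have hpdvd : ∀ K : Subgroup A, K ≠ ⊤ → (p : ℤ) ∣ (K.index : ℤ) := fun K hK => by
    obtain ⟨k, -, hk⟩ := (Nat.dvd_prime_pow hp).mp (hcard ▸ K.index_dvd_card)
    rw [hk]
    refine Int.natCast_dvd_natCast.mpr (dvd_pow_self p fun h0 => hK ?_)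
    rw [h0, pow_zero] at hk
    exact Subgroup.index_eq_one.mp hk
  suffices key : ∀ d, ∃ a : Subgroup A → ℤ, a ⊤ = M ⊤ ∧
      ∀ Q, Q ≠ ⊥ → Q.index ≤ d → (hsum a Q).natAbs = M Q ∧ (p : ℤ) ∣ hsum a Q - M ⊤ by
    obtain ⟨a, -, ha⟩ := key (Nat.card A)
    refine ⟨hsum a, fun x => ∑ K ∈ (Finset.univ : Finset (Subgroup A)).erase ⊥ with x ∈ K,
      a K * (K.index : ℤ), fun Q hQ => ha Q hQ (Nat.le_of_dvd Nat.card_pos Q.index_dvd_card),
      hgen a _, fun x hx => ?_⟩
    refine Finset.sum_congr ?_ fun _ _ => rfl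
    ext K
    simp only [Finset.mem_filter, Finset.mem_erase, Finset.mem_univ, and_true, true_and,
      Subgroup.zpowers_le]
    exact ⟨fun h => h.2, fun h => ⟨fun e => hx (Subgroup.mem_bot.mp (e ▸ h)), h⟩⟩
  intro d
  induction d with
  | zero =>
    exact ⟨fun _ => M ⊤, rfl, fun Q _ hQ => absurd (Nat.le_zero.mp hQ) Q.index_ne_zero_of_finite⟩
  | succ d ih =>
    obtain ⟨a, hatop, ha⟩ := ih
    set S : Subgroup A → ℤ := fun Q => ∑ K : Subgroup A with Q < K, a K * (K.index : ℤ) with hSdef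
    have hsplit : ∀ (b : Subgroup A → ℤ) (Q : Subgroup A),
        hsum b Q = b Q * Q.index + ∑ K : Subgroup A with Q < K, b K * (K.index : ℤ) := by
      intro b Q
      rw [hsum, ← Finset.add_sum_erase _ _ (show Q ∈ ({K : Subgroup A | Q ≤ K} : Finset _) by simp)]
      congr 1
      refine Finset.sum_congr ?_ fun _ _ => rfl
      ext K
      simp only [Finset.mem_erase, Finset.mem_filter, Finset.mem_univ, true_and]
      exact ⟨fun h => lt_of_le_of_ne h.2 (Ne.symm h.1), fun h => ⟨h.ne', h.le⟩⟩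
    -- the step at one subgroup
    have step : ∀ Q, Q ≠ ⊥ → Q.index = d + 1 →
        ∃ c : ℤ, (Q = ⊤ → c = M ⊤) ∧
          (c * Q.index + S Q).natAbs = M Q ∧ (p : ℤ) ∣ c * Q.index + S Q - M ⊤ := by
      intro Q hQ hQd
      rcases eq_or_ne Q ⊤ with rfl | hQt
      · refine ⟨M ⊤, fun _ => rfl, ?_⟩
        have hS0 : S ⊤ = 0 := Finset.sum_eq_zero fun K hK =>
          absurd (Finset.mem_filter.mp hK).2 not_top_lt
        rw [hS0, Subgroup.index_top]
        simp
      obtain ⟨f, δ, hf, hf1, hfQ, hfx⟩ := hloc Q hQ hQt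
      set N := Q.index
      have hSp : (p : ℤ) ∣ S Q - M ⊤ := by
        simp only [S]
        rw [← Finset.add_sum_erase _ _
          (show (⊤ : Subgroup A) ∈ ({K : Subgroup A | Q < K} : Finset _) by
            simpa using lt_top_iff_ne_top.mpr hQt), hatop, Subgroup.index_top, Nat.cast_one,
          mul_one, add_sub_cancel_left]
        exact Finset.dvd_sum fun K hK => dvd_mul_of_dvd_right (hpdvd K (Finset.mem_erase.mp hK).1) _
      have hSnp : ¬ (p : ℤ) ∣ S Q := fun h => htopZ (by simpa using Int.dvd_sub h hSp)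
      -- above `Q`
      have hup : ∀ x ∉ Q, Q < Q ⊔ Subgroup.zpowers x := fun x hx =>
        lt_of_le_of_ne le_sup_left fun e =>
          hx (e.symm ▸ Subgroup.mem_sup_right (Subgroup.mem_zpowers x) :)
      have habove : ∀ x ∉ Q, (hsum a (Q ⊔ Subgroup.zpowers x)).natAbs =
          M (Q ⊔ Subgroup.zpowers x) ∧ (p : ℤ) ∣ hsum a (Q ⊔ Subgroup.zpowers x) - M ⊤ := fun x hx =>
        ha _ (fun e => hQ (le_bot_iff.mp (e ▸ le_sup_left))) (by
          have := Subgroup.index_strictAnti (hup x hx)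
          omega)
      set Hf : A → ℤ := fun x =>
        ∑ K ∈ ({K : Subgroup A | Q < K} : Finset _) with x ∈ K, a K * (K.index : ℤ) with hHf
      have hHQ : ∀ x ∈ Q, Hf x = S Q := fun x hx => by
        simp only [Hf, S]
        rw [Finset.filter_true_of_mem fun K hK => (Finset.mem_filter.mp hK).2.le hx]
      have hHx : ∀ x ∉ Q, Hf x = hsum a (Q ⊔ Subgroup.zpowers x) := fun x hx => by
        simp only [Hf, hsum, Finset.filter_filter]
        refine Finset.sum_congr ?_ fun _ _ => rfl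
        ext K
        simp only [Finset.mem_filter, Finset.mem_univ, true_and, sup_le_iff, Subgroup.zpowers_le]
        exact ⟨fun h => ⟨h.1.le, h.2⟩,
          fun h => ⟨lt_of_le_of_ne h.1 fun e => hx (e ▸ h.2), h.2⟩⟩
      have hm0 : M Q ≠ 0 := by
        intro h0
        obtain ⟨c, hc⟩ := Char.exists_multiplicities hf
        have h1 := congrFun hc 1
        rw [hf1, h0, Nat.cast_zero, Finset.sum_apply] at h1
        simp only [Pi.smul_apply, Char.degree_one_of_comm hA, smul_eq_mul, mul_one,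
          ← Nat.cast_sum] at h1
        have hz : ∀ ψ, c ψ = 0 := fun ψ =>
          (Finset.sum_eq_zero_iff.mp (Nat.cast_eq_zero.mp h1.symm)) ψ (Finset.mem_univ _)
        obtain ⟨x, hx⟩ : ∃ x, x ∉ Q := by
          by_contra hcon
          push Not at hcon
          exact hQt ((Subgroup.eq_top_iff' Q).mpr hcon)
        have h2 : f x = 0 := by rw [hc]; simp [Finset.sum_apply, hz]
        rw [(hfx x hx).2.2, mul_eq_zero] at h2
        rcases h2 with h | h
        · have := (hfx x hx).2.1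
          rw [h, norm_zero] at this
          exact zero_ne_one this
        · obtain ⟨e1, e2⟩ := habove x hx
          rw [Nat.cast_eq_zero.mp h, Int.natAbs_eq_zero] at e1
          rw [e1, zero_sub, dvd_neg] at e2
          exact htopZ e2
      obtain ⟨ψ₀, hf'c, hf'Q⟩ := exists_twist_const hA hf hm0 hf1 Q hfQ
      set f' : A → ℂ := fun x => f x * conj ((ψ₀ : A → ℂ) x) with hf'
      set L := Nat.totient (p ^ n)
      have hL : 1 ≤ 2 * L := by
        have := Nat.totient_pos.mpr (Nat.pow_pos (n := n) hp.pos)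
        omega
      set t₀ : ℤ := (M Q : ℤ) * S Q ^ (2 * L - 1) with ht₀
      let r : ℤ → Subgroup A → ℚ := fun j C => if C ≤ Q then ((t₀ + j * N : ℤ) : ℚ) / (M Q : ℚ)
        else ((hsum a (Q ⊔ C) : ℤ) : ℚ)⁻¹
      let s : ℤ → A → ℂ := fun j x => (r j (Subgroup.zpowers x) : ℂ) * f' x
      have hsin : ∀ j, ∀ x ∈ Q, s j x = ((t₀ + j * N : ℤ) : ℂ) := fun j x hx => by
        simp only [s, r, if_pos (Subgroup.zpowers_le.mpr hx)]
        rw [show f' x = (M Q : ℂ) from hf'Q x hx]
        push_cast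
        rw [div_mul_cancel₀ _ (Nat.cast_ne_zero.mpr hm0)]
      have hsout : ∀ x ∉ Q, ∃ e : ℤ, (e = 1 ∨ e = -1) ∧ ∀ j,
          s j x = (e : ℂ) * (δ x * conj ((ψ₀ : A → ℂ) x)) := fun x hx => by
        obtain ⟨hn1, hn2⟩ := habove x hx
        have hne : hsum a (Q ⊔ Subgroup.zpowers x) ≠ 0 := fun e => by
          rw [e, zero_sub, dvd_neg] at hn2
          exact htopZ hn2
        have hrx : ∀ j, r j (Subgroup.zpowers x) =
            ((hsum a (Q ⊔ Subgroup.zpowers x) : ℤ) : ℚ)⁻¹ := fun j =>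
          if_neg fun h => hx (Subgroup.zpowers_le.mp h)
        have hnC : ((hsum a (Q ⊔ Subgroup.zpowers x) : ℤ) : ℂ) ≠ 0 := Int.cast_ne_zero.mpr hne
        have habs : ((M (Q ⊔ Subgroup.zpowers x) : ℤ)) = hsum a (Q ⊔ Subgroup.zpowers x) ∨
            ((M (Q ⊔ Subgroup.zpowers x) : ℤ)) = -hsum a (Q ⊔ Subgroup.zpowers x) := by omega
        rcases habs with e | e
        · refine ⟨1, Or.inl rfl, fun j => ?_⟩
          have e' := congrArg (fun z : ℤ => (z : ℂ)) e
          push_cast at e'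
          simp only [s, f', hrx, (hfx x hx).2.2, e']
          push_cast
          field_simp
        · refine ⟨-1, Or.inr rfl, fun j => ?_⟩
          have e' := congrArg (fun z : ℤ => (z : ℂ)) e
          push_cast at e'
          simp only [s, f', hrx, (hfx x hx).2.2, e']
          push_cast
          field_simp
      have hsgen : ∀ j, IsGeneralizedCharacter A (s j) := fun j => by
        have hfg := Char.isGeneralized_of_isCharacter hf'c
        have hHgen : IsGeneralizedCharacter A (fun x => (Hf x : ℂ)) := hgen a _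
        have hpow : ∀ e : ℕ, IsGeneralizedCharacter A (fun x => (Hf x : ℂ) ^ e) := fun e => by
          induction e with
          | zero => simpa using Char.isGeneralized_one (G := A)
          | succ e ih =>
            simp only [pow_succ]
            exact Char.isGeneralized_mul ih hHgen
        refine isGeneralized_of_congr hA
          (Char.isGeneralized_add (Char.isGeneralized_mul hfg (hpow (2 * L - 1)))
            (Char.isGeneralized_intCast_smul (isGeneralized_indicator hA Q) j))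
          (fun ψ => exists_rat_classInner hfg (r j) ψ) fun x => ?_
        by_cases hx : x ∈ Q
        · simp only [Pi.add_apply, Pi.mul_apply, Pi.smul_apply, smul_eq_mul, if_pos hx,
            hsin j x hx, hHQ x hx]
          rw [show f' x = (M Q : ℂ) from hf'Q x hx, ht₀]
          push_cast
          rw [sub_eq_zero.mpr rfl, zero_div]
          exact isIntegral_zero
        · simp only [Pi.add_apply, Pi.mul_apply, Pi.smul_apply, smul_eq_mul, if_neg hx, mul_zero,
            add_zero]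
          obtain ⟨e, -, he⟩ := hsout x hx
          obtain ⟨hn1, hn2⟩ := habove x hx
          have hHp : ¬ (p : ℤ) ∣ hsum a (Q ⊔ Subgroup.zpowers x) := fun h =>
            htopZ (by simpa using Int.dvd_sub h hn2)
          obtain ⟨z, hz⟩ := pow_totient_modEq (p := p) (n := n) hHp
          have hne : ((hsum a (Q ⊔ Subgroup.zpowers x) : ℤ) : ℂ) ≠ 0 :=
            Int.cast_ne_zero.mpr fun e => hHp (e ▸ dvd_zero _)
          have hfs : f' x = s j x * (Hf x : ℂ) := by
            simp only [s, r, if_neg fun h => hx (Subgroup.zpowers_le.mp h), hHx x hx]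
            push_cast
            field_simp
          have hz' := congrArg (fun w : ℤ => (w : ℂ)) hz
          push_cast at hz'
          rw [show (s j x - f' x * (Hf x : ℂ) ^ (2 * L - 1)) / (Nat.card A : ℂ) =
              -((e : ℂ) * (δ x * conj ((ψ₀ : A → ℂ) x)) * (z : ℂ)) by
            rw [hfs, mul_assoc, ← pow_succ', Nat.sub_add_cancel hL, he j, hHx x hx, hcard,
              Nat.cast_pow, div_eq_iff (pow_ne_zero _ (Nat.cast_ne_zero.mpr hp.ne_zero))]
            linear_combination -((e : ℂ) * (δ x * conj ((ψ₀ : A → ℂ) x))) * hz']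
          exact (((isIntegral_algebraMap (R := ℤ) (A := ℂ) (x := e)).mul ((hfx x hx).1.mul
            ((irr_isIntegral ψ₀.2 x).map (starRingEnd ℂ).toIntAlgHom))).mul
              (isIntegral_algebraMap (R := ℤ) (A := ℂ) (x := z))).neg
      have hdvd := dvd_of_norm_one hA hp hcard Q hsgen hsin fun j x hx => by
        obtain ⟨e, he, hes⟩ := hsout x hx
        rw [hes, norm_mul, norm_mul, (hfx x hx).2.1, Complex.norm_conj, norm_irr_eq_one hA]
        rcases he with rfl | rfl <;> simp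
      obtain ⟨w, hw⟩ : (N : ℤ) ∣ S Q ^ (2 * L) - 1 := by
        refine dvd_trans ?_ (pow_totient_modEq (p := p) (n := n) hSnp)
        rw [← Nat.cast_pow, ← hcard]
        exact Int.natCast_dvd_natCast.mpr Q.index_dvd_card
      have hS1 : S Q ^ (2 * L) = S Q ^ (2 * L - 1) * S Q := by
        rw [← pow_succ, Nat.sub_add_cancel hL]
      obtain ⟨ε, hε, c, hc⟩ : ∃ ε : ℤ, (ε = 1 ∨ ε = -1) ∧ (N : ℤ) ∣ ε * M Q - S Q := by
        rcases hdvd with ⟨v, hv⟩ | ⟨v, hv⟩
        · exact ⟨1, Or.inl rfl, S Q * v - (M Q : ℤ) * w, by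
            linear_combination S Q * hv - (M Q : ℤ) * hw + (M Q : ℤ) * hS1 - S Q * ht₀⟩
        · exact ⟨-1, Or.inr rfl, -(S Q * v) + (M Q : ℤ) * w, by
            linear_combination -(S Q) * hv + (M Q : ℤ) * hw - (M Q : ℤ) * hS1 + S Q * ht₀⟩
      refine ⟨c, fun e => absurd e hQt, ?_, ?_⟩
      · rw [show c * (N : ℤ) + S Q = ε * M Q by linear_combination -hc]
        rcases hε with rfl | rfl <;> simp
      · rw [add_sub_assoc]
        exact Int.dvd_add (dvd_mul_of_dvd_right (hpdvd Q hQt) _) hSp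
    choose! c hc using step
    refine ⟨fun K => if K ≠ ⊥ ∧ K.index = d + 1 then c K else a K, ?_, fun Q hQ hQd => ?_⟩
    · dsimp only
      split_ifs with h
      exacts [(hc ⊤ h.1 h.2).1 rfl, hatop]
    rw [hsplit]
    have hSQ : ∑ K : Subgroup A with Q < K,
        (if K ≠ ⊥ ∧ K.index = d + 1 then c K else a K) * (K.index : ℤ) = S Q :=
      Finset.sum_congr rfl fun K hK => by
        rw [if_neg]
        intro h
        have := Subgroup.index_strictAnti (Finset.mem_filter.mp hK).2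
        omega
    rw [hSQ]
    rcases Nat.lt_or_eq_of_le hQd with hlt | heq
    · rw [if_neg fun h => by omega]
      have := ha Q hQ (Nat.lt_succ_iff.mp hlt)
      rwa [hsplit] at this
    · rw [if_pos ⟨hQ, heq⟩]
      exact (hc Q hQ heq).2

open Classical in
/-- Stable signs. -/
theorem exists_stable_sign (hA : ∀ a b : A, a * b = b * a) {n : ℕ} (hcard : Nat.card A = p ^ n)
    {M : Subgroup A → ℕ} (htop : ¬ p ∣ M ⊤) (hloc : HasLocalChars M) (E : Subgroup (MulAut A))
    (hE : ¬ p ∣ Nat.card E)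
    (hinv : ∀ w ∈ E, ∀ x : A, M (Subgroup.zpowers (w x)) = M (Subgroup.zpowers x)) :
    ∃ ω : A → ℤ, (∀ x, ω x = 1 ∨ ω x = -1) ∧ (∀ w ∈ E, ∀ x, ω (w x) = ω x) ∧
      (∀ x, x ≠ 1 → ¬ p ∣ M (Subgroup.zpowers x)) ∧
      ∀ f d : A → ℂ, IsGeneralizedCharacter A f → (∀ x, x ≠ 1 → IsIntegral ℤ (d x)) →
        (∀ x, x ≠ 1 → f x = M (Subgroup.zpowers x) * d x) →
          ∃ F, IsGeneralizedCharacter A F ∧ ∀ x, x ≠ 1 → F x = (ω x : ℂ) * d x := by
  have hp : p.Prime := Fact.out
  have : Finite (MulAut A) := Finite.of_injective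
    (fun w : MulAut A => (w : A → A)) DFunLike.coe_injective
  have : Fintype E := Fintype.ofFinite _
  obtain ⟨h, H, hh, hHgen, hHx⟩ := exists_signs hA hcard htop hloc
  have hne : ∀ x : A, x ≠ 1 → Subgroup.zpowers x ≠ ⊥ := fun x hx => by simpa using hx
  have hnp : ∀ Q : Subgroup A, Q ≠ ⊥ → ¬ (p : ℤ) ∣ h Q := fun Q hQ hd => htop
    (Int.natCast_dvd_natCast.mp (by simpa using Int.dvd_sub hd (hh Q hQ).2))
  have hMp : ∀ x : A, x ≠ 1 → ¬ p ∣ M (Subgroup.zpowers x) := fun x hx hd =>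
    hnp _ (hne x hx) (Int.natCast_dvd.mpr ((hh _ (hne x hx)).1.symm ▸ hd))
  -- an invariant odd power
  obtain ⟨k, hk, hh', H', hH'gen, hH'x, habs, hinv'⟩ : ∃ (k : ℕ), Odd k ∧
      ∃ (hh' : Subgroup A → ℤ) (H' : A → ℤ), IsGeneralizedCharacter A (fun x => (H' x : ℂ)) ∧
        (∀ x, x ≠ 1 → H' x = hh' (Subgroup.zpowers x)) ∧
        (∀ x, x ≠ 1 → (hh' (Subgroup.zpowers x)).natAbs = M (Subgroup.zpowers x) ^ k) ∧
        ∀ w ∈ E, ∀ x, hh' (Subgroup.zpowers (w x)) = hh' (Subgroup.zpowers x) := by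
    have hmap : ∀ (w : MulAut A) (x : A),
        (Subgroup.zpowers x).map w.toMonoidHom = Subgroup.zpowers (w x) := fun w x =>
      MonoidHom.map_zpowers w.toMonoidHom x
    have hw1 : ∀ (w : MulAut A) {x : A}, x ≠ 1 → w x ≠ 1 := fun w x hx e =>
      hx (w.injective (e.trans (map_one w).symm))
    rcases Nat.even_or_odd (Nat.card E) with he | ho
    · refine ⟨1, odd_one, h, H, hHgen, hHx, fun x hx => by rw [(hh _ (hne x hx)).1, pow_one],
        fun w hw x => ?_⟩
      rcases eq_or_ne x 1 with rfl | hx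
      · rw [map_one]
      obtain ⟨h1, h2⟩ := hh _ (hne _ (hw1 w hx))
      obtain ⟨h3, h4⟩ := hh _ (hne x hx)
      rw [hinv w hw x, ← h3] at h1
      rcases Int.natAbs_eq_natAbs_iff.mp h1 with e | e
      · exact e
      exfalso
      have h5 : (p : ℤ) ∣ 2 := by
        have := Int.dvd_add h2 h4
        rw [e, show -h (Subgroup.zpowers x) - M ⊤ + (h (Subgroup.zpowers x) - M ⊤) =
          -(2 * (M ⊤ : ℤ)) by ring, dvd_neg] at this
        exact ((Nat.prime_iff_prime_int.mp hp).dvd_or_dvd this).resolve_right fun h =>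
          htop (Int.natCast_dvd_natCast.mp h)
      exact hE ((Nat.prime_dvd_prime_iff_eq hp Nat.prime_two).mp (by exact_mod_cast h5) ▸
        even_iff_two_dvd.mp he)
    · refine ⟨Nat.card E, ho, fun C => ∏ w : E, h (C.map (w : MulAut A).toMonoidHom),
        fun x => ∏ w : E, H ((w : MulAut A) x), ?_, fun x hx => ?_, fun x hx => ?_,
        fun w hw x => ?_⟩
      · push_cast
        refine Finset.prod_induction (fun w : E => fun x => (H ((w : MulAut A) x) : ℂ))
          (fun F => IsGeneralizedCharacter A F) (fun a b => Char.isGeneralized_mul)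
          Char.isGeneralized_one (s := Finset.univ) (fun w _ =>
            Char.isGeneralized_comp (w : MulAut A).toMonoidHom hHgen) |> fun hprod => ?_
        convert hprod using 1
        funext x
        rw [Finset.prod_apply]
      · exact Finset.prod_congr rfl fun w _ => by rw [hmap, hHx _ (hw1 _ hx)]
      · simp only [show ∀ F : E → ℤ, (∏ w, F w).natAbs = ∏ w, (F w).natAbs from
          fun F => map_prod Int.natAbsHom F Finset.univ]
        rw [Finset.prod_congr rfl (g := fun _ => M (Subgroup.zpowers x)) fun w _ => by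
          rw [hmap, (hh _ (hne _ (hw1 _ hx))).1, hinv _ w.2 x],
          Finset.prod_const, Finset.card_univ, Nat.card_eq_fintype_card]
      · simp only [hmap]
        exact Fintype.prod_equiv (Equiv.mulRight (⟨w, hw⟩ : E)) _ _ fun v => rfl
  refine ⟨fun x => if hh' (Subgroup.zpowers x) < 0 then -1 else 1,
    fun x => by dsimp only; split_ifs <;> simp, fun w hw x => by simp only [hinv' w hw x], hMp,
    fun f d hf hd hfd => ?_⟩
  set L := Nat.totient (p ^ n)
  obtain ⟨q, hq⟩ : ∃ q, k + 1 = 2 * q := by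
    obtain ⟨b, rfl⟩ := hk; exact ⟨b + 1, by omega⟩
  have hL : 1 ≤ L := Nat.totient_pos.mpr (Nat.pow_pos hp.pos)
  set j := q * (L - 1)
  have hj : k + 1 + 2 * j = 2 * L * q := by
    obtain ⟨L', hL'⟩ := Nat.exists_eq_succ_of_ne_zero (Nat.one_le_iff_ne_zero.mp hL)
    simp only [j, hL', Nat.succ_eq_add_one, Nat.add_sub_cancel]
    rw [hq]; ring
  set F₀ : A → ℂ := fun x => f x * (H' x : ℂ) * (H x : ℂ) ^ (2 * j)
  have hpow : ∀ e : ℕ, IsGeneralizedCharacter A (fun x => (H x : ℂ) ^ e) := fun e => by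
    induction e with
    | zero => simpa using Char.isGeneralized_one (G := A)
    | succ e ih => simp only [pow_succ]; exact Char.isGeneralized_mul ih hHgen
  have hF₀ : IsGeneralizedCharacter A F₀ :=
    Char.isGeneralized_mul (Char.isGeneralized_mul hf hH'gen) (hpow _)
  let r : Subgroup A → ℚ := fun C => if C = ⊥ then (H' 1 : ℚ) * (H 1 : ℚ) ^ (2 * j) else
    (((if hh' C < 0 then -1 else 1 : ℤ)) : ℚ) / (M C : ℚ)
  set F : A → ℂ := fun x => (r (Subgroup.zpowers x) : ℂ) * f x with hF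
  have hFx : ∀ x, x ≠ 1 →
      F x = ((if hh' (Subgroup.zpowers x) < 0 then -1 else 1 : ℤ) : ℂ) * d x := by
    intro x hx
    have hM0 : (M (Subgroup.zpowers x) : ℂ) ≠ 0 :=
      Nat.cast_ne_zero.mpr fun e => hMp x hx (e ▸ dvd_zero p)
    simp only [F, r, if_neg (hne x hx), hfd x hx]
    split_ifs <;> (push_cast; field_simp)
  refine ⟨F, isGeneralized_of_congr hA hF₀ (exists_rat_classInner hf r) fun x => ?_, hFx⟩
  rcases eq_or_ne x 1 with rfl | hx
  · simp only [F, F₀, r, Subgroup.zpowers_one_eq_bot, if_true]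
    push_cast
    rw [show (H' 1 : ℂ) * (H 1 : ℂ) ^ (2 * j) * f 1 - f 1 * (H' 1 : ℂ) * (H 1 : ℂ) ^ (2 * j) = 0
      by ring, zero_div]
    exact isIntegral_zero
  obtain ⟨h1, h2⟩ := hh _ (hne x hx)
  set ε : ℤ := if hh' (Subgroup.zpowers x) < 0 then -1 else 1 with hε
  have hH' : H' x = ε * ((M (Subgroup.zpowers x) : ℤ)) ^ k := by
    rw [hH'x x hx, ← Nat.cast_pow, ← habs x hx, hε]
    split_ifs with hlt <;> omega
  have hH2 : (H x) ^ (2 * j) = ((M (Subgroup.zpowers x) : ℤ)) ^ (2 * j) := by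
    rw [hHx x hx, ← h1, Int.natCast_natAbs, (even_two_mul j).pow_abs]
  obtain ⟨z, hz⟩ : ((p : ℤ) ^ n) ∣ (M (Subgroup.zpowers x) : ℤ) ^ (k + 1 + 2 * j) - 1 := by
    rw [hj, pow_mul]
    exact dvd_trans (pow_totient_modEq (p := p) (n := n)
      fun hd => hMp x hx (Int.natCast_dvd_natCast.mp hd)) (sub_one_dvd_pow_sub_one _ _)
  have hz' := congrArg (fun w : ℤ => (w : ℂ)) hz
  push_cast at hz'
  rw [show (F x - F₀ x) / (Nat.card A : ℂ) = -((ε : ℂ) * d x * (z : ℂ)) by
    simp only [F₀, hFx x hx, hfd x hx]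
    rw [show (H x : ℂ) ^ (2 * j) = ((H x ^ (2 * j) : ℤ) : ℂ) by push_cast; rfl, hH2, hH', hcard,
      Nat.cast_pow, div_eq_iff (pow_ne_zero _ (Nat.cast_ne_zero.mpr hp.ne_zero)), ← hε]
    push_cast
    linear_combination -((ε : ℂ) * d x) * hz']
  exact (((isIntegral_algebraMap (R := ℤ) (A := ℂ) (x := ε)).mul (hd x hx)).mul
    (isIntegral_algebraMap (R := ℤ) (A := ℂ) (x := z))).neg

end CfsgLib.Blocks.FreeQuot
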