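import Cfsg.Agent.Lib.Char.Artin
import Cfsg.Agent.Lib.Char.Virtual
import Cfsg.Agent.Lib.Blocks.CentralChar
import Cfsg.Agent.Lib.Blocks.Sections
import Cfsg.Agent.Lib.Blocks.FreeQuotient.Signs
import Mathlib.NumberTheory.Basic
import Mathlib.Algebra.CharP.Lemmas

/-!
# Congruences of algebraic integers and powers of generalized characters of abelian `p`-groups

A generalized character of an abelian `p`-group whose degree is prime to `p` has a power which is
congruent to one modulo any given power of `p`, value by value.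
-/

set_option autoImplicit false
set_option linter.unusedSectionVars false

namespace CfsgLib.Blocks.FreeQuot

open Cfsg
open scoped ComplexConjugate CfsgLib.Char

/-- Congruence modulo `N` in the algebraic integers. -/
def CongMod (N : ℕ) (z w : ℂ) : Prop := ∃ r : ℂ, IsIntegral ℤ r ∧ z - w = (N : ℂ) * r

namespace CongMod

variable {N : ℕ} {z w z' w' y : ℂ}

theorem refl (N : ℕ) (z : ℂ) : CongMod N z z := ⟨0, isIntegral_zero, by ring⟩

theorem symm (h : CongMod N z w) : CongMod N w z := by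
  obtain ⟨r, hr, e⟩ := h
  exact ⟨-r, hr.neg, by linear_combination -e⟩

theorem trans (h : CongMod N z w) (h' : CongMod N w y) : CongMod N z y := by
  obtain ⟨r, hr, e⟩ := h
  obtain ⟨r', hr', e'⟩ := h'
  exact ⟨r + r', hr.add hr', by linear_combination e + e'⟩

theorem add (h : CongMod N z w) (h' : CongMod N z' w') : CongMod N (z + z') (w + w') := by
  obtain ⟨r, hr, e⟩ := h
  obtain ⟨r', hr', e'⟩ := h'
  exact ⟨r + r', hr.add hr', by linear_combination e + e'⟩

theorem mul_left (h : CongMod N z w) {a : ℂ} (ha : IsIntegral ℤ a) :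
    CongMod N (a * z) (a * w) := by
  obtain ⟨r, hr, e⟩ := h
  exact ⟨a * r, ha.mul hr, by linear_combination a * e⟩

theorem mul (h : CongMod N z w) (h' : CongMod N z' w') (hz : IsIntegral ℤ z)
    (hw' : IsIntegral ℤ w') : CongMod N (z * z') (w * w') := by
  have h2 : CongMod N (z * w') (w * w') := by simpa [mul_comm w'] using h.mul_left hw'
  exact (h'.mul_left hz).trans h2

theorem pow (h : CongMod N z w) (hz : IsIntegral ℤ z) (hw : IsIntegral ℤ w) (k : ℕ) :
    CongMod N (z ^ k) (w ^ k) := by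
  induction k with
  | zero => simpa using CongMod.refl N (1 : ℂ)
  | succ k ih => rw [pow_succ, pow_succ]; exact ih.mul h (hz.pow k) hw

theorem of_dvd {N : ℕ} {a b : ℤ} (h : (N : ℤ) ∣ a - b) : CongMod N (a : ℂ) (b : ℂ) := by
  obtain ⟨c, hc⟩ := h
  refine ⟨(c : ℂ), isIntegral_algebraMap (R := ℤ) (A := ℂ) (x := c), ?_⟩
  exact_mod_cast congrArg (fun t : ℤ => (t : ℂ)) hc

theorem isIntegral_div (h : CongMod N z w) (hN : N ≠ 0) : IsIntegral ℤ ((z - w) / (N : ℂ)) := by
  obtain ⟨r, hr, e⟩ := h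
  rwa [e, mul_div_cancel_left₀ _ (Nat.cast_ne_zero.mpr hN)]

theorem of_algInt {N : ℕ} {a b : integralClosure ℤ ℂ}
    (h : ((N : ℕ) : integralClosure ℤ ℂ) ∣ a - b) : CongMod N (a : ℂ) (b : ℂ) := by
  obtain ⟨c, hc⟩ := h
  refine ⟨(c : ℂ), c.2, ?_⟩
  have := congrArg (fun t : integralClosure ℤ ℂ => (t : ℂ)) hc
  simpa using this

theorem toAlgInt {N : ℕ} {a b : integralClosure ℤ ℂ} (h : CongMod N (a : ℂ) (b : ℂ)) :
    ((N : ℕ) : integralClosure ℤ ℂ) ∣ a - b := by
  obtain ⟨r, hr, e⟩ := h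
  exact ⟨⟨r, hr⟩, Subtype.ext (by simpa using e)⟩

/-- Congruences lift along `p`-th powers. -/
theorem pow_prime_pow {p : ℕ} {z w : ℂ} (h : CongMod p z w) (hz : IsIntegral ℤ z)
    (hw : IsIntegral ℤ w) (k : ℕ) : CongMod (p ^ (k + 1)) (z ^ p ^ k) (w ^ p ^ k) := by
  have h2 := dvd_sub_pow_of_dvd_sub (toAlgInt (a := ⟨z, hz⟩) (b := ⟨w, hw⟩) h) k
  have h3 := of_algInt (N := p ^ (k + 1)) (a := (⟨z, hz⟩ : integralClosure ℤ ℂ) ^ p ^ k)
    (b := (⟨w, hw⟩ : integralClosure ℤ ℂ) ^ p ^ k) (by simpa using h2)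
  simpa using h3

theorem of_dvd_mod {N N' : ℕ} {z w : ℂ} (hd : N' ∣ N) (h : CongMod N z w) : CongMod N' z w := by
  obtain ⟨r, hr, e⟩ := h
  obtain ⟨k, rfl⟩ := hd
  refine ⟨(k : ℂ) * r, (isIntegral_algebraMap (R := ℤ) (A := ℂ) (x := (k : ℤ))).mul hr, ?_⟩
  rw [e]; push_cast; ring

end CongMod

theorem pow_sum_congMod {p : ℕ} (hp : p.Prime) (n : ℕ) {κ : Type*} (s : Finset κ)
    (f : κ → ℂ) (hf : ∀ i ∈ s, IsIntegral ℤ (f i)) :
    CongMod p ((∑ i ∈ s, f i) ^ p ^ n) (∑ i ∈ s, f i ^ p ^ n) := by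
  classical
  induction s using Finset.induction with
  | empty => rw [Finset.sum_empty, Finset.sum_empty, zero_pow (pow_pos hp.pos n).ne']
             exact CongMod.refl p 0
  | insert i s hi ih =>
    rw [Finset.sum_insert hi, Finset.sum_insert hi]
    set a : integralClosure ℤ ℂ := ⟨f i, hf i (Finset.mem_insert_self i s)⟩
    set b : integralClosure ℤ ℂ := ⟨∑ j ∈ s, f j,
      IsIntegral.sum _ fun j hj => hf j (Finset.mem_insert_of_mem hj)⟩
    obtain ⟨r, hr⟩ := Commute.exists_add_pow_prime_pow_eq hp (Commute.all a b) n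
    have h1 := CongMod.of_algInt (N := p) (a := (a + b) ^ p ^ n) (b := a ^ p ^ n + b ^ p ^ n)
      ⟨a * b * r, by rw [hr]; ring⟩
    simp only [Subalgebra.coe_pow, Subalgebra.coe_add, a, b] at h1
    exact h1.trans ((CongMod.refl p _).add (ih fun j hj => hf j (Finset.mem_insert_of_mem hj)))

variable {A : Type*} [Group A] [Fintype A]

theorem isIntegral_generalized {f : A → ℂ} (hf : IsGeneralizedCharacter A f) (x : A) :
    IsIntegral ℤ (f x) := by
  obtain ⟨c, rfl⟩ := Char.isGeneralized_iff.mp hf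
  simp only [Finset.sum_apply, Pi.smul_apply, smul_eq_mul]
  exact IsIntegral.sum _ fun ψ _ => (isIntegral_algebraMap (R := ℤ) (A := ℂ) (x := c ψ)).mul
    (irr_isIntegral ψ.2 x)

theorem exists_int_at_one {f : A → ℂ} (hA : ∀ a b : A, a * b = b * a)
    (hf : IsGeneralizedCharacter A f) : ∃ m : ℤ, f 1 = (m : ℂ) := by
  obtain ⟨c, rfl⟩ := Char.isGeneralized_iff.mp hf
  refine ⟨∑ ψ, c ψ, ?_⟩
  push_cast
  rw [Finset.sum_apply]
  exact Finset.sum_congr rfl fun ψ _ => by
    rw [Pi.smul_apply, Char.degree_one_of_comm hA, smul_eq_mul, mul_one]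

theorem isGeneralized_pow {f : A → ℂ} (hf : IsGeneralizedCharacter A f) (k : ℕ) :
    IsGeneralizedCharacter A (fun x => f x ^ k) := by
  induction k with
  | zero => simpa using Char.isGeneralized_one (G := A)
  | succ k ih =>
    simp only [pow_succ]
    exact Char.isGeneralized_mul ih hf

/-- Generalized characters of a `p`-group are constant modulo the maximal ideal. -/
theorem memLocalIdeal_sub_one {p : ℕ} {M : Ideal AlgInt} [M.IsPrime] (hM : IsPModular p M)
    (hA : ∀ a b : A, a * b = b * a) (hp : IsPGroup p A) {f : A → ℂ}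
    (hf : IsGeneralizedCharacter A f) (x : A) : MemLocalIdeal M (f x - f 1) := by
  have : Fact p.Prime := ⟨hM.1⟩
  obtain ⟨c, rfl⟩ := Char.isGeneralized_iff.mp hf
  simp only [Finset.sum_apply, Pi.smul_apply, smul_eq_mul, ← Finset.sum_sub_distrib, ← mul_sub]
  refine memLocalIdeal_sum _ _ fun ψ _ =>
    memLocalIdeal_mul_left (memLocalRing_intCast _) ?_
  try rw [Char.degree_one_of_comm hA]
  have h := res_value_mul_pElement hM ψ.2 (Commute.one_right x) (IsPGroup.iff_orderOf.mp hp x)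
  rw [mul_one, Char.degree_one_of_comm hA] at h
  exact (res_eq_iff (memLocalRing_of_isIntegral (irr_isIntegral ψ.2 x)) memLocalRing_one).mp h

/-- A power congruent to one. -/
theorem exists_pow_congMod_one {p : ℕ} [Fact p.Prime] (hA : ∀ a b : A, a * b = b * a) {n : ℕ}
    (hcard : Nat.card A = p ^ n) {f : A → ℂ} (hf : IsGeneralizedCharacter A f) {m : ℤ}
    (hm : f 1 = (m : ℂ)) (hpm : ¬ (p : ℤ) ∣ m) :
    ∃ L : ℕ, 1 ≤ L ∧ ∀ x, CongMod (p ^ n) (f x ^ L) 1 := by
  have hp : p.Prime := Fact.out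
  set φ := 2 * Nat.totient (p ^ n)
  refine ⟨p ^ n * (p ^ n * φ), ?_, fun x => ?_⟩
  · have := Nat.totient_pos.mpr (pow_pos hp.pos n)
    have := pow_pos hp.pos n
    simp only [φ]
    exact Nat.one_le_iff_ne_zero.mpr (by positivity)
  obtain ⟨c, rfl⟩ := Char.isGeneralized_iff.mp hf
  set S : ℤ := ∑ ψ, c ψ ^ p ^ n
  have hψ : ∀ ψ : IrrCharacter A, (ψ : A → ℂ) x ^ p ^ n = 1 := fun ψ => by
    rw [← Char.linearHom_apply (Char.isCharacter_of_isIrr ψ.2) (Char.degree_one_of_comm hA ψ),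
      ← Units.val_pow_eq_pow_val, ← map_pow, ← hcard, pow_card_eq_one', map_one, Units.val_one]
  have hpt : ∀ y : A, (∑ ψ : IrrCharacter A, (c ψ : ℂ) • (ψ : A → ℂ)) y =
      ∑ ψ : IrrCharacter A, (c ψ : ℂ) * (ψ : A → ℂ) y := fun y => by
    simp [Finset.sum_apply]
  rw [hpt] at hm ⊢
  simp only [Char.degree_one_of_comm hA, mul_one] at hm
  have hint : ∀ ψ ∈ (Finset.univ : Finset (IrrCharacter A)),
      IsIntegral ℤ ((c ψ : ℂ) * (ψ : A → ℂ) x) := fun ψ _ =>
    (isIntegral_algebraMap (R := ℤ) (A := ℂ) (x := c ψ)).mul (irr_isIntegral ψ.2 x)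
  have h1 := pow_sum_congMod hp n _ _ hint
  simp only [mul_pow, hψ, mul_one] at h1
  have h2 : CongMod p (((m ^ p ^ n : ℤ)) : ℂ) (∑ ψ : IrrCharacter A, (c ψ : ℂ) ^ p ^ n) := by
    push_cast
    rw [← hm]
    exact pow_sum_congMod hp n _ _ fun ψ _ =>
      isIntegral_algebraMap (R := ℤ) (A := ℂ) (x := c ψ)
  have h3 := h1.trans h2.symm
  have hi : IsIntegral ℤ ((∑ ψ : IrrCharacter A, (c ψ : ℂ) * (ψ : A → ℂ) x) ^ p ^ n) :=
    (IsIntegral.sum _ hint).pow _
  have hi' : IsIntegral ℤ ((m ^ p ^ n : ℤ) : ℂ) := isIntegral_algebraMap (R := ℤ) (A := ℂ) (x := _)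
  have h4 := ((h3.pow_prime_pow hi hi' n).of_dvd_mod (dvd_pow_self' p n)).pow (hi.pow _) (hi'.pow _) φ
  rw [← pow_mul, ← pow_mul] at h4
  refine h4.trans ?_
  rw [← Int.cast_pow, ← Int.cast_pow, ← Int.cast_one]
  refine CongMod.of_dvd ?_
  rw [Nat.cast_pow, ← pow_mul m]
  exact pow_totient_modEq fun hd => hpm ((Nat.prime_iff_prime_int.mp hp).dvd_of_dvd_pow hd)
where
  dvd_pow_self' (p n : ℕ) : p ^ n ∣ p ^ (n + 1) := ⟨p, pow_succ p n⟩

end CfsgLib.Blocks.FreeQuot
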