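import Cfsg.Agent.Lib.Blocks.FreeQuotient.LocalIdem
import Cfsg.Agent.Lib.Blocks.FreeQuotient.Free

/-!
# Weighted columns are generalized characters of the defect group

With a weight `N` depending only on the cyclic subgroup and prime to `p`, the function
`u ↦ N ⟨u⟩ * col u χ` off the identity is the restriction of a character of `P`.
-/

set_option autoImplicit false
set_option linter.unusedSectionVars false

namespace CfsgLib.Blocks.FreeQuot

open Cfsg CfsgLib.GrpRing
open scoped ComplexConjugate CfsgLib.Char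

variable {p : ℕ} {M : Ideal AlgInt} [M.IsPrime]

/-- A character of a `p`-group is constant modulo the maximal ideal. -/
theorem res_character_pgroup (hM : IsPModular p M) {Q : Type*} [Group Q] [Fintype Q]
    (hQ : IsPGroup p Q) {f : Q → ℂ} (hf : IsCharacter Q f) (u : Q) :
    res M (f u) = res M (f 1) := by
  classical
  have : Fact p.Prime := ⟨hM.1⟩
  obtain ⟨m, rfl⟩ := Char.exists_multiplicities hf
  have hint : ∀ (ψ : IrrCharacter Q) (x : Q), MemLocalRing M ((ψ : Q → ℂ) x) := fun ψ x =>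
    memLocalRing_of_isIntegral (irr_isIntegral ψ.2 x)
  simp only [Finset.sum_apply, Pi.smul_apply, smul_eq_mul]
  rw [res_sum _ _ fun ψ _ => memLocalRing_mul (memLocalRing_natCast _) (hint ψ u),
    res_sum _ _ fun ψ _ => memLocalRing_mul (memLocalRing_natCast _) (hint ψ 1)]
  refine Finset.sum_congr rfl fun ψ _ => ?_
  rw [res_mul (memLocalRing_natCast _) (hint ψ u), res_mul (memLocalRing_natCast _) (hint ψ 1)]
  congr 1
  conv_lhs => rw [← mul_one u]
  exact res_value_mul_pElement hM ψ.2 (Commute.one_right u) (IsPGroup.iff_orderOf.mp hQ u)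

variable {G : Type*} [Group G] [Fintype G] {P : Subgroup G}
  {c : Set (IrrCharacter (Subgroup.centralizer (P : Set G)))} {B : Set (IrrCharacter G)}

theorem isIntegral_col {u : G} (χ : IrrCharacter G) : IsIntegral ℤ (col p M P c u χ) := by
  classical
  let := Fintype.ofFinite (cz u)
  obtain ⟨F, hF, hFv⟩ := exists_character_dcol (cz_eq u) (bk p M P c u) χ
  rw [col_eq, ← hFv ⟨u, Subgroup.mem_zpowers u⟩]
  obtain ⟨m, rfl⟩ := Char.exists_multiplicities hF
  simp only [Finset.sum_apply, Pi.smul_apply, smul_eq_mul]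
  exact IsIntegral.sum _ fun ψ _ => (isIntegral_algebraMap (R := ℤ) (A := ℂ) (x := (m ψ : ℤ))).mul
    (irr_isIntegral ψ.2 _)

/-- The column through the block of the cyclic subgroup. -/
theorem col_of_zpowers_eq (hM : IsPModular p M) (hPe : IsBrauerPair p M P c) {v : G} (hv : v ∈ P)
    {U : Subgroup G} [Fintype (Subgroup.centralizer (U : Set G))] (hU : Subgroup.zpowers v = U)
    {f : Set (IrrCharacter (Subgroup.centralizer (U : Set G)))}
    (hf : PairLE p M ⟨U, f⟩ ⟨P, c⟩) (χ : IrrCharacter G) :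
    col p M P c v χ = dcol (Subgroup.centralizer (U : Set G)) v f (χ : G → ℂ) := by
  subst hU
  rw [eq_of_le_top hM hPe hf (bk_le hM hPe hv), col_eq]

/-- The weights. -/
theorem exists_weight (hM : IsPModular p M) (hmax : IsMaximalBrauerPair p M B P c)
    (hab : ∀ x ∈ P, ∀ y ∈ P, x * y = y * x)
    (hfree : ∀ g ∈ blockT P c, ∀ x ∈ P, x ≠ 1 → g * x * g⁻¹ = x →
      g ∈ Subgroup.centralizer (P : Set G))
    {χ₀ : IrrCharacter G} (hχ₀ : χ₀ ∈ B) (h0 : blockHeight p B (χ₀ : G → ℂ) = 0) :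
    ∃ N : Subgroup G → ℕ,
      (∀ u ∈ P, u ≠ 1 → ¬ p ∣ N (Subgroup.zpowers u) ∧
        ¬ MemLocalIdeal M (col p M P c u χ₀)) ∧
      ∀ χ : IrrCharacter G, ∃ F : P → ℂ, IsGeneralizedCharacter P F ∧
        ∀ u : P, u ≠ 1 → F u = (N (Subgroup.zpowers (u : G)) : ℂ) * col p M P c (u : G) χ := by
  classical
  have : Fact p.Prime := ⟨hM.1⟩
  have := charP_resField hM
  have hPe := hmax.1.1
  have hPp : IsPGroup p P := hPe.1
  obtain ⟨e, he, hei, hbad, hsum⟩ := exists_local_idem hM hmax hab hχ₀ h0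
  obtain ⟨E, hE, hEi, hEr⟩ := exists_lift_idempotent' hei he
  have hN : ∀ U : Subgroup G, ∃ N : ℕ, ∀ v ∈ P, v ≠ 1 → Subgroup.zpowers v = U →
      ∀ χ : IrrCharacter G, blkTrace (χ : G → ℂ) v e = col p M P c v χ * N := by
    intro U
    by_cases h : ∃ v ∈ P, v ≠ 1 ∧ Subgroup.zpowers v = U
    swap
    · exact ⟨0, fun v hv h1 h2 => absurd ⟨v, hv, h1, h2⟩ h⟩
    obtain ⟨v₀, hv₀, hv1, rfl⟩ := h
    let := Fintype.ofFinite (cz v₀)
    obtain ⟨huni, -⟩ := bk_uni_card hM hmax hab hfree hv₀ hv1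
    have hb := bk_isBlock hM hPe hv₀
    obtain ⟨ξ, hξ⟩ := IsPBlock.nonempty hb
    set b := bk p M P c v₀
    have hUP : Subgroup.zpowers v₀ ≤ P := Subgroup.zpowers_le.mpr hv₀
    have hUp : IsPGroup p (Subgroup.zpowers v₀) := hPp.to_le hUP
    have heU : e ∈ fixAlg (ResField M) (Subgroup.zpowers v₀ : Set G) :=
      fixAlg_anti (fun x hx => hUP hx) he
    set j := trunc (Subgroup.zpowers v₀) e with hjdef
    have hjb : j * blkK M (cz v₀) b = j := by
      conv_rhs => rw [← mul_one j, ← sum_blkK_subBlocks (M := M) (cz v₀), Finset.mul_sum]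
      rw [Finset.sum_eq_single_of_mem b (mem_subBlocks.mpr hb)]
      intro g hg hne
      exact hbad _ g hUP (mem_subBlocks.mp hg)
        fun hle => hne (eq_of_le_top hM hPe hle (bk_le hM hPe hv₀))
    obtain ⟨N, -, hN⟩ := exists_trace_idem hM hb huni hξ
      (isIdempotentElem_trunc hUp heU hei) (fun g hg => coeff_trunc_of_notMem e hg) hjb
    refine ⟨N, fun v hv hv' hvU χ => ?_⟩
    have hvz : v ∈ Subgroup.zpowers v₀ := hvU ▸ Subgroup.mem_zpowers v
    have hcomm : ∀ h ∈ cz v₀, h * v = v * h := fun h hh => (hh v hvz).symm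
    rw [col_of_zpowers_eq hM hPe hv hvU (bk_le hM hPe hv₀) χ,
      ← hN v (fun q hq => hab q (hUP hq) v hv) hcomm (irr_classFunction χ)]
    obtain ⟨k, hk⟩ := exists_pow_orderOf_mem hM hPp ⟨v, hv⟩
    have h1 : ¬ p ∣ orderOf (1 : G) := by rw [orderOf_one]; exact hM.1.not_dvd_one
    have hpair : ∀ {z : KG M G}, z ∈ fixAlg (ResField M) ({v} : Set G) →
        z ∈ fixAlg (ResField M) ({v, 1} : Set G) := fun hz => mem_fixAlg.mpr fun s hs => by
      rcases hs with rfl | rfl
      · exact mem_fixAlg.mp hz _ rfl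
      · rw [GrpRing.dlt_one]; exact Commute.one_left _
    have hjv : j ∈ fixAlg (ResField M) ({v} : Set G) := trunc_mem_fixAlg
      (fun s hs => by rw [Set.mem_singleton_iff.mp hs]; exact Subgroup.le_normalizer hvz)
      (fixAlg_anti (Set.singleton_subset_iff.mpr hvz) heU)
    have h := blkTrace_eq_of_trunc_eq hM (Commute.one_right v) hk h1 (irr_classFunction χ)
      hei (isIdempotentElem_trunc hUp heU hei)
      (hpair (fixAlg_anti (Set.singleton_subset_iff.mpr hv) he)) (hpair hjv)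
      (by rw [hvU, ← hjdef, hjdef, trunc_idem])
    rwa [mul_one] at h
  choose N hN using hN
  have hF : ∀ χ : IrrCharacter G, IsCharacter P (fun u : P =>
      chiSum (χ : G → ℂ) (E * dlt (locRing M) (u : G))) := fun χ =>
    isCharacter_chiSum (Char.isCharacter_of_isIrr χ.2) P.subtype hEi fun u =>
      mem_fixAlg.mp hE _ u.2
  have hFu : ∀ (χ : IrrCharacter G) (u : P), u ≠ 1 →
      chiSum (χ : G → ℂ) (E * dlt (locRing M) (u : G)) =
        (N (Subgroup.zpowers (u : G)) : ℂ) * col p M P c (u : G) χ := fun χ u hu => by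
    rw [← blkTrace_red (irr_classFunction χ) hEi
      (fixAlg_anti (Set.singleton_subset_iff.mpr u.2) hE), hEr,
      hN _ (u : G) u.2 (fun h => hu (Subtype.ext h)) rfl χ, mul_comm]
  refine ⟨N, fun u hu hu1 => ?_, fun χ => ⟨_, Char.isGeneralized_of_isCharacter (hF χ), hFu χ⟩⟩
  have hint : ∀ g, MemLocalRing M ((χ₀ : G → ℂ) g) := fun g =>
    memLocalRing_of_isIntegral (irr_isIntegral χ₀.2 g)
  have hne : ¬ MemLocalIdeal M ((N (Subgroup.zpowers u) : ℂ) * col p M P c u χ₀) := by
    intro hmem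
    have h := res_character_pgroup hM hPp (hF χ₀) ⟨u, hu⟩
    rw [hFu χ₀ ⟨u, hu⟩ (fun h => hu1 (congrArg Subtype.val h)), res_eq_zero hmem] at h
    refine hsum ?_
    simp only [Subgroup.coe_one, GrpRing.dlt_one, mul_one] at h
    rw [h, chiSum, res_sum _ _ fun g _ => memLocalRing_mul (E.coeff g).2 (hint g)]
    refine Finset.sum_congr rfl fun g _ => ?_
    rw [res_mul (E.coeff g).2 (hint g), ← hEr, coeff_red]
    congr 1
    exact (res_mk (E.coeff g).2).symm
  refine ⟨fun hd => hne (memLocalIdeal_mul_right ((memLocalIdeal_natCast_iff hM).mpr hd)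
    (memLocalRing_of_isIntegral (isIntegral_col χ₀))), fun hmem => hne (memLocalIdeal_mul_left
    (memLocalRing_natCast _) hmem)⟩

end CfsgLib.Blocks.FreeQuot
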