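import Cfsg.Agent.Lib.Blocks.FreeQuotient.PairChar
import Cfsg.Agent.Lib.Blocks.FreeQuotient.Weighted
import Cfsg.Agent.Lib.Blocks.FreeQuotient.CongMod

/-!
# Stable signs which turn the columns into generalized characters of the defect group

For odd `p` there is a sign, constant on the orbits of the stabilizer and on the generators of each
cyclic subgroup, such that the signed columns are restrictions of generalized characters of `P`.
-/

set_option autoImplicit false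
set_option linter.unusedSectionVars false

namespace CfsgLib.Blocks.FreeQuot

open Cfsg
open scoped ComplexConjugate CfsgLib.Char

variable {p : ℕ} {M : Ideal AlgInt} [M.IsPrime] {G : Type*} [Group G] [Fintype G] {P : Subgroup G}
  {c : Set (IrrCharacter (Subgroup.centralizer (P : Set G)))} {B : Set (IrrCharacter G)}
  [DecidablePred (· ∈ B)]

open Classical in
/-- The sign. -/
theorem exists_colSign (hM : IsPModular p M) (hp2 : p ≠ 2)
    (hmax : IsMaximalBrauerPair p M B P c) (hab : ∀ x ∈ P, ∀ y ∈ P, x * y = y * x)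
    (hfree : ∀ g ∈ blockT P c, ∀ x ∈ P, x ≠ 1 → g * x * g⁻¹ = x →
      g ∈ Subgroup.centralizer (P : Set G)) :
    ∃ s : Subgroup P → ℤ, (∀ C, s C = 1 ∨ s C = -1) ∧
      (∀ w ∈ inertAut P c, ∀ u : P, s (Subgroup.zpowers (w u)) = s (Subgroup.zpowers u)) ∧
      ∀ χ : IrrCharacter G, ∃ F : P → ℂ, IsGeneralizedCharacter P F ∧
        ∀ u : P, u ≠ 1 → F u = (s (Subgroup.zpowers u) : ℂ) * col p M P c (u : G) χ := by
  have hp : p.Prime := hM.1
  have : Fact p.Prime := ⟨hp⟩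
  have hpz : Prime (p : ℤ) := Nat.prime_iff_prime_int.mp hp
  have hPe := hmax.1.1
  have hPp : IsPGroup p P := hPe.1
  have habP : ∀ a b : P, a * b = b * a := fun a b => Subtype.ext (hab _ a.2 _ b.2)
  obtain ⟨n, hn⟩ := IsPGroup.iff_card.mp hPp
  rcases eq_or_ne P ⊥ with hbot | hbot
  · refine ⟨fun _ => 1, fun _ => Or.inl rfl, fun _ _ _ => rfl, fun χ =>
      ⟨0, Char.isGeneralized_zero, fun u hu => absurd ?_ hu⟩⟩
    exact Subtype.ext (Subgroup.mem_bot.mp (hbot ▸ u.2))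
  obtain ⟨u₁, hu₁⟩ : ∃ u : P, u ≠ 1 := by
    obtain ⟨x, hx, hx1⟩ := P.bot_or_exists_ne_one.resolve_left hbot
    exact ⟨⟨x, hx⟩, fun h => hx1 (congrArg Subtype.val h)⟩
  obtain ⟨χ₀, hχ₀, h0⟩ := exists_blockHeight_eq_zero hM hmax.1.2.1
  obtain ⟨N, hN, hNF⟩ := exists_weight hM hmax hab hfree hχ₀ h0
  obtain ⟨F₀, hF₀g, hF₀⟩ := hNF χ₀
  obtain ⟨g₀, hg₀g, hg₀⟩ := exists_pairChar hM hmax hab hfree χ₀ χ₀
  let Nu : P → ℕ := fun u => N (Subgroup.zpowers (u : G))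
  let a : P → ℂ := fun u => col p M P c (u : G) χ₀
  have hu' : ∀ u : P, u ≠ 1 → (u : G) ≠ 1 := fun u hu h => hu (Subtype.ext h)
  have hNp : ∀ u : P, u ≠ 1 → ¬ p ∣ Nu u := fun u hu => (hN _ u.2 (hu' u hu)).1
  have hai : ∀ u : P, IsIntegral ℤ (a u) := fun u => isIntegral_col χ₀
  have hNi : ∀ u : P, IsIntegral ℤ (Nu u : ℂ) := fun u => by
    exact_mod_cast isIntegral_algebraMap (R := ℤ) (A := ℂ) (x := (Nu u : ℤ))
  have haM : ∀ u : P, u ≠ 1 → ¬ MemLocalIdeal M (a u) := fun u hu => (hN _ u.2 (hu' u hu)).2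
  obtain ⟨f1, hf1⟩ := exists_int_at_one habP hF₀g
  have hFc : ∀ u : P, u ≠ 1 → MemLocalIdeal M ((Nu u : ℂ) * a u - (f1 : ℂ)) := fun u hu => by
    rw [← hF₀ u hu, ← hf1]
    exact memLocalIdeal_sub_one hM habP hPp hF₀g u
  have hLR : ∀ {z : ℂ}, IsIntegral ℤ z → MemLocalRing M z := fun h => memLocalRing_of_isIntegral h
  -- invariance of the weights modulo `p`
  have hNinv : ∀ w ∈ inertAut P c, ∀ u : P, u ≠ 1 → (p : ℤ) ∣ (Nu (w u) : ℤ) - (Nu u : ℤ) := by
    intro w hw u hu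
    have hwu : w u ≠ 1 := fun h => hu (w.injective (h.trans (map_one w).symm))
    have h1 := hFc (w u) hwu
    rw [show a (w u) = a u from col_inertAut hM hPe hw u χ₀] at h1
    have h2 := memLocalIdeal_sub h1 (hFc u hu)
    rw [show (Nu (w u) : ℂ) * a u - (f1 : ℂ) - ((Nu u : ℂ) * a u - (f1 : ℂ)) =
      (((Nu (w u) : ℤ) - (Nu u : ℤ) : ℤ) : ℂ) * a u by push_cast; ring] at h2
    rcases memLocalIdeal_or_of_mul (memLocalRing_intCast _) (hLR (hai u)) h2 with h | h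
    · exact (memLocalIdeal_intCast_iff hM).mp h
    · exact absurd h (haM u hu)
  -- the square of the weight
  have hconjF : IsGeneralizedCharacter P (fun x => conj (F₀ x)) := Char.isGeneralized_conj hF₀g
  set h₀ : P → ℂ := fun x => F₀ x * conj (F₀ x) with hh₀
  have hh₀g : IsGeneralizedCharacter P h₀ := Char.isGeneralized_mul hF₀g hconjF
  have hh₀v : ∀ u : P, u ≠ 1 → h₀ u = (Nu u : ℂ) ^ 2 * g₀ u := fun u hu => by
    simp only [h₀, hF₀ u hu, map_mul, map_natCast, hg₀ u hu, Nu]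
    ring
  have hf1p : ¬ (p : ℤ) ∣ f1 := fun hd => by
    have h1 := memLocalIdeal_add (hFc u₁ hu₁) ((memLocalIdeal_intCast_iff hM).mpr hd)
    rw [sub_add_cancel] at h1
    rcases memLocalIdeal_or_of_mul (hLR (hNi u₁)) (hLR (hai u₁)) h1 with h | h
    · exact hNp u₁ hu₁ ((memLocalIdeal_natCast_iff hM).mp h)
    · exact haM u₁ hu₁ h
  obtain ⟨g1, hg1⟩ := exists_int_at_one habP hg₀g
  have hg1p : ¬ (p : ℤ) ∣ g1 := fun hd => by
    have h1 := memLocalIdeal_add (memLocalIdeal_sub_one hM habP hPp hg₀g u₁)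
      ((memLocalIdeal_intCast_iff hM).mpr hd)
    rw [hg1, sub_add_cancel] at h1
    have h2 : MemLocalIdeal M (h₀ u₁) := by
      rw [hh₀v u₁ hu₁]
      exact memLocalIdeal_mul_left (hLR ((hNi u₁).pow 2)) h1
    have h3 := memLocalIdeal_sub h2 (memLocalIdeal_sub_one hM habP hPp hh₀g u₁)
    rw [sub_sub_cancel, hh₀] at h3
    simp only [hf1, map_intCast, ← Int.cast_mul] at h3
    exact (hpz.dvd_or_dvd ((memLocalIdeal_intCast_iff hM).mp h3)).elim hf1p hf1p
  obtain ⟨L, hL1, hL⟩ := exists_pow_congMod_one habP hn hg₀g hg1 hg1p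
  set G₂ : P → ℂ := fun x => h₀ x * g₀ x ^ (L - 1) with hG₂
  have hG₂g : IsGeneralizedCharacter P G₂ := Char.isGeneralized_mul hh₀g (isGeneralized_pow hg₀g _)
  have hG₂v : ∀ u : P, u ≠ 1 → CongMod (p ^ n) ((Nu u : ℂ) ^ 2) (G₂ u) := fun u hu => by
    rw [show G₂ u = (Nu u : ℂ) ^ 2 * g₀ u ^ L by
      simp only [G₂, hh₀v u hu]
      rw [mul_assoc, ← pow_succ', Nat.sub_add_cancel hL1]]
    have h := (hL u).symm.mul_left ((hNi u).pow 2)
    rwa [mul_one] at h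
  have hsq : ∀ u : P, u ≠ 1 → (p : ℤ) ∣ (Nu u : ℤ) ^ 2 - (Nu u₁ : ℤ) ^ 2 := by
    intro u hu
    have key : ∀ v : P, v ≠ 1 → MemLocalIdeal M ((((Nu v : ℤ) ^ 2 : ℤ) : ℂ) - G₂ 1) := by
      intro v hv
      obtain ⟨r, hr, e⟩ := hG₂v v hv
      refine memLocalIdeal_sub_trans ?_ (memLocalIdeal_sub_one hM habP hPp hG₂g v)
      push_cast
      rw [e]
      refine memLocalIdeal_mul_right ((memLocalIdeal_natCast_iff hM).mpr ?_) (hLR hr)
      refine dvd_pow_self p fun h0' => hv ?_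
      have hc : Nat.card P = 1 := by rw [hn, h0', pow_zero]
      exact (Nat.card_eq_one_iff_unique.mp hc).1.elim v 1
    have h := memLocalIdeal_sub (key u hu) (key u₁ hu₁)
    rw [sub_sub_sub_cancel_right, ← Int.cast_sub] at h
    exact (memLocalIdeal_intCast_iff hM).mp h
  -- the sign
  set m₀ : ℤ := (Nu u₁ : ℤ) with hm₀
  have hm₀p : ¬ (p : ℤ) ∣ m₀ := fun h => hNp u₁ hu₁ (Int.natCast_dvd_natCast.mp h)
  let s : Subgroup P → ℤ := fun C =>
    if (p : ℤ) ∣ (N (C.map P.subtype) : ℤ) - m₀ then 1 else -1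
  have hsN : ∀ u : P, s (Subgroup.zpowers u) = if (p : ℤ) ∣ (Nu u : ℤ) - m₀ then 1 else -1 := by
    intro u
    simp only [s, MonoidHom.map_zpowers, Nu]
    rfl
  have hs1 : ∀ u : P, u ≠ 1 → (p : ℤ) ∣ s (Subgroup.zpowers u) * (Nu u : ℤ) - m₀ := by
    intro u hu
    rw [hsN]
    split_ifs with hd
    · rwa [one_mul]
    · have h := hsq u hu
      rw [sq_sub_sq] at h
      rcases hpz.dvd_or_dvd h with h' | h'
      · rw [show -1 * (Nu u : ℤ) - m₀ = -((Nu u : ℤ) + m₀) by ring, dvd_neg]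
        exact h'
      · exact absurd h' hd
  refine ⟨s, fun C => by simp only [s]; split_ifs <;> simp, fun w hw u => ?_, fun χ => ?_⟩
  · rcases eq_or_ne u 1 with rfl | hu
    · rw [map_one]
    · have h := hNinv w hw u hu
      rw [hsN, hsN]
      refine if_congr ⟨fun h' => ?_, fun h' => ?_⟩ rfl rfl
      · simpa using Int.dvd_sub h' h
      · simpa using Int.dvd_add h' h
  -- the inverse of `m₀`
  have hnot2 : Odd p := hp.odd_of_ne_two hp2
  obtain ⟨i₀, j₀, hij⟩ : ∃ i₀ j₀ : ℤ, i₀ * m₀ + j₀ * (p : ℤ) ^ n = 1 :=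
    ((hpz.coprime_iff_not_dvd.mpr hm₀p).symm.pow_right : IsCoprime m₀ ((p : ℤ) ^ n))
  obtain ⟨q, hq⟩ : ∃ q, p ^ n + 1 = 2 * q := by
    obtain ⟨k, hk⟩ := hnot2.pow (n := n)
    exact ⟨k + 1, by omega⟩
  set Hs : P → ℂ := fun x => (m₀ : ℂ) * ((i₀ : ℂ) ^ 2 * G₂ x) ^ q with hHs
  have hHsg : IsGeneralizedCharacter P Hs := by
    have h1 := Char.isGeneralized_intCast_smul hG₂g (i₀ ^ 2)
    have h2 := Char.isGeneralized_intCast_smul (isGeneralized_pow h1 q) m₀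
    convert h2 using 1
    funext x
    simp [Hs, Pi.smul_apply]
  have hint : ∀ z : ℤ, IsIntegral ℤ (z : ℂ) := fun z =>
    isIntegral_algebraMap (R := ℤ) (A := ℂ) (x := z)
  have hHsv : ∀ u : P, u ≠ 1 →
      CongMod (p ^ n) (((s (Subgroup.zpowers u) * (Nu u : ℤ) : ℤ)) : ℂ) (Hs u) := by
    intro u hu
    set y : ℤ := s (Subgroup.zpowers u) * (Nu u : ℤ) with hy
    have hy2 : y ^ 2 = (Nu u : ℤ) ^ 2 := by
      rw [hy, mul_pow, hsN]
      split_ifs <;> ring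
    have hx1 : (p : ℤ) ∣ y * i₀ - 1 := by
      have e : y * i₀ - 1 = (y - m₀) * i₀ - j₀ * (p : ℤ) ^ n := by linear_combination hij
      rw [e]
      refine Int.dvd_sub (dvd_mul_of_dvd_left (hs1 u hu) _) (dvd_mul_of_dvd_right ?_ _)
      refine dvd_pow_self _ fun h0' => hu ?_
      have hc : Nat.card P = 1 := by rw [hn, h0', pow_zero]
      exact (Nat.card_eq_one_iff_unique.mp hc).1.elim u 1
    have h2 : ((p : ℤ) ^ n) ∣ (y * i₀) ^ p ^ n - 1 := by
      have := dvd_sub_pow_of_dvd_sub (R := ℤ) (p := p) hx1 n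
      rw [one_pow] at this
      exact (pow_dvd_pow _ n.le_succ).trans this
    have hA : CongMod (p ^ n) (y : ℂ) ((m₀ * (i₀ ^ 2 * (Nu u : ℤ) ^ 2) ^ q : ℤ) : ℂ) := by
      refine CongMod.of_dvd ?_
      rw [Nat.cast_pow]
      have e : m₀ * (i₀ ^ 2 * (Nu u : ℤ) ^ 2) ^ q =
          m₀ * (y * i₀) * ((y * i₀) ^ p ^ n) := by
        rw [← hy2, show i₀ ^ 2 * y ^ 2 = (y * i₀) ^ 2 by ring, ← pow_mul, ← hq, pow_succ]
        ring
      rw [e]
      obtain ⟨t, ht⟩ := h2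
      exact ⟨y * j₀ - y * (m₀ * i₀) * t, by linear_combination -y * hij - m₀ * (y * i₀) * ht⟩
    refine hA.trans ?_
    push_cast
    refine ((((hG₂v u hu).mul_left ((hint i₀).pow 2)).pow (((hint i₀).pow 2).mul ((hNi u).pow 2))
      (((hint i₀).pow 2).mul (isIntegral_generalized hG₂g u)) q)).mul_left (hint m₀)
  obtain ⟨Fχ, hFg, hFχ⟩ := hNF χ
  set φ := 2 * Nat.totient (p ^ n)
  have hφ : 1 ≤ φ := by
    have := Nat.totient_pos.mpr (pow_pos hp.pos n)
    omega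
  obtain ⟨h1, hh1⟩ := exists_int_at_one habP hHsg
  let r : Subgroup P → ℚ := fun C =>
    if C = ⊥ then (h1 : ℚ) ^ (φ - 1) else (s C : ℚ) / (N (C.map P.subtype) : ℚ)
  set F : P → ℂ := fun x => (r (Subgroup.zpowers x) : ℂ) * Fχ x with hF
  have hFv : ∀ u : P, u ≠ 1 → F u = (s (Subgroup.zpowers u) : ℂ) * col p M P c (u : G) χ := by
    intro u hu
    have hne : (Nu u : ℂ) ≠ 0 := Nat.cast_ne_zero.mpr fun e => hNp u hu (e ▸ dvd_zero p)
    have hz : Subgroup.zpowers u ≠ ⊥ := by simpa using hu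
    simp only [F, r, if_neg hz, hFχ u hu, MonoidHom.map_zpowers]
    show ((((s (Subgroup.zpowers u) : ℚ) / (Nu u : ℚ)) : ℚ) : ℂ) * ((Nu u : ℂ) * _) = _
    push_cast
    field_simp
  refine ⟨F, isGeneralized_of_congr habP (Char.isGeneralized_mul hFg (isGeneralized_pow hHsg (φ - 1)))
    (exists_rat_classInner hFg r) fun u => ?_, hFv⟩
  have hpn : p ^ n ≠ 0 := (pow_pos hp.pos n).ne'
  rw [hn]
  refine CongMod.isIntegral_div ?_ hpn
  rcases eq_or_ne u 1 with rfl | hu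
  · show CongMod _ _ (Fχ 1 * Hs 1 ^ (φ - 1))
    simp only [F, r, Subgroup.zpowers_one_eq_bot, if_true, hh1]
    push_cast
    rw [mul_comm]
    exact CongMod.refl _ _
  set y : ℤ := s (Subgroup.zpowers u) * (Nu u : ℤ) with hy
  have hyp : ¬ (p : ℤ) ∣ y := fun hd => hm₀p (by
    have h := Int.dvd_sub hd (hs1 u hu)
    rwa [← hy, sub_sub_cancel] at h)
  have hai' : IsIntegral ℤ (col p M P c (u : G) χ) := isIntegral_col χ
  have hFi := isIntegral_generalized hFg u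
  show CongMod _ (F u) (Fχ u * Hs u ^ (φ - 1))
  refine CongMod.trans ?_ (((hHsv u hu).pow (hint y) (isIntegral_generalized hHsg u) (φ - 1)).mul_left hFi)
  rw [hFv u hu, hFχ u hu]
  have h3 : CongMod (p ^ n) ((1 : ℤ) : ℂ) ((y ^ φ : ℤ) : ℂ) := (CongMod.of_dvd (by
    rw [Nat.cast_pow]; exact pow_totient_modEq hyp)).symm
  have h4 := h3.mul_left ((hint (s (Subgroup.zpowers u))).mul hai')
  rw [Int.cast_one, mul_one] at h4
  refine h4.trans ?_
  have hs2 : (s (Subgroup.zpowers u) : ℂ) ^ 2 = 1 := by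
    rw [hsN]; split_ifs <;> simp
  rw [Int.cast_pow, show φ = φ - 1 + 1 by omega, pow_succ, Nat.add_sub_cancel]
  simp only [hy]
  push_cast
  have : (s (Subgroup.zpowers u) : ℂ) * col p M P c (u : G) χ *
      (((s (Subgroup.zpowers u) : ℂ) * (Nu u : ℂ)) ^ (φ - 1) *
        ((s (Subgroup.zpowers u) : ℂ) * (Nu u : ℂ))) =
      (Nu u : ℂ) * col p M P c (u : G) χ *
        ((s (Subgroup.zpowers u) : ℂ) * (Nu u : ℂ)) ^ (φ - 1) := by
    linear_combination ((Nu u : ℂ) * col p M P c (u : G) χ *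
      ((s (Subgroup.zpowers u) : ℂ) * (Nu u : ℂ)) ^ (φ - 1)) * hs2
  rw [this]
  exact CongMod.refl _ _

end CfsgLib.Blocks.FreeQuot
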