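import Cfsg.Agent.Lib.Blocks.Inflate
import Cfsg.Agent.Lib.Blocks.Idempotent
import Cfsg.Agent.Lib.Char.IntegerCoherence
import Cfsg.Agent.Lib.Char.Artin
import Cfsg.Agent.Lib.Char.Counting
import Cfsg.Agent.Lib.Char.Virtual
import Cfsg.Agent.Lib.Char.Table

/-!
# The lattice of a family of generalized characters constant on free orbits

An abelian group `A`, a group `E` of automorphisms without fixed points and generalized characters
`F i` which are stable under `E`, orthogonal between different orbits of norm `|A|` off the identity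
and orthogonal to positive degrees: there are at most `|E| + m` of them, `m` the number of orbits,
and with equality they are given by the sums over the orbits of linear characters and by signs.
-/

set_option autoImplicit false
set_option linter.unusedSectionVars false

namespace CfsgLib.Blocks.FreeQuot

open Cfsg
open scoped ComplexConjugate CfsgLib.Char

variable {A : Type*} [Group A] [Fintype A]

/-- The twist of a character by an automorphism. -/
noncomputable def twistIrr (w : MulAut A) (lam : IrrCharacter A) : IrrCharacter A :=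
  inflate w.toMonoidHom w.surjective lam

theorem twistIrr_apply (w : MulAut A) (lam : IrrCharacter A) (x : A) :
    (twistIrr w lam : A → ℂ) x = (lam : A → ℂ) (w x) := rfl

theorem twistIrr_mul (v w : MulAut A) (lam : IrrCharacter A) :
    twistIrr (v * w) lam = twistIrr w (twistIrr v lam) := Subtype.ext (funext fun _ => rfl)

theorem twistIrr_one (lam : IrrCharacter A) : twistIrr (1 : MulAut A) lam = lam :=
  Subtype.ext (funext fun _ => rfl)

theorem twistIrr_trivIrr (w : MulAut A) : twistIrr w (trivIrr A) = trivIrr A :=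
  Subtype.ext (funext fun _ => rfl)

variable (hA : ∀ a b : A, a * b = b * a)
include hA

theorem irr_map_mul (lam : IrrCharacter A) (x y : A) :
    (lam : A → ℂ) (x * y) = (lam : A → ℂ) x * (lam : A → ℂ) y := by
  rw [← Char.linearHom_apply (Char.isCharacter_of_isIrr lam.2) (Char.degree_one_of_comm hA lam),
    ← Char.linearHom_apply (Char.isCharacter_of_isIrr lam.2) (Char.degree_one_of_comm hA lam),
    ← Char.linearHom_apply (Char.isCharacter_of_isIrr lam.2) (Char.degree_one_of_comm hA lam),
    map_mul, Units.val_mul]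

/-- Automorphisms without fixed points fix only the trivial character. -/
theorem eq_trivIrr_of_twist_eq {w : MulAut A} (hw : ∀ x, w x = x → x = 1) {lam : IrrCharacter A}
    (h : twistIrr w lam = lam) : lam = trivIrr A := by
  have hinj : Function.Injective fun x => w x * x⁻¹ := by
    intro x y (hxy : w x * x⁻¹ = w y * y⁻¹)
    have h1 : w (x * y⁻¹) = x * y⁻¹ := by
      rw [map_mul, map_inv, show w x = w y * y⁻¹ * x from mul_inv_eq_iff_eq_mul.mp hxy, hA x y⁻¹,
        mul_assoc (w y), hA (w y), mul_inv_cancel_right]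
    exact mul_inv_eq_one.mp (hw _ h1)
  refine Subtype.ext (funext fun y => ?_)
  obtain ⟨x, rfl⟩ := (Finite.injective_iff_surjective.mp hinj) y
  show (lam : A → ℂ) (w x * x⁻¹) = 1
  rw [irr_map_mul hA, ← twistIrr_apply, h, ← irr_map_mul hA, mul_inv_cancel,
    Char.degree_one_of_comm hA]

omit hA

section Lattice

variable (E : Subgroup (MulAut A)) {ι : Type*} [Fintype ι] (F : ι → A → ℂ)

/-- The hypotheses. -/
structure IsLattice (d : ι → ℕ) : Prop where
  free : ∀ w ∈ E, w ≠ 1 → ∀ x, w x = x → x = 1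
  gen : ∀ i, IsGeneralizedCharacter A (F i)
  stab : ∀ i, ∀ w ∈ E, ∀ x, F i (w x) = F i x
  norm : ∀ x, x ≠ 1 → ∑ i, F i x * conj (F i x) = (Nat.card A : ℂ)
  orth : ∀ x y, x ≠ 1 → y ≠ 1 → (∀ w ∈ E, w x ≠ y) → ∑ i, F i x * conj (F i y) = 0
  pos : ∀ i, 0 < d i
  deg : ∀ x, x ≠ 1 → ∑ i, (d i : ℂ) * F i x = 0
  ne : ∀ i, ∃ x, x ≠ 1 ∧ F i x ≠ 0

/-- Nontrivial characters. -/
abbrev NTIrr (A : Type*) [Group A] := {lam : IrrCharacter A // lam ≠ trivIrr A}

/-- Being in one orbit. -/
def orbitSetoid : Setoid (NTIrr A) where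
  r a b := ∃ w ∈ E, twistIrr w a.1 = b.1
  iseqv :=
    { refl := fun a => ⟨1, one_mem _, twistIrr_one _⟩
      symm := fun {a b} ⟨w, hw, h⟩ => ⟨w⁻¹, inv_mem hw, by
        rw [← h, ← twistIrr_mul, mul_inv_cancel, twistIrr_one]⟩
      trans := fun {a b c} ⟨w, hw, h⟩ ⟨v, hv, h'⟩ => ⟨w * v, mul_mem hw hv, by
        rw [twistIrr_mul, h, h']⟩ }

noncomputable local instance fintypeOrbits : Fintype (Quotient (orbitSetoid (A := A) E)) :=
  Fintype.ofFinite _

noncomputable local instance fintypeAuts : Fintype E := Fintype.ofFinite _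

variable {E F} {d : ι → ℕ} (hA : ∀ a b : A, a * b = b * a) (L : IsLattice E F d)
include hA L

theorem IsLattice.twist_inj {lam : IrrCharacter A} (hl : lam ≠ trivIrr A) {v w : MulAut A}
    (hv : v ∈ E) (hw : w ∈ E) (h : twistIrr v lam = twistIrr w lam) : v = w := by
  by_contra hne
  refine hl (eq_trivIrr_of_twist_eq hA (L.free (v * w⁻¹) (mul_mem hv (inv_mem hw))
    (fun e => hne (mul_inv_eq_one.mp e))) ?_)
  rw [twistIrr_mul, h, ← twistIrr_mul, mul_inv_cancel, twistIrr_one]

/-- The orbits have the size of `E`. -/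
theorem IsLattice.card_orbits :
    Nat.card E * Nat.card (Quotient (orbitSetoid (A := A) E)) + 1 = Nat.card A := by
  classical
  have hone : Nat.card (IrrCharacter A) = Nat.card A := by
    have h := Char.sum_degree_mul_irr (1 : A)
    simp only [Char.degree_one_of_comm hA, mul_one, if_pos, Finset.sum_const, Finset.card_univ,
      nsmul_one] at h
    rw [Nat.card_eq_fintype_card]
    exact_mod_cast h
  let f : Quotient (orbitSetoid (A := A) E) × E → NTIrr A := fun x =>
    ⟨twistIrr x.2 x.1.out.1, fun h => x.1.out.2 (by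
      have := congrArg (twistIrr (x.2 : MulAut A)⁻¹) h
      rwa [← twistIrr_mul, mul_inv_cancel, twistIrr_one, twistIrr_trivIrr] at this)⟩
  have hinj : Function.Injective f := by
    rintro ⟨o, v⟩ ⟨o', w⟩ h
    have h' : twistIrr v o.out.1 = twistIrr w o'.out.1 := congrArg Subtype.val h
    obtain rfl : o = o' := by
      rw [← o.out_eq, ← o'.out_eq]
      refine Quotient.sound (show (orbitSetoid (A := A) E).r o.out o'.out from
          ⟨v * (w : MulAut A)⁻¹, mul_mem v.2 (inv_mem w.2), ?_⟩)
      rw [twistIrr_mul, h', ← twistIrr_mul, mul_inv_cancel, twistIrr_one]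
    exact Prod.ext rfl (Subtype.ext (L.twist_inj hA o.out.2 v.2 w.2 h'))
  have hsurj : Function.Surjective f := fun lam => by
    obtain ⟨w, hw, h⟩ := Quotient.mk_out (s := orbitSetoid (A := A) E) lam
    exact ⟨(⟦lam⟧, ⟨w, hw⟩), Subtype.ext h⟩
  have h := Nat.card_congr (Equiv.ofBijective f ⟨hinj, hsurj⟩)
  rw [Nat.card_prod, mul_comm] at h
  rw [h, ← hone, ← Finite.card_option]
  exact Nat.card_congr (Equiv.optionSubtypeNe (trivIrr A))

omit L in
theorem classInner_one_sub {μ lam : IrrCharacter A} (hμ : μ ≠ trivIrr A) (hl : lam ≠ trivIrr A) :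
    classInner ((trivIrr A : A → ℂ) - (μ : A → ℂ)) ((trivIrr A : A → ℂ) - (lam : A → ℂ)) =
      1 + (open Classical in if μ = lam then 1 else 0 : ℂ) := by
  classical
  rw [Char.classInner_sub_left, Char.classInner_sub_right, Char.classInner_sub_right,
    Char.classInner_coe, Char.classInner_coe, Char.classInner_coe, Char.classInner_coe,
    if_pos rfl, if_neg (Ne.symm hl), if_neg hμ]
  ring

/-- The coordinates. -/
theorem IsLattice.exists_coord :
    ∃ b : ι → IrrCharacter A → ℤ,
      (∀ i, ∀ w ∈ E, ∀ lam, b i (twistIrr w lam) = b i lam) ∧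
      (∀ o o' : Quotient (orbitSetoid (A := A) E), ∑ i, b i o.out.1 * b i o'.out.1 =
        (Nat.card E : ℤ) + (open Classical in if o = o' then 1 else 0)) ∧
      (∀ lam, ∑ i, b i lam * (d i : ℤ) = 0) ∧
      ∀ i x, x ≠ 1 → F i x = -∑ o : Quotient (orbitSetoid (A := A) E),
        (b i o.out.1 : ℂ) * ∑ w : E, (o.out.1 : A → ℂ) ((w : MulAut A) x) := by
  classical
  have hA0 : (Nat.card A : ℂ) ≠ 0 := Nat.cast_ne_zero.mpr Nat.card_pos.ne'
  set D : IrrCharacter A → A → ℂ := fun lam => (trivIrr A : A → ℂ) - (lam : A → ℂ) with hD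
  have hD1 : ∀ lam, D lam 1 = 0 := fun lam => by
    show (1 : ℂ) - _ = 0
    rw [Char.degree_one_of_comm hA, sub_self]
  have hgD : ∀ lam, IsGeneralizedCharacter A (D lam) := fun lam => by
    have h := Char.isGeneralized_add (Char.isGeneralized_of_isIrr (trivIrr A).2)
      (Char.isGeneralized_intCast_smul (Char.isGeneralized_of_isIrr lam.2) (-1))
    convert h using 1
    funext x
    simp [hD, sub_eq_add_neg]
  choose b hb using fun i lam => Char.exists_int_classInner (L.gen i) (hgD lam)
  have hbinv : ∀ i, ∀ w ∈ E, ∀ lam, b i (twistIrr w lam) = b i lam := fun i w hw lam => by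
    apply Int.cast_injective (α := ℂ)
    rw [← hb, ← hb, classInner, classInner]
    congr 1
    refine Fintype.sum_equiv w.toEquiv _ _ fun x => ?_
    show _ = F i (w x) * conj (D lam (w x))
    rw [L.stab i w hw x]
    rfl
  have hpair : ∀ lam μ, lam ≠ trivIrr A → μ ≠ trivIrr A → ∑ i, (b i lam * b i μ : ℤ) =
      (Nat.card E : ℤ) + ∑ w : E, if twistIrr w μ = lam then 1 else 0 := by
    intro lam μ hl hμ
    apply Int.cast_injective (α := ℂ)
    push_cast
    have hi : ∀ i, (b i lam : ℂ) * (b i μ : ℂ) = (Nat.card A : ℂ)⁻¹ * (Nat.card A : ℂ)⁻¹ *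
        ∑ x, ∑ y, F i x * conj (F i y) * (conj (D lam x) * D μ y) := fun i => by
      rw [show (b i μ : ℂ) = conj (b i μ : ℂ) by simp, ← hb, ← hb, classInner, classInner,
        map_mul, map_inv₀, Complex.conj_natCast, map_sum]
      rw [mul_mul_mul_comm, Finset.sum_mul_sum]
      congr 1
      refine Finset.sum_congr rfl fun x _ => Finset.sum_congr rfl fun y _ => ?_
      rw [map_mul, Complex.conj_conj]
      ring
    rw [Finset.sum_congr rfl fun i _ => hi i, ← Finset.mul_sum, Finset.sum_comm,
      Finset.sum_congr rfl fun x _ => Finset.sum_comm]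
    have hx : ∀ x, ∑ y, ∑ i, F i x * conj (F i y) * (conj (D lam x) * D μ y) =
        (Nat.card A : ℂ) * ∑ w : E, conj (D lam x) * D μ ((w : MulAut A) x) := by
      intro x
      rcases eq_or_ne x 1 with rfl | hx1
      · simp [hD1]
      simp only [← Finset.sum_mul]
      set O : Finset A := (Finset.univ : Finset E).image fun w : E => (w : MulAut A) x with hO
      have hout : ∀ y ∉ O, (∑ i, F i x * conj (F i y)) * (conj (D lam x) * D μ y) = 0 := fun y hy => by
        rcases eq_or_ne y 1 with rfl | hy1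
        · rw [hD1, mul_zero, mul_zero]
        · rw [L.orth x y hx1 hy1 (fun w hw e => hy (Finset.mem_image.mpr
            ⟨⟨w, hw⟩, Finset.mem_univ _, e⟩)), zero_mul]
      rw [← Finset.sum_subset (Finset.subset_univ O) fun y _ => hout y, hO,
        Finset.sum_image fun v _ w _ e => by
          by_contra hne
          refine hx1 (L.free ((w : MulAut A)⁻¹ * v) (mul_mem (inv_mem w.2) v.2)
            (fun h => hne (Subtype.ext (inv_mul_eq_one.mp h).symm)) x ?_)
          show (w : MulAut A)⁻¹ ((v : MulAut A) x) = x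
          rw [show (v : MulAut A) x = (w : MulAut A) x from e]
          exact (w : MulAut A).symm_apply_apply x,
        Finset.mul_sum]
      refine Finset.sum_congr rfl fun w _ => ?_
      congr 1
      have h2 : ∀ i, F i ((w : MulAut A) x) = F i x := fun i => L.stab i w w.2 x
      simp only [h2]
      exact L.norm x hx1
    rw [Finset.sum_congr rfl fun x _ => hx x, ← Finset.mul_sum, Finset.sum_comm, mul_assoc,
      ← mul_assoc _ (Nat.card A : ℂ), inv_mul_cancel₀ hA0, one_mul, Finset.mul_sum]
    have hw : ∀ w : E, (Nat.card A : ℂ)⁻¹ * ∑ x, conj (D lam x) * D μ ((w : MulAut A) x) =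
        1 + if twistIrr w μ = lam then 1 else 0 := fun w => by
      rw [← classInner_one_sub hA (μ := twistIrr w μ) (lam := lam) ?_ hl, classInner]
      · congr 1
        exact Finset.sum_congr rfl fun x _ => mul_comm _ _
      · exact fun h => hμ (by
          have := congrArg (twistIrr (w : MulAut A)⁻¹) h
          rwa [← twistIrr_mul, mul_inv_cancel, twistIrr_one, twistIrr_trivIrr] at this)
    rw [Finset.sum_congr rfl fun w _ => hw w, Finset.sum_add_distrib, Finset.sum_const,
      Finset.card_univ, nsmul_one, Nat.card_eq_fintype_card]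
  refine ⟨b, hbinv, fun o o' => ?_, fun lam => ?_, fun i x hx => ?_⟩
  · rw [hpair _ _ o.out.2 o'.out.2]
    congr 1
    split_ifs with h
    · subst h
      rw [Finset.sum_eq_single (1 : E),
        if_pos (show twistIrr ((1 : E) : MulAut A) o.out.1 = o.out.1 from twistIrr_one _)]
      · intro w _ hw
        rw [if_neg fun e => hw (Subtype.ext (L.twist_inj hA o.out.2 w.2 (one_mem _)
          (e.trans (twistIrr_one _).symm)))]
      · simp
    · refine Finset.sum_eq_zero fun w _ => if_neg fun e => h ?_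
      rw [← o.out_eq, ← o'.out_eq]
      exact (Quotient.sound (show (orbitSetoid (A := A) E).r o'.out o.out from ⟨w, w.2, e⟩)).symm
  · apply Int.cast_injective (α := ℂ)
    push_cast
    simp only [← hb, classInner, mul_assoc, ← Finset.mul_sum, Finset.sum_mul]
    rw [Finset.sum_comm, Finset.sum_eq_zero, mul_zero]
    intro x _
    rcases eq_or_ne x 1 with rfl | hx
    · simp [hD1]
    · rw [Finset.sum_congr rfl (g := fun i => conj (D lam x) * ((d i : ℂ) * F i x)) fun i _ => by
        ring, ← Finset.mul_sum, L.deg x hx, mul_zero]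
  · have hreg : ∑ lam : IrrCharacter A, (lam : A → ℂ) x = 0 := by
      have h := Char.sum_degree_mul_irr x
      simp only [Char.degree_one_of_comm hA, one_mul, if_neg hx] at h
      exact h
    have hexp := congrFun (Char.classFunction_expansion
      (show IsClassFunction A (F i) from fun g h => by rw [hA h g, mul_inv_cancel_right])) x
    simp only [Finset.sum_apply, Pi.smul_apply, smul_eq_mul] at hexp
    have hbl : ∀ lam : IrrCharacter A, classInner (F i) (lam : A → ℂ) =
        classInner (F i) (trivIrr A : A → ℂ) - (b i lam : ℂ) := fun lam => by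
      rw [← hb, hD, Char.classInner_sub_right]
      ring
    rw [hexp, Finset.sum_congr rfl fun lam _ => by rw [hbl lam, sub_mul], Finset.sum_sub_distrib,
      ← Finset.mul_sum, hreg, mul_zero, zero_sub]
    congr 1
    have hb1 : b i (trivIrr A) = 0 := by
      apply Int.cast_injective (α := ℂ)
      rw [← hb, hD]
      simp [classInner]
    rw [← Finset.add_sum_erase _ _ (Finset.mem_univ (trivIrr A)), hb1, Int.cast_zero, zero_mul,
      zero_add]
    simp only [Finset.mul_sum]
    rw [← Fintype.sum_prod_type']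
    symm
    refine Finset.sum_bij (fun z _ => twistIrr z.2 z.1.out.1) (fun z _ => ?_) ?_ ?_ fun z _ => ?_
    · refine Finset.mem_erase.mpr ⟨fun h => z.1.out.2 ?_, Finset.mem_univ _⟩
      have := congrArg (twistIrr (z.2 : MulAut A)⁻¹) h
      rwa [← twistIrr_mul, mul_inv_cancel, twistIrr_one, twistIrr_trivIrr] at this
    · rintro ⟨o, v⟩ _ ⟨o', w⟩ _ h'
      obtain rfl : o = o' := by
        rw [← o.out_eq, ← o'.out_eq]
        refine Quotient.sound (show (orbitSetoid (A := A) E).r o.out o'.out from
          ⟨v * (w : MulAut A)⁻¹, mul_mem v.2 (inv_mem w.2), ?_⟩)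
        rw [twistIrr_mul, h', ← twistIrr_mul, mul_inv_cancel, twistIrr_one]
      exact Prod.ext rfl (Subtype.ext (L.twist_inj hA o.out.2 v.2 w.2 h'))
    · intro lam hlam
      obtain ⟨w, hw, h⟩ := Quotient.mk_out (s := orbitSetoid (A := A) E)
        ⟨lam, (Finset.mem_erase.mp hlam).1⟩
      exact ⟨(⟦⟨lam, (Finset.mem_erase.mp hlam).1⟩⟧, ⟨w, hw⟩), Finset.mem_univ _, h⟩
    · rw [hbinv i _ z.2.2, twistIrr_apply]

open Classical in
/-- What coherence gives. -/
theorem IsLattice.exists_split (hm : 2 ≤ Nat.card (Quotient (orbitSetoid (A := A) E))) :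
    ∃ (b : ι → Quotient (orbitSetoid (A := A) E) → ℤ)
      (exc : Quotient (orbitSetoid (A := A) E) ↪ ι) (δ k : ℤ), (δ = 1 ∨ δ = -1) ∧
      (∀ i x, x ≠ 1 → F i x = -∑ o : Quotient (orbitSetoid (A := A) E),
        (b i o : ℂ) * ∑ w : E, (o.out.1 : A → ℂ) ((w : MulAut A) x)) ∧
      (∀ i, (∀ o, exc o ≠ i) → ∀ o o', b i o = b i o' ∧ b i o ≠ 0) ∧
      (∀ o o', b (exc o') o = k - (open Classical in if o' = o then δ else 0)) ∧
      ∀ o, (Finset.univ.filter fun i => ∀ o', exc o' ≠ i).sum (fun i => b i o ^ 2) +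
        (Nat.card (Quotient (orbitSetoid (A := A) E)) : ℤ) * k ^ 2 - 2 * k * δ = Nat.card E := by
  classical
  obtain ⟨b, -, hinner, hdeg, hval⟩ := L.exists_coord hA
  obtain ⟨exc, δ, k, hinj, hδ, hoff, hexc⟩ := IntCoherence.coherence
    (by rwa [← Nat.card_eq_fintype_card]) (fun (o : Quotient (orbitSetoid (A := A) E)) i => b i o.out.1)
    (Nat.card E : ℤ) d L.pos
    hinner fun o => hdeg o.out.1
  refine ⟨fun i (o : Quotient (orbitSetoid (A := A) E)) => b i o.out.1, ⟨exc, hinj⟩, δ, k, hδ, hval,
    fun i hi o o' => ⟨hoff o o' i hi, ?_⟩, hexc, fun o => ?_⟩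
  · intro h0
    obtain ⟨x, hx, hne⟩ := L.ne i
    refine hne ?_
    rw [hval i x hx, Finset.sum_eq_zero fun o'' _ => ?_, neg_zero]
    rw [← show b i o.out.1 = b i o''.out.1 from hoff o o'' i hi,
      show b i o.out.1 = 0 from h0, Int.cast_zero, zero_mul]
  · have h := hinner o o
    rw [if_pos rfl, ← Finset.sum_filter_add_sum_filter_not Finset.univ (fun i => ∀ o', exc o' ≠ i),
      show (Finset.univ.filter fun i => ¬ ∀ o', exc o' ≠ i) =
        (Finset.univ : Finset (Quotient (orbitSetoid (A := A) E))).map ⟨exc, hinj⟩ by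
        ext i; simp,
      Finset.sum_map] at h
    simp only [Function.Embedding.coeFn_mk] at h hexc
    simp only [hexc] at h
    rw [← Finset.add_sum_erase _ _ (Finset.mem_univ o), if_pos rfl,
      Finset.sum_congr (s₁ := Finset.univ.erase o) rfl (g := fun _ => k * k) fun o' ho' => by
        rw [if_neg (Finset.mem_erase.mp ho').1, sub_zero],
      Finset.sum_const, Finset.card_erase_of_mem (Finset.mem_univ o), Finset.card_univ,
      nsmul_eq_mul, Nat.cast_sub (show 1 ≤ Fintype.card _ from Fintype.card_pos_iff.mpr ⟨o⟩), Nat.cast_one] at h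
    rw [Nat.card_eq_fintype_card]
    have hδ2 : δ * δ = 1 := by rcases hδ with rfl | rfl <;> norm_num
    simp only [sq, Function.Embedding.coeFn_mk]
    linear_combination h - hδ2

/-- One orbit. -/
theorem IsLattice.exists_single (hm : Nat.card (Quotient (orbitSetoid (A := A) E)) = 1) :
    ∃ (o : Quotient (orbitSetoid (A := A) E)) (b : ι → ℤ), (∀ o', o' = o) ∧
      (∀ i x, x ≠ 1 → F i x = -((b i : ℂ) * ∑ w : E, (o.out.1 : A → ℂ) ((w : MulAut A) x))) ∧
      (∀ i, b i ≠ 0) ∧ ∑ i, b i ^ 2 = (Nat.card E : ℤ) + 1 ∧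
      ∀ x, x ≠ 1 → ∑ w : E, (o.out.1 : A → ℂ) ((w : MulAut A) x) = -1 := by
  classical
  obtain ⟨b, hbinv, hinner, hdeg, hval⟩ := L.exists_coord hA
  obtain ⟨hs, ⟨o⟩⟩ := Nat.card_eq_one_iff_unique.mp hm
  have hu : (Finset.univ : Finset (Quotient (orbitSetoid (A := A) E))) = {o} := by
    ext o'; simp [hs.elim o' o]
  refine ⟨o, fun i => b i o.out.1, fun o' => hs.elim o' o, fun i x hx => ?_, fun i h0 => ?_, ?_,
    fun x hx => ?_⟩
  · rw [hval i x hx, hu, Finset.sum_singleton]
  · obtain ⟨x, hx, hne⟩ := L.ne i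
    refine hne ?_
    rw [hval i x hx, hu, Finset.sum_singleton, show b i o.out.1 = 0 from h0, Int.cast_zero, zero_mul,
      neg_zero]
  · simpa [sq] using hinner o o
  · have h := Char.sum_degree_mul_irr x
    simp only [Char.degree_one_of_comm hA, one_mul, if_neg hx] at h
    rw [← Finset.add_sum_erase _ _ (Finset.mem_univ (trivIrr A)),
      show (trivIrr A : A → ℂ) x = 1 from rfl, add_eq_zero_iff_eq_neg'] at h
    rw [← h]
    refine Finset.sum_bij (fun w _ => twistIrr (w : MulAut A) o.out.1) (fun w _ => ?_) ?_ ?_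
      fun w _ => rfl
    · refine Finset.mem_erase.mpr ⟨fun e => o.out.2 ?_, Finset.mem_univ _⟩
      have := congrArg (twistIrr (w : MulAut A)⁻¹) e
      rwa [← twistIrr_mul, mul_inv_cancel, twistIrr_one, twistIrr_trivIrr] at this
    · exact fun v _ w _ e => Subtype.ext (L.twist_inj hA o.out.2 v.2 w.2 e)
    · intro lam hlam
      obtain ⟨w, hw, h'⟩ := Quotient.exact (s := orbitSetoid (A := A) E)
        ((o.out_eq).trans (hs.elim o ⟦⟨lam, (Finset.mem_erase.mp hlam).1⟩⟧))
      exact ⟨⟨w, hw⟩, Finset.mem_univ _, h'⟩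

theorem IsLattice.orbits_pos (hA1 : 1 < Nat.card A) :
    1 ≤ Nat.card (Quotient (orbitSetoid (A := A) E)) := by
  have h := L.card_orbits hA
  rcases Nat.eq_zero_or_pos (Nat.card (Quotient (orbitSetoid (A := A) E))) with h0 | h0
  · rw [h0, mul_zero] at h; omega
  · exact h0

omit L hA in
theorem card_le_sum_sq {κ : Type*} (s : Finset κ) (f : κ → ℤ) (hf : ∀ i ∈ s, f i ≠ 0) :
    (s.card : ℤ) ≤ ∑ i ∈ s, f i ^ 2 := by
  rw [Finset.card_eq_sum_ones, Nat.cast_sum]
  exact Finset.sum_le_sum fun i hi => by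
    have : 0 < f i ^ 2 := pow_two_pos_of_ne_zero (hf i hi)
    push_cast
    omega

omit L hA in
theorem card_compl_range {O : Type*} [Fintype O] (exc : O ↪ ι)
    [DecidablePred fun i => ∀ o, exc o ≠ i] :
    Fintype.card ι = (Finset.univ.filter fun i => ∀ o, exc o ≠ i).card + Fintype.card O := by
  classical
  rw [← Finset.card_univ, ← Finset.card_filter_add_card_filter_not (fun i => ∀ o, exc o ≠ i)]
  congr 1
  rw [show (Finset.univ.filter fun i => ¬ ∀ o, exc o ≠ i) = Finset.univ.map exc by ext i; simp,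
    Finset.card_map, Finset.card_univ]

/-- The bound. -/
theorem IsLattice.card_le (hA1 : 1 < Nat.card A) :
    Fintype.card ι ≤ Nat.card E + Nat.card (Quotient (orbitSetoid (A := A) E)) := by
  classical
  rcases (show Nat.card (Quotient (orbitSetoid (A := A) E)) = 1 ∨ _ from
    (L.orbits_pos hA hA1).eq_or_lt'.imp id id) with hm | hm
  · obtain ⟨o, b, -, -, hne, hsum, -⟩ := L.exists_single hA hm
    have h := card_le_sum_sq Finset.univ b fun i _ => hne i
    rw [hsum, Finset.card_univ] at h
    omega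
  · obtain ⟨b, exc, δ, k, hδ, -, hoff, -, hnorm⟩ := L.exists_split hA hm
    obtain ⟨o⟩ : Nonempty (Quotient (orbitSetoid (A := A) E)) :=
      (Nat.card_pos_iff.mp (by omega)).1
    have h := card_le_sum_sq (Finset.univ.filter fun i => ∀ o', exc o' ≠ i) (fun i => b i o)
      fun i hi => (hoff i (Finset.mem_filter.mp hi).2 o o).2
    have h2 := hnorm o
    rw [card_compl_range exc, ← Nat.card_eq_fintype_card]
    have h3 : 0 ≤ (Nat.card (Quotient (orbitSetoid (A := A) E)) : ℤ) * k ^ 2 - 2 * k * δ := by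
      have : (2 : ℤ) ≤ Nat.card (Quotient (orbitSetoid (A := A) E)) := by exact_mod_cast hm
      have h4 := mul_nonneg (sub_nonneg.mpr this) (sq_nonneg k)
      have h5 := Int.le_self_sq k
      have h6 := Int.le_self_sq (-k)
      rcases hδ with rfl | rfl <;> nlinarith
    omega

/-- The shape when there are as many as possible. -/
theorem IsLattice.shape (hA1 : 1 < Nat.card A)
    (heq : Fintype.card ι = Nat.card E + Nat.card (Quotient (orbitSetoid (A := A) E))) :
    ∃ (exc : Quotient (orbitSetoid (A := A) E) ↪ ι) (δ : ℤ) (w : ι → ℤ), (δ = 1 ∨ δ = -1) ∧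
      Nat.card {i : ι // ∀ o, exc o ≠ i} = Nat.card E ∧
      (∀ i, (∀ o, exc o ≠ i) → (w i = 1 ∨ w i = -1) ∧ ∀ x, x ≠ 1 → F i x = (w i : ℂ)) ∧
      ∀ o x, x ≠ 1 → F (exc o) x =
        (δ : ℂ) * ∑ v : E, (o.out.1 : A → ℂ) ((v : MulAut A) x) := by
  classical
  have hone : ∀ (s : Finset ι) (f : ι → ℤ), (∀ i ∈ s, f i ≠ 0) → ∑ i ∈ s, f i ^ 2 ≤ (s.card : ℤ) →
      ∀ i ∈ s, f i = 1 ∨ f i = -1 := by
    intro s f hf hle i hi
    have h := card_le_sum_sq (s.erase i) f fun j hj => hf j (Finset.mem_erase.mp hj).2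
    rw [← Finset.add_sum_erase _ _ hi] at hle
    have h0 := Finset.card_erase_add_one hi
    have h1 : f i ^ 2 ≤ 1 := by omega
    have h2 : -1 ≤ f i ∧ f i ≤ 1 := ⟨by nlinarith, by nlinarith⟩
    have := hf i hi
    omega
  rcases (L.orbits_pos hA hA1).eq_or_lt' with hm | hm
  · obtain ⟨o, b, hu, hval, hne, hsum, hψ⟩ := L.exists_single hA hm
    have hb := hone Finset.univ b (fun i _ => hne i) (by rw [hsum, Finset.card_univ]; omega)
    obtain ⟨i₀⟩ : Nonempty ι := Fintype.card_pos_iff.mp (by omega)
    refine ⟨⟨fun _ => i₀, fun a b' _ => (hu a).trans (hu b').symm⟩, -b i₀, b, ?_, ?_,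
      fun i _ => ⟨hb i (Finset.mem_univ i), fun x hx => ?_⟩, fun o' x hx => ?_⟩
    · rcases hb i₀ (Finset.mem_univ _) with h | h <;> rw [h] <;> simp
    · have h1 := card_compl_range (⟨fun _ => i₀, fun a b' _ => (hu a).trans (hu b').symm⟩ :
        Quotient (orbitSetoid (A := A) E) ↪ ι)
      rw [← Nat.card_eq_fintype_card (α := Quotient _)] at h1
      rw [Nat.card_eq_fintype_card, Fintype.card_subtype]
      omega
    · rw [hval i x hx, hψ x hx]; ring
    · rw [hu o']
      show F i₀ x = _
      rw [hval i₀ x hx]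
      push_cast
      ring
  · obtain ⟨b, exc, δ, k, hδ, hval, hoff, hexc, hnorm⟩ := L.exists_split hA hm
    obtain ⟨o₀⟩ : Nonempty (Quotient (orbitSetoid (A := A) E)) :=
      (Nat.card_pos_iff.mp (by omega)).1
    set S := Finset.univ.filter fun i => ∀ o', exc o' ≠ i with hS
    have hScard : S.card = Nat.card E := by
      have : Fintype.card ι = S.card + Fintype.card (Quotient (orbitSetoid (A := A) E)) := by
        convert card_compl_range exc
      rw [← Nat.card_eq_fintype_card (α := Quotient _)] at this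
      omega
    have h := card_le_sum_sq S (fun i => b i o₀) fun i hi => (hoff i (Finset.mem_filter.mp hi).2 o₀ o₀).2
    have h2 := hnorm o₀
    have hk : k = 0 ∨ (k = δ ∧ Nat.card (Quotient (orbitSetoid (A := A) E)) = 2) := by
      rw [hScard] at h
      have hm' : (2 : ℤ) ≤ Nat.card (Quotient (orbitSetoid (A := A) E)) := by exact_mod_cast hm
      have h3 : (Nat.card (Quotient (orbitSetoid (A := A) E)) : ℤ) * k ^ 2 - 2 * k * δ ≤ 0 := by omega
      by_cases hk0 : k = 0
      · exact Or.inl hk0
      right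
      rcases hδ with rfl | rfl
      · have hk1 : k = 1 := by
          rcases (show k ≤ -1 ∨ k = 1 ∨ 2 ≤ k by omega) with h4 | h4 | h4
          · nlinarith
          · exact h4
          · nlinarith
        subst hk1
        exact ⟨rfl, by omega⟩
      · have hk1 : k = -1 := by
          rcases (show k ≤ -2 ∨ k = -1 ∨ 1 ≤ k by omega) with h4 | h4 | h4
          · nlinarith
          · exact h4
          · nlinarith
        subst hk1
        exact ⟨rfl, by omega⟩
    have hw : ∀ i ∈ S, b i o₀ = 1 ∨ b i o₀ = -1 := by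
      refine hone S (fun i => b i o₀) (fun i hi => (hoff i (Finset.mem_filter.mp hi).2 o₀ o₀).2) ?_
      rw [hScard]
      rcases hk with rfl | ⟨rfl, hm2⟩
      · linarith
      · rcases hδ with rfl | rfl <;> rw [hm2] at h2 <;> push_cast at h2 <;> linarith
    have hψsum : ∀ x, x ≠ 1 → ∑ o : Quotient (orbitSetoid (A := A) E),
        ∑ v : E, (o.out.1 : A → ℂ) ((v : MulAut A) x) = -1 := by
      intro x hx
      have h := Char.sum_degree_mul_irr x
      simp only [Char.degree_one_of_comm hA, one_mul, if_neg hx] at h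
      rw [← Finset.add_sum_erase _ _ (Finset.mem_univ (trivIrr A)),
        show (trivIrr A : A → ℂ) x = 1 from rfl, add_eq_zero_iff_eq_neg'] at h
      rw [← h, ← Fintype.sum_prod_type']
      refine Finset.sum_bij (fun z _ => twistIrr z.2 z.1.out.1) (fun z _ => ?_) ?_ ?_ fun z _ => rfl
      · refine Finset.mem_erase.mpr ⟨fun h => z.1.out.2 ?_, Finset.mem_univ _⟩
        have := congrArg (twistIrr (z.2 : MulAut A)⁻¹) h
        rwa [← twistIrr_mul, mul_inv_cancel, twistIrr_one, twistIrr_trivIrr] at this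
      · rintro ⟨o, v⟩ _ ⟨o', w⟩ _ h'
        obtain rfl : o = o' := by
          rw [← o.out_eq, ← o'.out_eq]
          refine Quotient.sound (show (orbitSetoid (A := A) E).r o.out o'.out from
          ⟨v * (w : MulAut A)⁻¹, mul_mem v.2 (inv_mem w.2), ?_⟩)
          rw [twistIrr_mul, h', ← twistIrr_mul, mul_inv_cancel, twistIrr_one]
        exact Prod.ext rfl (Subtype.ext (L.twist_inj hA o.out.2 v.2 w.2 h'))
      · intro lam hlam
        obtain ⟨w, hw, h⟩ := Quotient.mk_out (s := orbitSetoid (A := A) E)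
          ⟨lam, (Finset.mem_erase.mp hlam).1⟩
        exact ⟨(⟦⟨lam, (Finset.mem_erase.mp hlam).1⟩⟧, ⟨w, hw⟩), Finset.mem_univ _, h⟩
    have hnexc : ∀ i, (∀ o, exc o ≠ i) → ∀ x, x ≠ 1 → F i x = (b i o₀ : ℂ) := by
      intro i hi x hx
      rw [hval i x hx, Finset.sum_congr rfl fun o _ => by rw [(hoff i hi o o₀).1], ← Finset.mul_sum,
        hψsum x hx]
      ring
    have hexcval : ∀ o x, x ≠ 1 → F (exc o) x =
        (k : ℂ) + (δ : ℂ) * ∑ v : E, (o.out.1 : A → ℂ) ((v : MulAut A) x) := by
      intro o x hx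
      rw [hval _ x hx, Finset.sum_congr rfl (g := fun o' => (k : ℂ) * ∑ v : E,
        (o'.out.1 : A → ℂ) ((v : MulAut A) x) - if o = o' then (δ : ℂ) * ∑ v : E,
        (o'.out.1 : A → ℂ) ((v : MulAut A) x) else 0) fun o' _ => by
          rw [hexc o' o]
          split_ifs <;> push_cast <;> ring,
        Finset.sum_sub_distrib, ← Finset.mul_sum, hψsum x hx, Finset.sum_ite_eq,
        if_pos (Finset.mem_univ _)]
      ring
    rcases hk with rfl | ⟨rfl, hm2⟩
    · refine ⟨exc, δ, fun i => b i o₀, hδ, ?_, fun i hi => ⟨hw i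
        (Finset.mem_filter.mpr ⟨Finset.mem_univ _, hi⟩), hnexc i hi⟩, fun o x hx => ?_⟩
      · rw [Nat.card_eq_fintype_card, Fintype.card_subtype]; exact hScard
      · rw [hexcval o x hx]; simp
    · -- two orbits: interchange
      obtain ⟨σ, hσ⟩ : ∃ σ : Quotient (orbitSetoid (A := A) E) ≃ Quotient (orbitSetoid (A := A) E),
          ∀ o, σ o ≠ o := by
        rw [Nat.card_eq_fintype_card] at hm2
        obtain ⟨a, b', hab, hu⟩ := Finset.card_eq_two.mp (Finset.card_univ.trans hm2)
        refine ⟨Equiv.swap a b', fun o => ?_⟩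
        have := hu ▸ Finset.mem_univ o
        rcases Finset.mem_insert.mp this with rfl | h'
        · rw [Equiv.swap_apply_left]; exact Ne.symm hab
        · rw [Finset.mem_singleton.mp h', Equiv.swap_apply_right]; exact hab
      have hrange : ∀ i, (∀ o, (σ.toEmbedding.trans exc) o ≠ i) ↔ ∀ o, exc o ≠ i := fun i =>
        ⟨fun h o => by have := h (σ.symm o); simpa using this, fun h o => h (σ o)⟩
      refine ⟨σ.toEmbedding.trans exc, -k, fun i => b i o₀, ?_, ?_, fun i hi => ?_, fun o x hx => ?_⟩
      · rcases hδ with rfl | rfl <;> simp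
      · rw [Nat.card_eq_fintype_card, Fintype.card_subtype]
        refine Eq.trans ?_ hScard
        exact congrArg Finset.card (Finset.filter_congr fun i _ => hrange i)
      · exact ⟨hw i (Finset.mem_filter.mpr ⟨Finset.mem_univ _, (hrange i).mp hi⟩),
          hnexc i ((hrange i).mp hi)⟩
      · show F (exc (σ o)) x = _
        rw [hexcval _ x hx]
        have h3 := hψsum x hx
        rw [Nat.card_eq_fintype_card] at hm2
        have hu : (Finset.univ : Finset (Quotient (orbitSetoid (A := A) E))) = {o, σ o} :=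
          (Finset.eq_univ_of_card _ (by rw [Finset.card_pair (hσ o).symm, hm2])).symm
        rw [hu, Finset.sum_pair (hσ o).symm] at h3
        push_cast
        linear_combination (k : ℂ) * h3

/-- With at most three automorphisms there is equality, but for the orders seven, ten and
thirteen. -/
theorem IsLattice.card_eq_of_small (hA1 : 1 < Nat.card A) (he : Nat.card E ≤ 3)
    (hlow : Nat.card (Quotient (orbitSetoid (A := A) E)) < Fintype.card ι) :
    Fintype.card ι = Nat.card E + Nat.card (Quotient (orbitSetoid (A := A) E)) ∨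
      Nat.card A = 7 ∨ Nat.card A = 10 ∨ Nat.card A = 13 := by
  classical
  have hle := L.card_le hA hA1
  have horb := L.card_orbits hA
  rcases hle.eq_or_lt with heq | hlt
  · exact Or.inl heq
  rcases (L.orbits_pos hA hA1).eq_or_lt' with hm | hm
  · exfalso
    obtain ⟨o, b, -, -, hne, hsum, -⟩ := L.exists_single hA hm
    rw [hm] at hlt hlow
    obtain ⟨i, hi⟩ : ∃ i, 4 ≤ b i ^ 2 := by
      by_contra hcon
      push Not at hcon
      have h : ∀ i, b i ^ 2 = 1 := fun i => by
        have h1 := hcon i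
        have h2 : -1 ≤ b i ∧ b i ≤ 1 := ⟨by nlinarith, by nlinarith⟩
        rcases (show b i = 1 ∨ b i = -1 by have := hne i; omega) with h | h <;> rw [h] <;> norm_num
      simp only [h, Finset.sum_const, Finset.card_univ, nsmul_eq_mul, mul_one] at hsum
      omega
    have h := card_le_sum_sq (Finset.univ.erase i) b fun j _ => hne j
    rw [← Finset.add_sum_erase _ _ (Finset.mem_univ i)] at hsum
    have h0 := Finset.card_erase_add_one (Finset.mem_univ i)
    rw [Finset.card_univ] at h0
    omega
  · right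
    obtain ⟨b, exc, δ, k, hδ, -, hoff, -, hnorm⟩ := L.exists_split hA hm
    obtain ⟨o⟩ : Nonempty (Quotient (orbitSetoid (A := A) E)) :=
      (Nat.card_pos_iff.mp (by omega)).1
    set S := Finset.univ.filter fun i => ∀ o', exc o' ≠ i with hS
    have hc := card_compl_range exc
    rw [← Nat.card_eq_fintype_card (α := Quotient _)] at hc
    rw [← hS] at hc
    set m := Nat.card (Quotient (orbitSetoid (A := A) E))
    have hne : ∀ i ∈ S, b i o ≠ 0 := fun i hi => (hoff i (Finset.mem_filter.mp hi).2 o o).2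
    have h := card_le_sum_sq S (fun i => b i o) hne
    have h2 := hnorm o
    have hm' : (2 : ℤ) ≤ m := by exact_mod_cast hm
    have hkd : k * δ = 1 ∧ m ≤ 4 := by
      have h5 : (m : ℤ) * k ^ 2 - 2 * (k * δ) ≤ 2 := by
        have : 1 ≤ S.card := by omega
        have h6 : ((Nat.card E : ℤ)) ≤ 3 := by exact_mod_cast he
        nlinarith
      have hk2 : k ^ 2 = (k * δ) ^ 2 := by rcases hδ with rfl | rfl <;> ring
      rw [hk2] at h5
      rcases (show k * δ ≤ -1 ∨ k * δ = 0 ∨ k * δ = 1 ∨ 2 ≤ k * δ by omega) with h4 | h4 | h4 | h4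
      · nlinarith
      · exfalso
        have hk0 : k = 0 := by rcases hδ with rfl | rfl <;> omega
        subst hk0
        obtain ⟨i, hi, hbig⟩ : ∃ i ∈ S, 4 ≤ b i o ^ 2 := by
          by_contra hcon
          push Not at hcon
          have h7 : ∀ i ∈ S, b i o ^ 2 = 1 := fun i hi => by
            have h1 := hcon i hi
            have h2' : -1 ≤ b i o ∧ b i o ≤ 1 := ⟨by nlinarith, by nlinarith⟩
            rcases (show b i o = 1 ∨ b i o = -1 by have := hne i hi; omega) with h | h <;>
              rw [h] <;> norm_num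
          rw [Finset.sum_congr rfl h7, Finset.sum_const, nsmul_eq_mul, mul_one] at h2
          simp only [ne_eq, OfNat.ofNat_ne_zero, not_false_eq_true, zero_pow, mul_zero, zero_mul,
            add_zero, sub_zero] at h2
          omega
        have h8 := card_le_sum_sq (S.erase i) (fun i => b i o)
          fun j hj => hne j (Finset.mem_erase.mp hj).2
        rw [← Finset.add_sum_erase _ _ hi] at h2
        have h0 := Finset.card_erase_add_one hi
        simp only [ne_eq, OfNat.ofNat_ne_zero, not_false_eq_true, zero_pow, mul_zero, zero_mul,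
          add_zero, sub_zero] at h2
        omega
      · refine ⟨h4, ?_⟩
        rw [h4] at h5
        omega
      · nlinarith
    obtain ⟨hk1, hm4⟩ := hkd
    have hk2 : k ^ 2 = 1 := by
      rcases hδ with rfl | rfl <;> [skip; skip] <;>
      · have : k = 1 ∨ k = -1 := by omega
        rcases this with rfl | rfl <;> norm_num
    rw [hk2, mul_one, show 2 * k * δ = 2 by rw [mul_assoc, hk1, mul_one]] at h2
    have hd : (m = 3 ∨ m = 4) ∨ m = 2 := by omega
    have hsq : ∑ i ∈ S, b i o ^ 2 = (S.card : ℤ) := by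
      rw [Finset.card_eq_sum_ones, Nat.cast_sum]
      refine Finset.sum_congr rfl fun i hi => ?_
      have hlt4 : b i o ^ 2 < 4 := by
        by_contra hcon
        have h8 := card_le_sum_sq (S.erase i) (fun i => b i o)
          fun j hj => hne j (Finset.mem_erase.mp hj).2
        rw [← Finset.add_sum_erase _ _ hi] at h2
        omega
      have h2' : -1 ≤ b i o ∧ b i o ≤ 1 := ⟨by nlinarith, by nlinarith⟩
      rcases (show b i o = 1 ∨ b i o = -1 by have := hne i hi; omega) with h | h <;> rw [h] <;>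
        norm_num
    rw [hsq] at h2
    rcases (show (Nat.card E = 2 ∧ m = 3) ∨ (Nat.card E = 3 ∧ (m = 3 ∨ m = 4)) by omega) with
      ⟨h9, h10⟩ | ⟨h9, h10 | h10⟩ <;> rw [h9, h10] at horb <;> omega

end Lattice

end CfsgLib.Blocks.FreeQuot
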