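import Cfsg.Agent.Lib.Blocks.FreeQuotient.ColSign
import Cfsg.Agent.Lib.Blocks.FreeQuotient.PerfectCols
import Cfsg.Agent.Lib.Blocks.FreeQuotient.OrbitLattice
import Cfsg.Agent.Lib.Blocks.BrauerFeit

/-!
# The lattice of the weighted columns of a block

A weight of absolute value one, stable under the stabilizer, which turns all columns into
generalized characters of the defect group makes the columns a lattice on orbits.  There is one for
odd `p` and for trivial inertial quotient.
-/

set_option autoImplicit false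
set_option linter.unusedSectionVars false

namespace CfsgLib.Blocks.FreeQuot

open Cfsg
open scoped ComplexConjugate CfsgLib.Char

variable {p : ℕ} {M : Ideal AlgInt} [M.IsPrime] {G : Type*} [Group G] [Fintype G] {P : Subgroup G}
  {c : Set (IrrCharacter (Subgroup.centralizer (P : Set G)))} {B : Set (IrrCharacter G)}
  [DecidablePred (· ∈ B)]

variable (p M P c) in
/-- A weight turning the columns into generalized characters. -/
structure IsColWeight (ω : P → ℂ) : Prop where
  unit : ∀ u, u ≠ 1 → ω u * conj (ω u) = 1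
  integral : ∀ u, IsIntegral ℤ (ω u)
  inv : ∀ w ∈ inertAut P c, ∀ u, ω (w u) = ω u
  gen : ∀ χ : IrrCharacter G, ∃ F : P → ℂ, IsGeneralizedCharacter P F ∧
    ∀ u : P, u ≠ 1 → F u = ω u * col p M P c (u : G) χ

theorem exists_colWeight_odd (hM : IsPModular p M) (hp2 : p ≠ 2)
    (hmax : IsMaximalBrauerPair p M B P c) (hab : ∀ x ∈ P, ∀ y ∈ P, x * y = y * x)
    (hfree : ∀ g ∈ blockT P c, ∀ x ∈ P, x ≠ 1 → g * x * g⁻¹ = x →
      g ∈ Subgroup.centralizer (P : Set G)) :
    ∃ ω : P → ℂ, IsColWeight p M P c ω ∧ ∃ s : Subgroup P → ℤ, (∀ C, s C = 1 ∨ s C = -1) ∧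
      ∀ u, ω u = (s (Subgroup.zpowers u) : ℂ) := by
  obtain ⟨s, hs, hsw, hsg⟩ := exists_colSign hM hp2 hmax hab hfree
  refine ⟨fun u => (s (Subgroup.zpowers u) : ℂ), ⟨fun u _ => ?_, fun u =>
    isIntegral_algebraMap (R := ℤ) (A := ℂ) (x := _), fun w hw u => by simp only [hsw w hw u],
    hsg⟩, s, hs, fun u => rfl⟩
  rcases hs (Subgroup.zpowers u) with h | h <;> simp [h]

/-- With trivial inertial quotient the block is nilpotent. -/
theorem isNilpotentBlock_of_relIndex_one (hM : IsPModular p M)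
    (hmax : IsMaximalBrauerPair p M B P c) (hab : ∀ x ∈ P, ∀ y ∈ P, x * y = y * x)
    (he : (Subgroup.centralizer (P : Set G)).relIndex (blockT P c) = 1) :
    IsNilpotentBlock p M B := by
  refine ⟨hmax.1.2.1, fun Q f hQf x hx hst _ => ?_⟩
  obtain ⟨g, hg⟩ := exists_conjPair_le_maximal hM hmax hQf
  have hy := blockT_conjPair (g := g) (mem_blockT.mpr ⟨hx, hst⟩)
  refine mem_centralizer_of_conj (g := g) ?_
  set y := g * x * g⁻¹
  have hc := carries_of_mem_blockT hg hy
  obtain ⟨y', hy', hagree⟩ := exists_blockT_agree hM hmax hab hc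
  refine Fusion.mem_centralizer_of_conj_eq fun z hz => ?_
  rw [hagree z hz]
  exact mul_inv_eq_iff_eq_mul.mpr (Subgroup.mem_centralizer_iff.mp
    (Subgroup.relIndex_eq_one.mp he hy') z (hc.le hz)).symm

/-- For trivial inertial quotient the column of a height zero character has absolute value one. -/
theorem col_mul_conj_eq_one (hM : IsPModular p M) (hmax : IsMaximalBrauerPair p M B P c)
    (hab : ∀ x ∈ P, ∀ y ∈ P, x * y = y * x)
    (he : (Subgroup.centralizer (P : Set G)).relIndex (blockT P c) = 1)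
    {χ : IrrCharacter G} (hχ : χ ∈ B) (h0 : blockHeight p B (χ : G → ℂ) = 0) (u : P) (hu : u ≠ 1) :
    col p M P c (u : G) χ * conj (col p M P c (u : G) χ) = 1 := by
  classical
  have hfree : ∀ g ∈ blockT P c, ∀ x ∈ P, x ≠ 1 → g * x * g⁻¹ = x →
      g ∈ Subgroup.centralizer (P : Set G) := fun g hg _ _ _ _ => Subgroup.relIndex_eq_one.mp he hg
  have hinn := hasInnerMaps_of_nilpotent hM hmax (isNilpotentBlock_of_relIndex_one hM hmax hab he)
  choose q hq hint hne hpos using contrib_facts hM hmax hinn hχ h0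
  have htriv : starChar p M (χ : G → ℂ) (pairVal p M c (lamExt (1 : ↥P →* ℂˣ))) = (χ : G → ℂ) :=
    starW_eq_pairVal (p := p) (M := M) (e := c) (1 : ↥P →* ℂˣ) ▸ starChar_one hM hmax hχ
  have hst1 : ∀ a ∈ P, ∀ y, lamExt (1 : ↥P →* ℂˣ) (a * y * a⁻¹) = lamExt (1 : ↥P →* ℂˣ) y := by
    intro a ha y
    have : a * y * a⁻¹ ∈ P ↔ y ∈ P := by
      rw [Subgroup.mul_mem_cancel_right _ (inv_mem ha), Subgroup.mul_mem_cancel_left _ ha]
    by_cases hy : y ∈ P
    · simp [lamExt, hy, this.mpr hy]
    · simp [lamExt, hy, this]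
  have hgen1 : IsGeneralizedCharacter ↥P (fun y : ↥P => lamExt (1 : ↥P →* ℂˣ) (y : G)) := by
    convert Char.isGeneralized_of_isCharacter (Char.isCharacter_monoidHom (1 : ↥P →* ℂˣ)) using 1
    funext y
    exact lamExt_of_mem _ y.2
  have hsum : ∑ v : ↥P, (q v : ℂ) = (Nat.card P : ℂ) := by
    have h := classInner_starChar_pairVal hM hmax hinn (irr_classFunction χ) (irr_classFunction χ)
      hst1 hst1 hgen1 hgen1
    rw [htriv, Char.classInner_irr_self χ.2, eq_comm,
      inv_mul_eq_iff_eq_mul₀ (Nat.cast_ne_zero.mpr Nat.card_pos.ne'), mul_one] at h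
    rw [← h]
    refine Finset.sum_congr rfl fun v _ => ?_
    rw [hq v, contrib, lamExt_mul_conj _ v.2, one_mul]
  have hone : q u = 1 := eq_one_of_sum_embedding Finset.univ q (fun i _ => hint i)
    (fun i _ => hne i) (fun i _ => hpos i) (fun ψ => by
      have h : (∑ v : ↥P, q v) = ((Nat.card P : ℕ) : Char.QBar) := Subtype.ext (by
        push_cast
        rw [hsum])
      rw [← map_sum, h, map_natCast, Finset.card_univ, Nat.card_eq_fintype_card]) u (Finset.mem_univ u)
  have h := hq u
  rw [hone, OneMemClass.coe_one, contrib, pairSum_top hM hmax hab hfree χ χ u.2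
    (fun h => hu (Subtype.ext h)), centRatio,
    inf_eq_left.mpr (show P ≤ cz (u : G) from fun a ha => by
      rw [mem_cz_iff]; exact hab a ha u u.2)] at h
  have hz : (Nat.card (cz (u : G)) : ℂ) ≠ 0 := Nat.cast_ne_zero.mpr Nat.card_pos.ne'
  have hP : (Nat.card P : ℂ) ≠ 0 := Nat.cast_ne_zero.mpr Nat.card_pos.ne'
  field_simp at h
  exact h.symm

theorem exists_colWeight_one (hM : IsPModular p M) (hmax : IsMaximalBrauerPair p M B P c)
    (hab : ∀ x ∈ P, ∀ y ∈ P, x * y = y * x)
    (he : (Subgroup.centralizer (P : Set G)).relIndex (blockT P c) = 1) :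
    ∃ ω : P → ℂ, IsColWeight p M P c ω := by
  classical
  have hfree : ∀ g ∈ blockT P c, ∀ x ∈ P, x ≠ 1 → g * x * g⁻¹ = x →
      g ∈ Subgroup.centralizer (P : Set G) := fun g hg _ _ _ _ => Subgroup.relIndex_eq_one.mp he hg
  obtain ⟨χ₀, hχ₀, h0⟩ := exists_blockHeight_eq_zero hM hmax.1.2.1
  refine ⟨fun u => conj (col p M P c (u : G) χ₀), ⟨fun u hu => ?_, fun u =>
    (isIntegral_col χ₀).map (starRingEnd ℂ).toIntAlgHom, fun w hw u => ?_, fun χ => ?_⟩⟩
  · show conj _ * conj (conj _) = 1
    rw [Complex.conj_conj, mul_comm]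
    exact col_mul_conj_eq_one hM hmax hab he hχ₀ h0 u hu
  · show conj (col p M P c ((w u : P) : G) χ₀) = _
    rw [col_inertAut hM hmax.1.1 hw]
  · obtain ⟨g, hg, hgv⟩ := exists_pairChar hM hmax hab hfree χ χ₀
    exact ⟨g, hg, fun u hu => by rw [hgv u hu, mul_comm]⟩

section Lattice

variable [Fintype P]

variable (hM : IsPModular p M) (hmax : IsMaximalBrauerPair p M B P c)
  (hab : ∀ x ∈ P, ∀ y ∈ P, x * y = y * x)
  (hfree : ∀ g ∈ blockT P c, ∀ x ∈ P, x ≠ 1 → g * x * g⁻¹ = x →
    g ∈ Subgroup.centralizer (P : Set G))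
include hM hmax hab hfree

/-- No column of a member vanishes entirely. -/
theorem exists_col_ne_zero (hP1 : P ≠ ⊥) {χ : IrrCharacter G} (hχ : χ ∈ B) :
    ∃ u : P, u ≠ 1 ∧ col p M P c (u : G) χ ≠ 0 := by
  classical
  have hB := hmax.1.2.1
  obtain ⟨x, hx, hx1⟩ := P.bot_or_exists_ne_one.resolve_left hP1
  by_cases h0 : blockHeight p B (χ : G → ℂ) = 0
  · exact ⟨⟨x, hx⟩, fun h => hx1 (congrArg Subtype.val h), col_ne_zero hM hmax hab hfree hx hx1 hχ h0⟩
  by_contra hcon
  push Not at hcon
  obtain ⟨R, hR⟩ := exists_isReps (P := P) (c := c)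
  have hreg : regPart p (χ : G → ℂ) = (χ : G → ℂ) := funext fun g => by
    by_cases hg : IsPRegular p g
    · exact regPart_of_regular hg
    · obtain ⟨a, ha, -⟩ := value_span hM hmax hab hfree hR hg
      rw [regPart_of_singular hg, ha χ hχ]
      exact (Finset.sum_eq_zero fun r hr => by
        rw [hcon ⟨r, (hR.mem r hr).1⟩ (fun h => (hR.mem r hr).2 (congrArg Subtype.val h)), mul_zero]).symm
  obtain ⟨η, hη, hη0⟩ := exists_blockHeight_eq_zero hM hB
  have hz : classInner (regPart p (η : G → ℂ)) (χ : G → ℂ) = 0 := by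
    have e : classInner (regPart p (η : G → ℂ)) (χ : G → ℂ) =
        classInner (η : G → ℂ) (regPart p (χ : G → ℂ)) := by
      rw [classInner, classInner]
      congr 1
      refine Finset.sum_congr rfl fun g _ => ?_
      by_cases hg : IsPRegular p g
      · rw [regPart_of_regular hg, regPart_of_regular hg]
      · rw [regPart_of_singular hg, regPart_of_singular hg, zero_mul, map_zero, mul_zero]
    rw [e, hreg, Char.classInner_coe, if_neg]
    rintro rfl
    exact h0 hη0
  exact (row_height_zero hM hB hη hη0 hχ (n := 0) (by rw [hz, mul_zero, Int.cast_zero])).1 rfl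

variable {ω : P → ℂ}

/-- The lattice. -/
theorem exists_lattice (hP1 : P ≠ ⊥) (hω : IsColWeight p M P c ω) :
    ∃ F : {χ // χ ∈ B} → P → ℂ,
      IsLattice (inertAut P c) F (fun i => charDegree (i.1 : G → ℂ)) ∧
      ∀ i u, u ≠ 1 → F i u = ω u * col p M P c (u : G) i.1 := by
  classical
  have habP : ∀ a b : P, a * b = b * a := fun a b => Subtype.ext (hab _ a.2 _ b.2)
  choose F hFg hF using fun i : {χ // χ ∈ B} => hω.gen i.1
  have hsub : ∀ f : IrrCharacter G → ℂ,
      ∑ i : {χ // χ ∈ B}, f i.1 = ∑ χ : IrrCharacter G with χ ∈ B, f χ := fun f =>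
    (Finset.sum_subtype _ (fun x => by simp) f).symm
  have hne1 : ∀ {u : P}, u ≠ 1 → (u : G) ≠ 1 := fun hu h => hu (Subtype.ext h)
  refine ⟨F, ⟨inertAut_free hfree, hFg, fun i w hw u => ?_, fun u hu => ?_,
    fun u v hu hv huv => ?_, fun i => (irr_degree_eq i.1).2, fun u hu => ?_, fun i => ?_⟩, hF⟩
  · rcases eq_or_ne u 1 with rfl | hu
    · rw [map_one]
    · have hu' : w u ≠ 1 := fun h => hu (w.injective (h.trans (map_one w).symm))
      rw [hF i _ hu', hF i u hu, hω.inv w hw, col_inertAut hM hmax.1.1 hw]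
  · rw [Finset.sum_congr rfl (g := fun i : {χ // χ ∈ B} =>
      col p M P c (u : G) i.1 * conj (col p M P c (u : G) i.1)) fun i _ => by
      rw [hF i u hu, map_mul, mul_mul_mul_comm, hω.unit u hu, one_mul],
      hsub fun χ => col p M P c (u : G) χ * conj (col p M P c (u : G) χ),
      col_norm hM hmax hab hfree u.2 (hne1 hu)]
  · rw [Finset.sum_congr rfl (g := fun i : {χ // χ ∈ B} => ω u * conj (ω v) *
      (col p M P c (u : G) i.1 * conj (col p M P c (v : G) i.1))) fun i _ => by
      rw [hF i u hu, hF i v hv, map_mul, mul_mul_mul_comm], ← Finset.mul_sum,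
      hsub fun χ => col p M P c (u : G) χ * conj (col p M P c (v : G) χ),
      col_orth hM hmax hab hfree u.2 (hne1 hu) v.2 (hne1 hv) fun y hy e =>
        huv _ (autT_mem hy) (Subtype.ext (by rw [autT_apply]; exact e)), mul_zero]
  · rw [Finset.sum_congr rfl (g := fun i : {χ // χ ∈ B} => ω u *
      (col p M P c (u : G) i.1 * conj ((i.1 : G → ℂ) 1))) fun i _ => by
      rw [hF i u hu, (irr_degree_eq i.1).1, map_natCast]; ring, ← Finset.mul_sum,
      hsub fun χ => col p M P c (u : G) χ * conj ((χ : G → ℂ) 1),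
      col_regular hM hmax hab hfree u.2 (hne1 hu) (regular_one hM), mul_zero]
  · obtain ⟨u, hu, hne⟩ := exists_col_ne_zero hM hmax hab hfree hP1 i.2
    refine ⟨u, hu, ?_⟩
    rw [hF i u hu]
    refine mul_ne_zero (fun h => ?_) hne
    have := hω.unit u hu
    rw [h, zero_mul] at this
    exact zero_ne_one this

theorem card_orbits_eq {R : Finset G} (hR : IsReps P c R) {ι : Type*} [Fintype ι]
    {F : ι → P → ℂ} {d : ι → ℕ} (L : IsLattice (inertAut P c) F d) :
    Nat.card (Quotient (orbitSetoid (A := P) (inertAut P c))) = R.card := by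
  classical
  have habP : ∀ a b : P, a * b = b * a := fun a b => Subtype.ext (hab _ a.2 _ b.2)
  have h := card_reps hM hmax hab hfree hR
  rw [← card_inertAut] at h
  have h' := L.card_orbits habP
  have he : 0 < Nat.card (inertAut P c) := Nat.card_pos
  have hP : 0 < Nat.card P := Nat.card_pos
  rw [mul_comm] at h
  exact Nat.eq_of_mul_eq_mul_left he (by omega)

end Lattice

end CfsgLib.Blocks.FreeQuot
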