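import Cfsg.Agent.Lib.Blocks.FreeQuotient.ColWeight
import Cfsg.Agent.Lib.Blocks.AbelianLocal
import Cfsg.Agent.Lib.Blocks.LocalBlock

/-!
# Weights of the columns from the local characters

The multiplicities of one idempotent fixed by the defect group at all subgroups of it have local
characters, since the columns of the blocks of centralizers have absolute value one.  When the
inertial index is odd this gives an invariant weight, for the prime two as well.
-/

set_option autoImplicit false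
set_option linter.unusedSectionVars false

namespace CfsgLib.Blocks.FreeQuot

open Cfsg CfsgLib.GrpRing
open scoped ComplexConjugate CfsgLib.Char

/-- The coefficients on a subgroup. -/
noncomputable def pullTo {G R : Type*} [Group G] [Fintype G] [CommRing R] (K : Subgroup G)
    [Fintype K] (a : MonoidAlgebra R G) : MonoidAlgebra R K := ofFun fun z => a.coeff (z : G)

section General

variable {p : ℕ} {M : Ideal AlgInt} [M.IsPrime] {G : Type*} [Group G] [Fintype G]

theorem coeff_pullTo {R : Type*} [CommRing R] (K : Subgroup G) [Fintype K] (a : MonoidAlgebra R G)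
    (z : K) : (pullTo K a).coeff z = a.coeff (z : G) := coeff_ofFun _ _

theorem isIdempotentElem_pullTo {R : Type*} [CommRing R] {K : Subgroup G} [Fintype K]
    {a : MonoidAlgebra R G} (ha : IsIdempotentElem a) (hK : ∀ g ∉ K, a.coeff g = 0) :
    IsIdempotentElem (pullTo K a) := MonoidAlgebra.ext (Finsupp.ext fun z => by
  rw [pullTo, ← coeff_mul_supported hK, ha.eq, coeff_ofFun])

theorem red_pullTo (K : Subgroup G) [Fintype K] (a : OG M G) :
    red (pullTo K a) = pullTo K (red a) := MonoidAlgebra.ext (Finsupp.ext fun z => by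
  rw [coeff_red, coeff_pullTo, coeff_pullTo, coeff_red])

theorem red_push {L : Subgroup G} [Fintype L] {J : OG M L} {j : KG M G}
    (hj : ∀ g ∉ L, j.coeff g = 0) (hJ : red J = pullTo L j) : red (push L J) = j :=
  MonoidAlgebra.ext (Finsupp.ext fun g => by
    rw [coeff_red]
    by_cases hg : g ∈ L
    · lift g to L using hg
      rw [coeff_push_mem, ← coeff_red, hJ, coeff_pullTo]
    · rw [coeff_push_notMem J hg, map_zero, hj g hg])

/-- The trace on a block of a function invariant under the subgroup. -/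
theorem chiSum_secFun_eq (hM : IsPModular p M) {L : Subgroup G} [Fintype L]
    {b : Set (IrrCharacter L)} (hb : IsPBlock M b) (hu : Uni p b) {ξ : IrrCharacter L} (hξ : ξ ∈ b)
    {j : KG M G} (hjL : ∀ g ∉ L, j.coeff g = 0) (hjb : j * blkK M L b = j)
    {J : OG M L} (hJ : IsIdempotentElem J) (hJr : red J = pullTo L j) (v : G) (χ : G → ℂ)
    (hθ : IsClassFunction L (secFun L v χ)) :
    chiSum (secFun L v χ) J = dcol L v b χ * chiSum (ξ : L → ℂ) J := by
  classical
  set eb : OG M L := ofFun fun z => ⟨blockCoeff b z, IsPBlock.memLocalRing_blockCoeff hb z⟩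
  have heb : IsIdempotentElem eb := MonoidAlgebra.ext (Finsupp.ext fun z => Subtype.ext (by
    have h := congrFun (coe_coeff_mul_eq_conv eb eb) z
    simp only [eb, coeff_ofFun] at h ⊢
    rw [h, conv_blockCoeff_self]))
  have hcen : ∀ a : OG M L, Commute eb a := fun a => by
    refine commute_of_support (S := (Set.univ : Set L)) (fun g hg => absurd (Set.mem_univ g) hg) ?_
    exact mem_fixAlg_iff.mpr fun s _ g => Subtype.ext (by
      rw [coeff_ofFun, coeff_ofFun]
      exact isClassFunction_blockCoeff b g s)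
  have hJe : IsIdempotentElem (J * eb) := by
    rw [IsIdempotentElem, mul_assoc, ← mul_assoc eb J, (hcen J).eq, mul_assoc J eb eb, heb.eq,
      ← mul_assoc, hJ.eq]
  have hJer : red (J * eb) = red J := by
    rw [map_mul, hJr]
    refine MonoidAlgebra.ext (Finsupp.ext fun z => ?_)
    rw [show red eb = ofFun fun y : L => (blkK M L b).coeff (y : G) from
      MonoidAlgebra.ext (Finsupp.ext fun y => by
        rw [coeff_red, coeff_ofFun, coeff_ofFun, blkK, coeff_ofFun, subgroupBlockCoeff_eq,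
          extendByZero_apply L (blockCoeff b) y,
          res_mk (IsPBlock.memLocalRing_blockCoeff hb y)]), pullTo, ← coeff_mul_supported hjL, hjb,
      coeff_ofFun]
  set θ : L → ℂ := secFun L v χ with hθdef
  have hΨ : IsClassFunction L (blockPart b θ) := fun z a => by
    rw [blockPart_eq_filter, blockPart_eq_filter]
    exact Finset.sum_congr rfl fun η _ => by rw [irr_classFunction η z a]
  have h2 : chiSum θ J = chiSum (blockPart b θ) J := by
    have hx : ∀ a : OG M L, a ∈ fixAlg (locRing M) ({1} : Set L) := fun a =>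
      mem_fixAlg.mpr fun s hs => by
        rw [Set.mem_singleton_iff.mp hs, GrpRing.dlt_one]; exact Commute.one_left _
    have hxK : ∀ a : KG M L, a ∈ fixAlg (ResField M) ({1} : Set L) := fun a =>
      mem_fixAlg.mpr fun s hs => by
        rw [Set.mem_singleton_iff.mp hs, GrpRing.dlt_one]; exact Commute.one_left _
    have h := chiSum_eq_of_equiv hθ hJe hJ (hx _) (hx _) (c := red J) (d := red J) (hxK _) (hxK _)
      (by rw [← map_mul, hJ.eq, hJer]) (by rw [← map_mul, hJ.eq])
    rw [GrpRing.dlt_one, mul_one, mul_one] at h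
    rw [← h, chiSum_mul]
    refine Finset.sum_congr rfl fun z _ => ?_
    rw [blockPart_eq_sum b hθ, Finset.mul_sum]
    refine Finset.sum_congr rfl fun k _ => ?_
    simp only [eb, coeff_ofFun]
    rw [← hθ (z * k) z⁻¹, show z⁻¹ * (z * k) * z⁻¹⁻¹ = k * z by group]
    ring
  set δ : L → ℂ := fun z => blockPart b θ z - dcol L v b χ * (ξ : L → ℂ) z
  have hδ0 : chiSum δ J = 0 := by
    refine chiSum_idem_eq_zero hM hJ (fun z a => ?_) fun z hz => ?_
    · simp only [δ, hΨ z a, irr_classFunction ξ z a]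
    · simp only [δ, hθdef, blockPart_secFun v hu hξ χ hz, sub_self]
  rw [h2]
  simp only [δ, chiSum] at hδ0 ⊢
  rw [Finset.mul_sum, ← sub_eq_zero, ← Finset.sum_sub_distrib, ← hδ0]
  exact Finset.sum_congr rfl fun z _ => by ring

variable {P : Subgroup G} {c : Set (IrrCharacter (Subgroup.centralizer (P : Set G)))}
  {B : Set (IrrCharacter G)}

/-- A block below a pair with abelian subgroup is the local block of it. -/
theorem localBlock_of_le (hM : IsPModular p M) (hPe : IsBrauerPair p M P c)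
    (hab : ∀ x ∈ P, ∀ y ∈ P, x * y = y * x) {Q : Subgroup G}
    {f : Set (IrrCharacter (Subgroup.centralizer (Q : Set G)))}
    (hle : PairLE p M ⟨Q, f⟩ ⟨P, c⟩) :
    IsLocalBlock M (Subgroup.centralizer (Q : Set G)) P c f := by
  classical
  have hQP : Q ≤ P := hle.fst_le
  have hPN : P ≤ Subgroup.normalizer (Q : Set G) :=
    (show P ≤ Subgroup.centralizer (Q : Set G) from fun a ha b hb => hab b (hQP hb) a ha).trans
      (Subgroup.centralizer_le_normalizer _)
  obtain ⟨f', hns, -⟩ := existsUnique_normalSubpair hM hPe hQP hPN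
  rw [eq_of_le_top hM hPe hle (Relation.ReflTransGen.single hns)]
  exact ⟨hns.1.2, fun ξ hξ => IsNormalSubpair.res_eq_one hns hξ⟩

theorem dcol_localBlock (hM : IsPModular p M) {D : Subgroup G}
    {e : Set (IrrCharacter (Subgroup.centralizer (D : Set G)))} (he : IsBrauerPair p M D e)
    {N N' : Subgroup G} [Fintype N] [Fintype N'] (h : N = N') (hD : D ≤ N)
    (hC : Subgroup.centralizer (D : Set G) ≤ N) {b : Set (IrrCharacter N)}
    {b' : Set (IrrCharacter N')} (hb : IsLocalBlock M N D e b) (hb' : IsLocalBlock M N' D e b')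
    (x : G) (χ : G → ℂ) : dcol N x b χ = dcol N' x b' χ := by
  subst h
  rw [(existsUnique_localBlock hM hD hC he).unique hb hb']
  convert rfl

theorem dcol_upBlock {K : Subgroup G} [Fintype K] {U : Subgroup K}
    (h : Subgroup.centralizer ((U.map K.subtype : Subgroup G) : Set G) ≤ K)
    [Fintype (Subgroup.centralizer (U : Set K))]
    [Fintype (Subgroup.centralizer ((U.map K.subtype : Subgroup G) : Set G))]
    (b : Set (IrrCharacter (Subgroup.centralizer (U : Set K)))) (x : K) (χ : K → ℂ) :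
    dcol (Subgroup.centralizer ((U.map K.subtype : Subgroup G) : Set G)) (x : G) (upBlock U h b)
        (extendByZero K χ) = dcol (Subgroup.centralizer (U : Set K)) x b χ := by
  classical
  rw [dcol, dcol, upBlock, finsum_mem_image (Equiv.injective _).injOn]
  refine finsum_mem_congr rfl fun η _ => ?_
  rw [classInner, classInner, Nat.card_congr (centEquiv U h).toEquiv]
  congr 1
  refine (Fintype.sum_equiv (centEquiv U h).toEquiv _ _ fun z => ?_).symm
  congr 1
  · show χ (x * (z : K)) = extendByZero K χ (((x * (z : K) : K)) : G)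
    rw [extendByZero_apply]

section Top

variable {Q : Subgroup G} {A : Subgroup (Subgroup.centralizer (Q : Set G))}
  {hA : Subgroup.centralizer
    ((A.map (Subgroup.centralizer (Q : Set G)).subtype : Subgroup G) : Set G) ≤
      Subgroup.centralizer (Q : Set G)}
  {c₁ : Set (IrrCharacter (Subgroup.centralizer (A : Set (Subgroup.centralizer (Q : Set G)))))}

/-- The top pair in the centralizer of a nontrivial subgroup of the defect group. -/
theorem below_top [Fintype (Subgroup.centralizer (Q : Set G))] (hM : IsPModular p M) (hc₁ : IsPBlock M c₁)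
    (hmax : IsMaximalBrauerPair p M B (A.map (Subgroup.centralizer (Q : Set G)).subtype)
      (upBlock A hA c₁))
    (hab : ∀ x ∈ A.map (Subgroup.centralizer (Q : Set G)).subtype,
      ∀ y ∈ A.map (Subgroup.centralizer (Q : Set G)).subtype, x * y = y * x)
    (hfree : ∀ g ∈ blockT (A.map (Subgroup.centralizer (Q : Set G)).subtype) (upBlock A hA c₁),
      ∀ x ∈ A.map (Subgroup.centralizer (Q : Set G)).subtype, x ≠ 1 → g * x * g⁻¹ = x →
        g ∈ Subgroup.centralizer
          ((A.map (Subgroup.centralizer (Q : Set G)).subtype : Subgroup G) : Set G))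
    (hQ : Q ≠ ⊥) {f : Set (IrrCharacter (Subgroup.centralizer (Q : Set G)))}
    (hle : PairLE p M ⟨Q, f⟩
      ⟨A.map (Subgroup.centralizer (Q : Set G)).subtype, upBlock A hA c₁⟩) :
    IsMaximalBrauerPair p M f A c₁ ∧
      (∀ a ∈ A, ∀ b ∈ A, a * b = b * a) ∧
      (Subgroup.centralizer (A : Set (Subgroup.centralizer (Q : Set G)))).relIndex
        (blockT A c₁) = 1 ∧
      Uni p f := by
  classical
  have habA : ∀ a ∈ A, ∀ b ∈ A, a * b = b * a := fun a ha b hb =>
    Subtype.ext (hab _ ⟨a, ha, rfl⟩ _ ⟨b, hb, rfl⟩)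
  have hAp : IsPGroup p A :=
    hmax.1.1.1.of_equiv (A.equivMapOfInjective (Subgroup.centralizer (Q : Set G)).subtype (Subgroup.centralizer (Q : Set G)).subtype_injective).symm
  have hpair := (isBrauerPairOf_iff_isLocalBlock hA hAp hc₁).mpr
    (localBlock_of_le hM hmax.1.1 hab hle)
  have hmaxK : IsMaximalBrauerPair p M f A c₁ := by
    refine ⟨hpair, fun R g hg hAR => ?_⟩
    have hle' := SubpairLE.le hAR
    have hCR : Subgroup.centralizer ((R.map (Subgroup.centralizer (Q : Set G)).subtype : Subgroup G) : Set G) ≤ (Subgroup.centralizer (Q : Set G)) :=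
      centralizer_map_le_of_le R (Subgroup.map_mono hle') hA
    have hup := subpairLE_upBlock hA hCR hAR
    have hgB := (SubpairLE.isBrauerPairOf_iff hM hup hmax.1.2.1).mpr hmax.1
    exact Subgroup.map_injective (Subgroup.centralizer (Q : Set G)).subtype_injective (hmax.2 _ _ hgB hup)
  have he : (Subgroup.centralizer (A : Set (Subgroup.centralizer (Q : Set G)))).relIndex (blockT A c₁) = 1 := by
    refine Subgroup.relIndex_eq_one.mpr fun y hy => ?_
    obtain ⟨⟨q, hq⟩, hq1⟩ := Subgroup.ne_bot_iff_exists_ne_one.mp hQ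
    obtain ⟨hyN, hyst⟩ := mem_blockT.mp hy
    have hyK : A = A.map (MulAut.conj y).toMonoidHom :=
      (Subgroup.mem_normalizer_iff_map_conj_eq.mp hyN).symm
    have hyN' : (y : G) ∈ Subgroup.normalizer ((A.map (Subgroup.centralizer (Q : Set G)).subtype : Subgroup G) : Set G) := by
      rw [Subgroup.mem_normalizer_iff_map_conj_eq] at hyN ⊢
      conv_rhs => rw [← hyN]
      rw [Subgroup.map_map, Subgroup.map_map]
      rfl
    have hT : (y : G) ∈ blockT (A.map (Subgroup.centralizer (Q : Set G)).subtype) (upBlock A hA c₁) := by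
      refine mem_blockT.mpr ⟨hyN', stabilizesBlock_iff.mpr
        ⟨mem_normalizer_centralizer hyN', ?_⟩⟩
      rw [(conjSet_upBlock y hA hA hyK c₁).2,
        (stabilizesBlock_iff.mp hyst).2]
    have hfix : (y : G) * q * (y : G)⁻¹ = q := by rw [← y.2 q hq, mul_inv_cancel_right]
    have hyC := hfree _ hT q (hle.fst_le hq) (fun h => hq1 (Subtype.ext h)) hfix
    exact fun a ha => Subtype.ext (hyC _ ⟨a, ha, rfl⟩)
  refine ⟨hmaxK, habA, he, fun η hη η' hη' s hs => ?_⟩
  obtain ⟨χ₀, -, Φ, hΦ⟩ := nilpotent_block_characters hM hmaxK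
    (isNilpotentBlock_of_relIndex_one hM hmaxK habA he)
  let : Fintype A := Fintype.ofFinite A
  have hAab : ∀ a b : A, a * b = b * a := fun a b => Subtype.ext (habA _ a.2 _ b.2)
  rw [(hΦ ⟨η, hη⟩).2 s hs, (hΦ ⟨η', hη'⟩).2 s hs, Char.degree_one_of_comm hAab,
    Char.degree_one_of_comm hAab]

end Top

theorem exists_top_in (hM : IsPModular p M) (hmax : IsMaximalBrauerPair p M B P c) {K : Subgroup G}
    (hPK : P ≤ K) (hCK : Subgroup.centralizer (P : Set G) ≤ K) :
    ∃ A : Subgroup K, ∃ h : A.map K.subtype = P,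
      Subgroup.centralizer ((A.map K.subtype : Subgroup G) : Set G) ≤ K :=
  ⟨P.subgroupOf K, Subgroup.map_subgroupOf_eq_of_le hPK,
    by rwa [Subgroup.map_subgroupOf_eq_of_le hPK]⟩

/-- The block below the pair on a nontrivial subgroup has one Brauer character. -/
theorem uni_below (hM : IsPModular p M) (hmax : IsMaximalBrauerPair p M B P c)
    (hab : ∀ x ∈ P, ∀ y ∈ P, x * y = y * x)
    (hfree : ∀ g ∈ blockT P c, ∀ x ∈ P, x ≠ 1 → g * x * g⁻¹ = x →
      g ∈ Subgroup.centralizer (P : Set G))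
    {Q : Subgroup G} (hQ : Q ≠ ⊥) {f : Set (IrrCharacter (Subgroup.centralizer (Q : Set G)))}
    (hle : PairLE p M ⟨Q, f⟩ ⟨P, c⟩) : Uni p f := by
  classical
  have hQP : Q ≤ P := hle.fst_le
  obtain ⟨A, rfl, hA⟩ := exists_top_in hM hmax
    (K := Subgroup.centralizer (Q : Set G)) (fun a ha b hb => hab b (hQP hb) a ha)
    (Subgroup.centralizer_le (SetLike.coe_subset_coe.mpr hQP))
  let : Fintype (Subgroup.centralizer (Q : Set G)) := Fintype.ofFinite _
  obtain ⟨c₁, hc₁, rfl⟩ := exists_upBlock_eq hA hmax.1.1.2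
  exact (below_top hM hc₁ hmax hab hfree hQ hle).2.2.2

variable (p M P c) in
/-- `n` is the multiplicity of `e` at `U`. -/
def IsMult (e : KG M G) (U : Subgroup G) (n : ℕ) : Prop :=
  letI := Fintype.ofFinite (Subgroup.centralizer (U : Set G))
  ∀ b, PairLE p M ⟨U, b⟩ ⟨P, c⟩ → ∀ J : OG M (Subgroup.centralizer (U : Set G)),
    IsIdempotentElem J → red J = pullTo (Subgroup.centralizer (U : Set G)) (trunc U e) →
      ∀ ξ ∈ b, chiSum (ξ : Subgroup.centralizer (U : Set G) → ℂ) J = (n : ℂ)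

variable (hM : IsPModular p M) (hmax : IsMaximalBrauerPair p M B P c)
  (hab : ∀ x ∈ P, ∀ y ∈ P, x * y = y * x)
  (hfree : ∀ g ∈ blockT P c, ∀ x ∈ P, x ≠ 1 → g * x * g⁻¹ = x →
    g ∈ Subgroup.centralizer (P : Set G))
  {e : KG M G} (he : e ∈ fixAlg (ResField M) (P : Set G)) (hei : IsIdempotentElem e)
  (hbad : ∀ (U : Subgroup G) (g : Set (IrrCharacter (Subgroup.centralizer (U : Set G)))), U ≤ P →
    IsPBlock M g → ¬ SubpairLE p M U g P c →
      trunc U e * blkK M (Subgroup.centralizer (U : Set G)) g = 0)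
include hM hmax hab hfree he hei hbad

theorem trunc_mul_blk {U : Subgroup G} (hU : U ≤ P)
    {b : Set (IrrCharacter (Subgroup.centralizer (U : Set G)))}
    (hb : PairLE p M ⟨U, b⟩ ⟨P, c⟩) :
    trunc U e * blkK M (Subgroup.centralizer (U : Set G)) b = trunc U e := by
  classical
  have hbb : IsPBlock M b := (SubpairLE.isBrauerPair hb hmax.1.1).2
  conv_rhs => rw [← mul_one (trunc U e),
    ← sum_blkK_subBlocks (M := M) (Subgroup.centralizer (U : Set G)), Finset.mul_sum]
  rw [Finset.sum_eq_single_of_mem b (mem_subBlocks.mpr hbb)]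
  intro g hg hne
  exact hbad _ g hU (mem_subBlocks.mp hg) fun hle => hne (eq_of_le_top hM hmax.1.1 hle hb)

theorem exists_isMult {U : Subgroup G} (hU : U ≤ P) (hU1 : U ≠ ⊥) :
    ∃ n, IsMult p M P c e U n := by
  classical
  have : Fact p.Prime := ⟨hM.1⟩
  have := charP_resField hM
  let := Fintype.ofFinite (Subgroup.centralizer (U : Set G))
  set L := Subgroup.centralizer (U : Set G) with hL
  obtain ⟨b₀, hb₀⟩ := exists_le_top hM hmax.1.1 hU
  have hbb : IsPBlock M b₀ := (SubpairLE.isBrauerPair hb₀ hmax.1.1).2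
  obtain ⟨ξ₀, hξ₀⟩ := IsPBlock.nonempty hbb
  have hUp : IsPGroup p U := hmax.1.1.1.to_le hU
  set j := trunc U e
  have hjL : ∀ g ∉ L, j.coeff g = 0 := fun g hg => coeff_trunc_of_notMem e hg
  have hji : IsIdempotentElem j :=
    isIdempotentElem_trunc hUp (fixAlg_anti (fun x hx => hU hx) he) hei
  obtain ⟨J₀, -, hJ₀, hJ₀r⟩ := exists_lift_idempotent' (S := (∅ : Set L))
    (isIdempotentElem_pullTo hji hjL) (mem_fixAlg.mpr fun s hs => absurd hs (Set.notMem_empty s))
  obtain ⟨n, hn⟩ : ∃ n : ℕ, chiSum (ξ₀ : L → ℂ) J₀ = n := by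
    obtain ⟨n, ρ, hρ⟩ := isCharacter_chiSum (Char.isCharacter_of_isIrr ξ₀.2) (1 : Unit →* L) hJ₀
      fun _ => by rw [MonoidHom.one_apply, GrpRing.dlt_one]; exact Commute.one_left _
    refine ⟨n, ?_⟩
    have h2 := congrFun hρ 1
    rw [Representation.char_one] at h2
    simp only [MonoidHom.one_apply, GrpRing.dlt_one, mul_one] at h2
    simpa using h2.symm
  refine ⟨n, fun b hb J hJ hJr ξ hξ => ?_⟩
  obtain rfl := eq_of_le_top hM hmax.1.1 hb hb₀
  have hx : ∀ a : OG M L, a ∈ fixAlg (locRing M) ({1} : Set L) := fun a =>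
    mem_fixAlg.mpr fun s hs => by
      rw [Set.mem_singleton_iff.mp hs, GrpRing.dlt_one]; exact Commute.one_left _
  have h1 := blkTrace_red (irr_classFunction ξ) hJ (hx J)
  have h2 := blkTrace_red (irr_classFunction ξ) hJ₀ (hx J₀)
  rw [GrpRing.dlt_one, mul_one] at h1 h2
  rw [hJ₀r] at h2
  rw [hJr] at h1
  replace h1 := h2.symm.trans h1
  suffices h3 : chiSum (ξ : L → ℂ) J₀ = chiSum (ξ₀ : L → ℂ) J₀ by
    convert h1.symm.trans (h3.trans hn)
  rw [← sub_eq_zero]
  have h3 := chiSum_idem_eq_zero hM hJ₀ (δ := fun z => (ξ : L → ℂ) z - (ξ₀ : L → ℂ) z)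
    (fun z a => by simp only [irr_classFunction ξ z a, irr_classFunction ξ₀ z a])
    (fun z hz => sub_eq_zero.mpr (uni_below hM hmax hab hfree hU1 hb ξ hξ ξ₀ hξ₀ z hz))
  rw [← h3]
  simp only [chiSum, ← Finset.sum_sub_distrib, mul_sub]
  convert rfl

end General

section Local

variable {p : ℕ} {M : Ideal AlgInt} [M.IsPrime] {G : Type*} [Group G] [Fintype G] {P : Subgroup G}
  {c : Set (IrrCharacter (Subgroup.centralizer (P : Set G)))} {B : Set (IrrCharacter G)}

/-- The trace of a character of the centralizer of `Q` on the localized idempotent. -/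
theorem local_value {Q : Subgroup G} [Fintype (Subgroup.centralizer (Q : Set G))]
    {A : Subgroup (Subgroup.centralizer (Q : Set G))}
    {hA : Subgroup.centralizer
      ((A.map (Subgroup.centralizer (Q : Set G)).subtype : Subgroup G) : Set G) ≤
        Subgroup.centralizer (Q : Set G)}
    {c₁ : Set (IrrCharacter (Subgroup.centralizer (A : Set (Subgroup.centralizer (Q : Set G)))))}
    (hM : IsPModular p M) (hc₁ : IsPBlock M c₁)
    (hP : P = A.map (Subgroup.centralizer (Q : Set G)).subtype)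
    (hc : (⟨P, c⟩ : BrauerPairIdx G) =
      ⟨A.map (Subgroup.centralizer (Q : Set G)).subtype, upBlock A hA c₁⟩)
    (hmax : IsMaximalBrauerPair p M B P c)
    (hab : ∀ x ∈ P, ∀ y ∈ P, x * y = y * x)
    (hfree : ∀ g ∈ blockT P c, ∀ x ∈ P, x ≠ 1 → g * x * g⁻¹ = x →
      g ∈ Subgroup.centralizer (P : Set G))
    {e : KG M G} (he : e ∈ fixAlg (ResField M) (P : Set G)) (hei : IsIdempotentElem e)
    (hbad : ∀ (U : Subgroup G) (g : Set (IrrCharacter (Subgroup.centralizer (U : Set G)))), U ≤ P →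
      IsPBlock M g → ¬ SubpairLE p M U g P c →
        trunc U e * blkK M (Subgroup.centralizer (U : Set G)) g = 0)
    {EK : OG M (Subgroup.centralizer (Q : Set G))} (hEK : IsIdempotentElem EK)
    (hEKA : EK ∈ fixAlg (locRing M) (A : Set (Subgroup.centralizer (Q : Set G))))
    (hEKr : red EK = pullTo (Subgroup.centralizer (Q : Set G)) (trunc Q e))
    (η : IrrCharacter (Subgroup.centralizer (Q : Set G)))
    {x : Subgroup.centralizer (Q : Set G)} (hxA : x ∈ A) (hx1 : x ≠ 1)
    {U : Subgroup (Subgroup.centralizer (Q : Set G))} (hxU : x ∈ U) (hUA : U ≤ A)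
    (hU : Subgroup.centralizer ((U.map (Subgroup.centralizer (Q : Set G)).subtype : Subgroup G) :
      Set G) ≤ Subgroup.centralizer (Q : Set G))
    (hzU : ∀ z : Subgroup.centralizer (Q : Set G),
      z ∈ Subgroup.centralizer ((Subgroup.zpowers x : Subgroup _) : Set _) ↔
        z ∈ Subgroup.centralizer (U : Set (Subgroup.centralizer (Q : Set G))))
    {n : ℕ} (hn : IsMult p M P c e (U.map (Subgroup.centralizer (Q : Set G)).subtype) n) :
    chiSum (η : Subgroup.centralizer (Q : Set G) → ℂ) (EK * dlt (locRing M) x) =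
      col p M A c₁ x η * n := by
  classical
  subst hP
  obtain rfl : c = upBlock A hA c₁ := eq_of_heq (Sigma.mk.inj hc).2
  have : Fact p.Prime := ⟨hM.1⟩
  have := charP_resField hM
  have hUP := Subgroup.map_mono (f := (Subgroup.centralizer (Q : Set G)).subtype) hUA
  have hUp : IsPGroup p (U.map (Subgroup.centralizer (Q : Set G)).subtype) := hmax.1.1.1.to_le hUP
  have hAp : IsPGroup p A := hmax.1.1.1.of_equiv
    (A.equivMapOfInjective _ (Subgroup.centralizer (Q : Set G)).subtype_injective).symm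
  have hPeK : IsBrauerPair p M A c₁ := ⟨hAp, hc₁⟩
  have habA : ∀ a ∈ A, ∀ b ∈ A, a * b = b * a := fun a ha b hb =>
    Subtype.ext (hab _ ⟨a, ha, rfl⟩ _ ⟨b, hb, rfl⟩)
  have hU1 : U.map (Subgroup.centralizer (Q : Set G)).subtype ≠ ⊥ := fun h =>
    hx1 (Subtype.ext (Subgroup.mem_bot.mp (h ▸ (⟨x, hxU, rfl⟩ :
      (x : G) ∈ U.map (Subgroup.centralizer (Q : Set G)).subtype))))
  obtain ⟨b', hb'⟩ := exists_le_top hM hPeK hUA
  have hup : PairLE p M ⟨U.map (Subgroup.centralizer (Q : Set G)).subtype, upBlock U hU b'⟩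
      ⟨A.map (Subgroup.centralizer (Q : Set G)).subtype, upBlock A hA c₁⟩ :=
    subpairLE_upBlock hU hA hb'
  let : Fintype (Subgroup.centralizer
    ((U.map (Subgroup.centralizer (Q : Set G)).subtype : Subgroup G) : Set G)) := Fintype.ofFinite _
  have hbb := (SubpairLE.isBrauerPair hup hmax.1.1).2
  obtain ⟨ξ, hξ⟩ := IsPBlock.nonempty hbb
  have hjL : ∀ g ∉ Subgroup.centralizer
      ((U.map (Subgroup.centralizer (Q : Set G)).subtype : Subgroup G) : Set G),
      (trunc (U.map (Subgroup.centralizer (Q : Set G)).subtype) e).coeff g = 0 :=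
    fun g hg => coeff_trunc_of_notMem e hg
  have hji := isIdempotentElem_trunc hUp (fixAlg_anti (fun y hy => hUP hy) he) hei
  obtain ⟨J, -, hJ, hJr⟩ := exists_lift_idempotent'
    (S := (∅ : Set (Subgroup.centralizer
      ((U.map (Subgroup.centralizer (Q : Set G)).subtype : Subgroup G) : Set G))))
    (isIdempotentElem_pullTo hji hjL) (mem_fixAlg.mpr fun s hs => absurd hs (Set.notMem_empty s))
  have hξn : chiSum (ξ : _ → ℂ) J = (n : ℂ) := by
    convert hn _ hup J hJ (by convert hJr) ξ hξ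
  -- the lift in the centralizer of `Q`
  set E' := pullTo (Subgroup.centralizer (Q : Set G)) (push (Subgroup.centralizer
    ((U.map (Subgroup.centralizer (Q : Set G)).subtype : Subgroup G) : Set G)) J) with hE'def
  have hE'i : IsIdempotentElem E' := isIdempotentElem_pullTo (isIdempotentElem_push hJ)
    fun g hg => coeff_push_notMem J fun hm => hg (hU hm)
  have hE'r : red E' = pullTo (Subgroup.centralizer (Q : Set G))
      (trunc (U.map (Subgroup.centralizer (Q : Set G)).subtype) e) := by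
    rw [hE'def, red_pullTo, red_push hjL hJr]
  have hE'x : E' ∈ fixAlg (locRing M) ({x} : Set (Subgroup.centralizer (Q : Set G))) := by
    refine mem_fixAlg_iff.mpr fun s hs g => ?_
    rw [Set.mem_singleton_iff.mp hs, hE'def, coeff_pullTo, coeff_pullTo]
    push_cast
    by_cases hg : (g : G) ∈ Subgroup.centralizer
        ((U.map (Subgroup.centralizer (Q : Set G)).subtype : Subgroup G) : Set G)
    · rw [hg (x : G) ⟨x, hxU, rfl⟩, mul_inv_cancel_right]
    · rw [coeff_push_notMem J hg, coeff_push_notMem J fun hm => hg ?_]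
      have h := hm (x : G) ⟨x, hxU, rfl⟩
      have hxg : (x : G) * g * (x : G)⁻¹ = g := by
        have : (x : G) * g * (x : G)⁻¹ * x = x * g := by group
        rw [← h] at this
        have h2 : (x : G) * ((x : G) * g * (x : G)⁻¹) = (x : G) * g := this
        exact mul_left_cancel h2
      rwa [hxg] at hm
  have hmemx : ∀ z : Subgroup.centralizer (Q : Set G),
      z ∈ Subgroup.centralizer ((Subgroup.zpowers x : Subgroup _) : Set _) ↔
        (z : G) ∈ Subgroup.centralizer
          ((U.map (Subgroup.centralizer (Q : Set G)).subtype : Subgroup G) : Set G) := by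
    intro z
    rw [hzU]
    constructor
    · rintro hz _ ⟨a, ha, rfl⟩
      exact congrArg Subtype.val (hz a ha)
    · exact fun hz a ha => Subtype.ext (hz _ ⟨a, ha, rfl⟩)
  obtain ⟨k, hk⟩ := exists_pow_orderOf_mem hM hAp ⟨x, hxA⟩
  have h1 : ¬ p ∣ orderOf (1 : Subgroup.centralizer (Q : Set G)) := by
    rw [orderOf_one]; exact hM.1.not_dvd_one
  have hpair : ∀ {z : KG M (Subgroup.centralizer (Q : Set G))},
      z ∈ fixAlg (ResField M) ({x} : Set _) → z ∈ fixAlg (ResField M) ({x, 1} : Set _) :=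
    fun hz => mem_fixAlg.mpr fun s hs => by
      rcases hs with rfl | rfl
      · exact mem_fixAlg.mp hz _ rfl
      · rw [GrpRing.dlt_one]; exact Commute.one_left _
  have hEKx : EK ∈ fixAlg (locRing M) ({x} : Set (Subgroup.centralizer (Q : Set G))) :=
    fixAlg_anti (Set.singleton_subset_iff.mpr hxA) hEKA
  have htr : trunc (Subgroup.zpowers x) (red EK) = trunc (Subgroup.zpowers x) (red E') := by
    rw [hEKr, hE'r]
    refine MonoidAlgebra.ext (Finsupp.ext fun z => ?_)
    by_cases hz : z ∈ Subgroup.centralizer ((Subgroup.zpowers x : Subgroup _) : Set _)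
    · rw [coeff_trunc_of_mem _ hz, coeff_trunc_of_mem _ hz, coeff_pullTo, coeff_pullTo,
        coeff_trunc_of_mem _ z.2, coeff_trunc_of_mem _ ((hmemx z).mp hz)]
    · rw [coeff_trunc_of_notMem _ hz, coeff_trunc_of_notMem _ hz]
  have h := blkTrace_eq_of_trunc_eq hM (Commute.one_right x) hk h1 (irr_classFunction η)
    (hEK.map red) (hE'i.map red) (hpair (red_mem_fixAlg hEKx)) (hpair (red_mem_fixAlg hE'x)) htr
  rw [mul_one, blkTrace_red (irr_classFunction η) hEK hEKx,
    blkTrace_red (irr_classFunction η) hE'i hE'x] at h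
  rw [h]
  have hsv : ∀ l : Subgroup.centralizer
      ((U.map (Subgroup.centralizer (Q : Set G)).subtype : Subgroup G) : Set G),
      secFun (Subgroup.centralizer
        ((U.map (Subgroup.centralizer (Q : Set G)).subtype : Subgroup G) : Set G)) (x : G)
        (extendByZero (Subgroup.centralizer (Q : Set G))
          (η : Subgroup.centralizer (Q : Set G) → ℂ)) l =
      (η : Subgroup.centralizer (Q : Set G) → ℂ) (x * ⟨(l : G), hU l.2⟩) := fun l => by
    simp only [secFun]
    exact extendByZero_apply _ (η : Subgroup.centralizer (Q : Set G) → ℂ) (x * ⟨(l : G), hU l.2⟩)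
  have hsec : chiSum (η : Subgroup.centralizer (Q : Set G) → ℂ) (E' * dlt (locRing M) x) =
      chiSum (secFun (Subgroup.centralizer
        ((U.map (Subgroup.centralizer (Q : Set G)).subtype : Subgroup G) : Set G)) (x : G)
        (extendByZero (Subgroup.centralizer (Q : Set G))
          (η : Subgroup.centralizer (Q : Set G) → ℂ))) J := by
    rw [chiSum_mul_dlt, chiSum]
    symm
    refine Fintype.sum_of_injective
      (fun l : Subgroup.centralizer
        ((U.map (Subgroup.centralizer (Q : Set G)).subtype : Subgroup G) : Set G) =>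
          (⟨(l : G), hU l.2⟩ : Subgroup.centralizer (Q : Set G)))
      (fun a b hab' => Subtype.ext (congrArg Subtype.val hab' :)) _ _ (fun z hz => ?_) fun l => ?_
    · rw [hE'def, coeff_pullTo, coeff_push_notMem J fun hm => hz ⟨⟨z, hm⟩, rfl⟩,
        ZeroMemClass.coe_zero, zero_mul]
    · rw [hE'def, coeff_pullTo, coeff_push_mem, hsv]
      refine congrArg₂ _ rfl (congrArg _ (Subtype.ext ?_))
      exact l.2 (x : G) ⟨x, hxU, rfl⟩
  rw [hsec, chiSum_secFun_eq hM hbb (uni_below hM hmax hab hfree hU1 hup) hξ hjL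
    (trunc_mul_blk hM hmax hab hfree he hei hbad hUP hup) hJ hJr, hξn]
  · congr 1
    let : Fintype (cz x) := Fintype.ofFinite _
    let : Fintype (Subgroup.centralizer (U : Set (Subgroup.centralizer (Q : Set G)))) :=
      Fintype.ofFinite _
    rw [dcol_upBlock hU b' x (η : Subgroup.centralizer (Q : Set G) → ℂ), col_eq]
    refine (dcol_localBlock hM hPeK ?_ ?_ ?_
      (localBlock_of_le hM hPeK habA (bk_le hM hPeK hxA))
      (localBlock_of_le hM hPeK habA hb') x _).symm
    · exact Subgroup.ext fun z => hzU z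
    · exact fun a ha y hy => habA y ((Subgroup.zpowers_le.mpr hxA) hy) a ha
    · exact Subgroup.centralizer_le (SetLike.coe_subset_coe.mpr (Subgroup.zpowers_le.mpr hxA))
  · intro l a
    rw [hsv, hsv, ← irr_classFunction η (x * ⟨(l : G), hU l.2⟩) ⟨(a : G), hU a.2⟩]
    refine congrArg _ (Subtype.ext ?_)
    show (x : G) * ((a : G) * (l : G) * (a : G)⁻¹) = (a : G) * ((x : G) * (l : G)) * (a : G)⁻¹
    rw [← mul_assoc (a : G), ← a.2 (x : G) ⟨x, hxU, rfl⟩]
    group

theorem exists_local_char (hM : IsPModular p M) (hmax : IsMaximalBrauerPair p M B P c)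
    (hab : ∀ x ∈ P, ∀ y ∈ P, x * y = y * x)
    (hfree : ∀ g ∈ blockT P c, ∀ x ∈ P, x ≠ 1 → g * x * g⁻¹ = x →
      g ∈ Subgroup.centralizer (P : Set G))
    {e : KG M G} (he : e ∈ fixAlg (ResField M) (P : Set G)) (hei : IsIdempotentElem e)
    (hbad : ∀ (U : Subgroup G) (g : Set (IrrCharacter (Subgroup.centralizer (U : Set G)))), U ≤ P →
      IsPBlock M g → ¬ SubpairLE p M U g P c →
        trunc U e * blkK M (Subgroup.centralizer (U : Set G)) g = 0)
    {N : Subgroup G → ℕ} (hN : ∀ U ≤ P, U ≠ ⊥ → IsMult p M P c e U (N U))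
    {Q : Subgroup G} (hQP : Q ≤ P) (hQ : Q ≠ ⊥) :
    ∃ f δ : P → ℂ, IsCharacter P f ∧ f 1 = (N Q : ℂ) ∧ ∀ x : P, x ≠ 1 →
      IsIntegral ℤ (δ x) ∧ ‖δ x‖ = 1 ∧
        f x = δ x * (N (Q ⊔ Subgroup.zpowers (x : G)) : ℂ) := by
  classical
  have : Fact p.Prime := ⟨hM.1⟩
  have := charP_resField hM
  let : Fintype (Subgroup.centralizer (Q : Set G)) := Fintype.ofFinite _
  have hPK : P ≤ Subgroup.centralizer (Q : Set G) := fun a ha b hb => hab b (hQP hb) a ha
  obtain ⟨A, rfl, hA⟩ := exists_top_in hM hmax hPK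
    (Subgroup.centralizer_le (SetLike.coe_subset_coe.mpr hQP))
  obtain ⟨c₁, hc₁, rfl⟩ := exists_upBlock_eq hA hmax.1.1.2
  obtain ⟨bQ, hbQ⟩ := exists_le_top hM hmax.1.1 hQP
  obtain ⟨hmaxK, habA, he1, -⟩ := below_top hM hc₁ hmax hab hfree hQ hbQ
  obtain ⟨η, hη, hη0⟩ := exists_blockHeight_eq_zero hM hmaxK.1.2.1
  have hQp : IsPGroup p Q := hmax.1.1.1.to_le hQP
  have hji := isIdempotentElem_trunc hQp (fixAlg_anti (fun y hy => hQP hy) he) hei
  have hjfix : pullTo (Subgroup.centralizer (Q : Set G)) (trunc Q e) ∈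
      fixAlg (ResField M) (A : Set (Subgroup.centralizer (Q : Set G))) := by
    refine mem_fixAlg_iff.mpr fun s hs g => ?_
    rw [coeff_pullTo, coeff_pullTo, coeff_trunc_of_mem _ g.2, coeff_trunc_of_mem _ (s * g * s⁻¹).2]
    exact mem_fixAlg_iff.mp he (s : G) ⟨s, hs, rfl⟩ (g : G)
  obtain ⟨EK, hEKA, hEK, hEKr⟩ := exists_lift_idempotent'
    (isIdempotentElem_pullTo hji fun g hg => coeff_trunc_of_notMem e hg) hjfix
  let ι : ↥(A.map (Subgroup.centralizer (Q : Set G)).subtype) →*
      Subgroup.centralizer (Q : Set G) := Subgroup.inclusion hPK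
  have hι : ∀ x, ι x ∈ A := fun x => by
    obtain ⟨a, ha, hax⟩ := x.2
    rwa [show ι x = a from Subtype.ext hax.symm]
  refine ⟨fun x => chiSum (η : Subgroup.centralizer (Q : Set G) → ℂ)
    (EK * dlt (locRing M) (ι x)), fun x => col p M A c₁ (ι x) η,
    isCharacter_chiSum (Char.isCharacter_of_isIrr η.2) ι hEK
      fun x => mem_fixAlg.mp hEKA _ (hι x), ?_, fun x hx => ?_⟩
  · show chiSum (η : Subgroup.centralizer (Q : Set G) → ℂ) (EK * dlt (locRing M) (ι 1)) = _
    rw [map_one, GrpRing.dlt_one, mul_one]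
    convert hN Q hQP hQ bQ hbQ EK hEK (by convert hEKr) η hη
  have hx1 : ι x ≠ 1 := fun h => hx (Subtype.ext (congrArg Subtype.val h :))
  refine ⟨isIntegral_col η, ?_, ?_⟩
  · have h := col_mul_conj_eq_one hM hmaxK habA he1 hη hη0 ⟨ι x, hι x⟩
      fun h => hx1 (congrArg Subtype.val h)
    rw [Complex.mul_conj, Complex.normSq_eq_norm_sq] at h
    have h2 : ‖col p M A c₁ (ι x) η‖ ^ 2 = 1 := by exact_mod_cast h
    exact (pow_eq_one_iff_of_nonneg (norm_nonneg _) two_ne_zero).mp h2
  have hVP : Q ⊔ Subgroup.zpowers (x : G) ≤ A.map (Subgroup.centralizer (Q : Set G)).subtype :=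
    sup_le hQP (Subgroup.zpowers_le.mpr x.2)
  have hVK := hVP.trans hPK
  obtain ⟨U, hU⟩ : ∃ U : Subgroup (Subgroup.centralizer (Q : Set G)),
      U.map (Subgroup.centralizer (Q : Set G)).subtype = Q ⊔ Subgroup.zpowers (x : G) :=
    ⟨_, Subgroup.map_subgroupOf_eq_of_le hVK⟩
  have hV1 : Q ⊔ Subgroup.zpowers (x : G) ≠ ⊥ := fun h => hQ (le_bot_iff.mp (h ▸ le_sup_left))
  rw [← hU]
  refine (local_value hM hc₁ rfl rfl hmax hab hfree he hei hbad hEK hEKA hEKr η (hι x) hx1 ?_ ?_
    (by rw [hU]; exact Subgroup.centralizer_le (SetLike.coe_subset_coe.mpr le_sup_left)) ?_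
    (hN _ (hU ▸ hVP) (by rw [hU]; exact hV1))).trans rfl
  · have : (x : G) ∈ U.map (Subgroup.centralizer (Q : Set G)).subtype :=
      hU ▸ Subgroup.mem_sup_right (Subgroup.mem_zpowers _)
    obtain ⟨a, ha, hax⟩ := this
    rwa [show ι x = a from Subtype.ext hax.symm]
  · exact (Subgroup.map_le_map_iff_of_injective
      (Subgroup.centralizer (Q : Set G)).subtype_injective).mp (hU ▸ hVP)
  · intro z
    constructor
    · intro hz a ha
      refine Subtype.ext ?_
      have haG : (a : G) ∈ Q ⊔ Subgroup.zpowers (x : G) := hU ▸ ⟨a, ha, rfl⟩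
      have hle : Q ⊔ Subgroup.zpowers (x : G) ≤ Subgroup.centralizer ({(z : G)} : Set G) :=
        sup_le (fun q hq w hw => by
          rw [Set.mem_singleton_iff.mp hw]; exact (z.2 q hq).symm)
          (Subgroup.zpowers_le.mpr fun w hw => by
            rw [Set.mem_singleton_iff.mp hw]
            exact (congrArg Subtype.val (hz (ι x) (Subgroup.mem_zpowers _))).symm)
      exact (hle haG (z : G) rfl).symm
    · intro hz a ha
      have : (x : G) ∈ U.map (Subgroup.centralizer (Q : Set G)).subtype :=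
        hU ▸ Subgroup.mem_sup_right (Subgroup.mem_zpowers _)
      obtain ⟨a', ha', hax⟩ := this
      obtain ⟨m, rfl⟩ := Subgroup.mem_zpowers_iff.mp ha
      rw [show ι x = a' from Subtype.ext hax.symm]
      exact (Commute.zpow_left (show Commute a' z from hz a' ha') m).eq

end Local

section Weight

variable {p : ℕ} {M : Ideal AlgInt} [M.IsPrime] {G : Type*} [Group G] [Fintype G] {P : Subgroup G}
  {c : Set (IrrCharacter (Subgroup.centralizer (P : Set G)))} {B : Set (IrrCharacter G)}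
  [DecidablePred (· ∈ B)]

/-- Multiplicities with local characters which weight the columns. -/
theorem exists_local_weight (hM : IsPModular p M) (hmax : IsMaximalBrauerPair p M B P c)
    (hab : ∀ x ∈ P, ∀ y ∈ P, x * y = y * x)
    (hfree : ∀ g ∈ blockT P c, ∀ x ∈ P, x ≠ 1 → g * x * g⁻¹ = x →
      g ∈ Subgroup.centralizer (P : Set G))
    (hP1 : P ≠ ⊥) {χ₀ : IrrCharacter G} (hχ₀ : χ₀ ∈ B) (h0 : blockHeight p B (χ₀ : G → ℂ) = 0) :
    ∃ N : Subgroup P → ℕ, ¬ p ∣ N ⊤ ∧ HasLocalChars N ∧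
      (∀ u : P, u ≠ 1 → ¬ p ∣ N (Subgroup.zpowers u) ∧
        ¬ MemLocalIdeal M (col p M P c (u : G) χ₀)) ∧
      ∀ χ : IrrCharacter G, ∃ F : P → ℂ, IsGeneralizedCharacter P F ∧
        ∀ u : P, u ≠ 1 → F u = (N (Subgroup.zpowers u) : ℂ) * col p M P c (u : G) χ := by
  classical
  have : Fact p.Prime := ⟨hM.1⟩
  have := charP_resField hM
  have hPe := hmax.1.1
  have hPp : IsPGroup p P := hPe.1
  have habP : ∀ a b : P, a * b = b * a := fun a b => Subtype.ext (hab _ a.2 _ b.2)
  obtain ⟨e, he, hei, hbad, hsum⟩ := exists_local_idem hM hmax hab hχ₀ h0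
  obtain ⟨E, hE, hEi, hEr⟩ := exists_lift_idempotent' hei he
  have hNex : ∀ U : Subgroup G, ∃ n, U ≤ P → U ≠ ⊥ → IsMult p M P c e U n := fun U => by
    by_cases h : U ≤ P ∧ U ≠ ⊥
    · obtain ⟨n, hn⟩ := exists_isMult hM hmax hab hfree he hei hbad h.1 h.2
      exact ⟨n, fun _ _ => hn⟩
    · exact ⟨0, fun h1 h2 => absurd ⟨h1, h2⟩ h⟩
  choose N hN using hNex
  have hF : ∀ χ : IrrCharacter G, IsCharacter P (fun u : P =>
      chiSum (χ : G → ℂ) (E * dlt (locRing M) (u : G))) := fun χ =>
    isCharacter_chiSum (Char.isCharacter_of_isIrr χ.2) P.subtype hEi fun u =>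
      mem_fixAlg.mp hE _ u.2
  have hFu : ∀ (χ : IrrCharacter G) (u : P), u ≠ 1 →
      chiSum (χ : G → ℂ) (E * dlt (locRing M) (u : G)) =
        (N (Subgroup.zpowers (u : G)) : ℂ) * col p M P c (u : G) χ := by
    intro χ u hu
    have hv := u.2
    set v : G := (u : G)
    set U := Subgroup.zpowers v with hUdef
    have hUP : U ≤ P := Subgroup.zpowers_le.mpr hv
    have hU1 : U ≠ ⊥ := fun h => hu (Subtype.ext (Subgroup.zpowers_eq_bot.mp h))
    have hUp : IsPGroup p U := hPp.to_le hUP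
    let : Fintype (Subgroup.centralizer (U : Set G)) := Fintype.ofFinite _
    obtain ⟨b, hb⟩ := exists_le_top hM hPe hUP
    have hbb := (SubpairLE.isBrauerPair hb hPe).2
    obtain ⟨ξ, hξ⟩ := IsPBlock.nonempty hbb
    have heU : e ∈ fixAlg (ResField M) (U : Set G) := fixAlg_anti (fun x hx => hUP hx) he
    have hji := isIdempotentElem_trunc hUp heU hei
    have hjL : ∀ g ∉ Subgroup.centralizer (U : Set G), (trunc U e).coeff g = 0 :=
      fun g hg => coeff_trunc_of_notMem e hg
    obtain ⟨J, -, hJ, hJr⟩ := exists_lift_idempotent'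
      (S := (∅ : Set (Subgroup.centralizer (U : Set G))))
      (isIdempotentElem_pullTo hji hjL)
      (mem_fixAlg.mpr fun s hs => absurd hs (Set.notMem_empty s))
    have hvU : v ∈ U := Subgroup.mem_zpowers v
    have hcomm : ∀ h ∈ Subgroup.centralizer (U : Set G), h * v = v * h :=
      fun h hh => (hh v hvU).symm
    have hJv : push (Subgroup.centralizer (U : Set G)) J ∈ fixAlg (locRing M) ({v} : Set G) := by
      refine mem_fixAlg_iff.mpr fun s hs g => ?_
      rw [Set.mem_singleton_iff.mp hs]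
      by_cases hg : g ∈ Subgroup.centralizer (U : Set G)
      · rw [show v * g * v⁻¹ = g by rw [← hcomm g hg, mul_inv_cancel_right]]
      · rw [coeff_push_notMem J hg, coeff_push_notMem J fun hm => hg ?_]
        have h := hcomm _ hm
        have h2 : v * g * v⁻¹ = g := by
          have h3 : v * (v * g * v⁻¹) = v * g := by rw [← h]; group
          exact mul_left_cancel h3
        rwa [h2] at hm
    obtain ⟨k, hk⟩ := exists_pow_orderOf_mem hM hPp ⟨v, hv⟩
    have h1 : ¬ p ∣ orderOf (1 : G) := by rw [orderOf_one]; exact hM.1.not_dvd_one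
    have hpair : ∀ {z : KG M G}, z ∈ fixAlg (ResField M) ({v} : Set G) →
        z ∈ fixAlg (ResField M) ({v, 1} : Set G) := fun hz => mem_fixAlg.mpr fun s hs => by
      rcases hs with rfl | rfl
      · exact mem_fixAlg.mp hz _ rfl
      · rw [GrpRing.dlt_one]; exact Commute.one_left _
    have h := blkTrace_eq_of_trunc_eq hM (Commute.one_right v) hk h1 (irr_classFunction χ)
      hei ((isIdempotentElem_push hJ).map red)
      (hpair (fixAlg_anti (Set.singleton_subset_iff.mpr hv) he)) (hpair (red_mem_fixAlg hJv))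
      (by rw [red_push hjL hJr, trunc_idem])
    rw [mul_one, ← hEr, blkTrace_red (irr_classFunction χ) hEi
      (fixAlg_anti (Set.singleton_subset_iff.mpr hv) hE),
      blkTrace_red (irr_classFunction χ) (isIdempotentElem_push hJ) hJv] at h
    rw [h, col_of_zpowers_eq hM hPe hv hUdef.symm hb χ, mul_comm]
    have hθ : IsClassFunction (Subgroup.centralizer (U : Set G))
        (secFun (Subgroup.centralizer (U : Set G)) v (χ : G → ℂ)) := fun z a => by
      simp only [secFun, Subgroup.coe_mul, Subgroup.coe_inv]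
      rw [show v * ((a : G) * (z : G) * (a : G)⁻¹) = (a : G) * (v * (z : G)) * (a : G)⁻¹ by
        rw [← mul_assoc, ← mul_assoc, ← mul_assoc, hcomm _ a.2]]
      exact irr_classFunction χ _ _
    have hval := chiSum_secFun_eq hM hbb (uni_below hM hmax hab hfree hU1 hb) hξ hjL
      (trunc_mul_blk hM hmax hab hfree he hei hbad hUP hb) hJ hJr v (χ : G → ℂ) hθ
    have hξn : chiSum (ξ : _ → ℂ) J = (N U : ℂ) := by
      convert hN U hUP hU1 b hb J hJ (by convert hJr) ξ hξ
    rw [← hξn, ← hval, chiSum_mul_dlt, chiSum]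
    symm
    refine Fintype.sum_of_injective Subtype.val Subtype.val_injective _ _ (fun y hy => ?_)
      fun y => ?_
    · rw [coeff_push_notMem J fun hm => hy ⟨⟨y, hm⟩, rfl⟩, ZeroMemClass.coe_zero, zero_mul]
    · rw [coeff_push_mem, hcomm _ y.2]
      rfl
  have hcyc : ∀ u : P, u ≠ 1 → ¬ p ∣ N (Subgroup.zpowers (u : G)) ∧
      ¬ MemLocalIdeal M (col p M P c (u : G) χ₀) := by
    intro u hu
    have hint : ∀ g, MemLocalRing M ((χ₀ : G → ℂ) g) := fun g =>
      memLocalRing_of_isIntegral (irr_isIntegral χ₀.2 g)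
    have hne : ¬ MemLocalIdeal M
        ((N (Subgroup.zpowers (u : G)) : ℂ) * col p M P c (u : G) χ₀) := by
      intro hmem
      have h := res_character_pgroup hM hPp (hF χ₀) u
      rw [hFu χ₀ u hu, res_eq_zero hmem] at h
      refine hsum ?_
      simp only [Subgroup.coe_one, GrpRing.dlt_one, mul_one] at h
      rw [h, chiSum, res_sum _ _ fun g _ => memLocalRing_mul (E.coeff g).2 (hint g)]
      refine Finset.sum_congr rfl fun g _ => ?_
      rw [res_mul (E.coeff g).2 (hint g), ← hEr, coeff_red]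
      congr 1
      exact (res_mk (E.coeff g).2).symm
    exact ⟨fun hd => hne (memLocalIdeal_mul_right ((memLocalIdeal_natCast_iff hM).mpr hd)
      (memLocalRing_of_isIntegral (isIntegral_col χ₀))), fun hmem => hne (memLocalIdeal_mul_left
      (memLocalRing_natCast _) hmem)⟩
  let N' : Subgroup P → ℕ := fun C => N (C.map P.subtype)
  have hz : ∀ u : P, N' (Subgroup.zpowers u) = N (Subgroup.zpowers (u : G)) := fun u => by
    simp only [N', MonoidHom.map_zpowers]
    rfl
  have hmapP : ∀ C : Subgroup P, C.map P.subtype ≤ P := fun C => by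
    rintro _ ⟨y, -, rfl⟩
    exact y.2
  have hmap1 : ∀ C : Subgroup P, C ≠ ⊥ → C.map P.subtype ≠ ⊥ := fun C hC h => hC
    ((Subgroup.map_eq_bot_iff_of_injective C P.subtype_injective).mp h)
  have hloc : ∀ C : Subgroup P, C ≠ ⊥ → ∃ f δ : P → ℂ, IsCharacter P f ∧ f 1 = (N' C : ℂ) ∧
      ∀ x : P, x ≠ 1 → IsIntegral ℤ (δ x) ∧ ‖δ x‖ = 1 ∧
        f x = δ x * (N' (C ⊔ Subgroup.zpowers x) : ℂ) := by
    intro C hC
    obtain ⟨f, δ, hf, hf1, hfx⟩ := exists_local_char hM hmax hab hfree he hei hbad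
      (fun U hU hU1 => hN U hU hU1) (hmapP C) (hmap1 C hC)
    refine ⟨f, δ, hf, hf1, fun x hx => ?_⟩
    obtain ⟨h1, h2, h3⟩ := hfx x hx
    refine ⟨h1, h2, h3.trans ?_⟩
    simp only [N', Subgroup.map_sup, MonoidHom.map_zpowers]
    rfl
  have hstep : ∀ (C : Subgroup P), C ≠ ⊥ → ¬ p ∣ N' C → ∀ x : P, x ≠ 1 →
      ¬ p ∣ N' (C ⊔ Subgroup.zpowers x) := by
    intro C hC hp' x hx hd
    obtain ⟨f, δ, hf, hf1, hfx⟩ := hloc C hC
    obtain ⟨h1, -, h3⟩ := hfx x hx
    refine hp' ((memLocalIdeal_natCast_iff hM).mp ?_)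
    have h4 : MemLocalIdeal M (f x) := by
      rw [h3]
      exact memLocalIdeal_mul_left (memLocalRing_of_isIntegral h1)
        ((memLocalIdeal_natCast_iff hM).mpr hd)
    have h5 := memLocalIdeal_sub h4 (memLocalIdeal_sub_one hM habP hPp
      (Char.isGeneralized_of_isCharacter hf) x)
    rwa [sub_sub_cancel, hf1] at h5
  refine ⟨N', ?_, fun C hC hCt => ?_, fun u hu => by rw [hz]; exact hcyc u hu,
    fun χ => ⟨_, Char.isGeneralized_of_isCharacter (hF χ), fun u hu => by rw [hz]; exact hFu χ u hu⟩⟩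
  · obtain ⟨x, hx, hx1⟩ := P.bot_or_exists_ne_one.resolve_left hP1
    have hu₁ : (⟨x, hx⟩ : P) ≠ 1 := fun h => hx1 (congrArg Subtype.val h)
    have : Fintype (Subgroup P) := Fintype.ofFinite _
    obtain ⟨C, hC, hCmax⟩ := Finset.exists_max_image
      ({C : Subgroup P | C ≠ ⊥ ∧ ¬ p ∣ N' C} : Finset _) (fun C => Nat.card C)
      ⟨Subgroup.zpowers ⟨x, hx⟩, by
        simp only [Finset.mem_filter, Finset.mem_univ, true_and]
        exact ⟨by simpa using hu₁, by rw [hz]; exact (hcyc _ hu₁).1⟩⟩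
    simp only [Finset.mem_filter, Finset.mem_univ, true_and] at hC hCmax
    suffices C = ⊤ from this ▸ hC.2
    by_contra hne
    obtain ⟨y, hy⟩ : ∃ y, y ∉ C := by
      by_contra hall
      push Not at hall
      exact hne (Subgroup.eq_top_iff' C |>.mpr hall)
    have hy1 : y ≠ 1 := fun h => hy (h ▸ one_mem C)
    have h := hCmax _ ⟨fun h => hC.1 (le_bot_iff.mp (h ▸ le_sup_left)),
      hstep C hC.1 hC.2 y hy1⟩
    exact hy (Subgroup.eq_of_le_of_card_ge le_sup_left h ▸
      Subgroup.mem_sup_right (Subgroup.mem_zpowers y))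
  · obtain ⟨f, δ, hf, hf1, hfx⟩ := hloc C hC
    refine ⟨f, δ, hf, hf1, fun q hq => ?_, fun x hx => hfx x fun h => hx (h ▸ one_mem C)⟩
    rcases eq_or_ne q 1 with rfl | hq1
    · rw [hf1, Complex.norm_natCast]
    · obtain ⟨-, h2, h3⟩ := hfx q hq1
      rw [h3, norm_mul, h2, one_mul, Complex.norm_natCast,
        sup_eq_left.mpr (Subgroup.zpowers_le.mpr hq)]

/-- With an odd inertial index there is a weight. -/
theorem exists_colWeight_of_odd (hM : IsPModular p M) (hmax : IsMaximalBrauerPair p M B P c)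
    (hab : ∀ x ∈ P, ∀ y ∈ P, x * y = y * x)
    (hfree : ∀ g ∈ blockT P c, ∀ x ∈ P, x ≠ 1 → g * x * g⁻¹ = x →
      g ∈ Subgroup.centralizer (P : Set G))
    (hP1 : P ≠ ⊥) (hodd : Odd (Nat.card (inertAut P c))) :
    ∃ ω : P → ℂ, IsColWeight p M P c ω := by
  classical
  have hp : p.Prime := hM.1
  have : Fact p.Prime := ⟨hp⟩
  have hpz : Prime (p : ℤ) := Nat.prime_iff_prime_int.mp hp
  have hPe := hmax.1.1
  have hPp : IsPGroup p P := hPe.1
  have habP : ∀ a b : P, a * b = b * a := fun a b => Subtype.ext (hab _ a.2 _ b.2)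
  obtain ⟨n, hn⟩ := IsPGroup.iff_card.mp hPp
  obtain ⟨χ₀, hχ₀, h0⟩ := exists_blockHeight_eq_zero hM hmax.1.2.1
  obtain ⟨N, htop, hloc, hN, hNF⟩ := exists_local_weight hM hmax hab hfree hP1 hχ₀ h0
  obtain ⟨h, H, hh, hHgen, hHx⟩ := exists_signs habP hn htop hloc
  obtain ⟨F₀, hF₀g, hF₀⟩ := hNF χ₀
  obtain ⟨g₀, hg₀g, hg₀⟩ := exists_pairChar hM hmax hab hfree χ₀ χ₀
  obtain ⟨g1, hg1⟩ := exists_int_at_one habP hg₀g
  have hne : ∀ x : P, x ≠ 1 → Subgroup.zpowers x ≠ ⊥ := fun x hx => by simpa using hx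
  have hint : ∀ z : ℤ, IsIntegral ℤ (z : ℂ) := fun z =>
    isIntegral_algebraMap (R := ℤ) (A := ℂ) (x := z)
  obtain ⟨u₁, hu₁⟩ : ∃ u : P, u ≠ 1 := by
    obtain ⟨x, hx, hx1⟩ := P.bot_or_exists_ne_one.resolve_left hP1
    exact ⟨⟨x, hx⟩, fun e => hx1 (congrArg Subtype.val e)⟩
  have hg1p : ¬ (p : ℤ) ∣ g1 := fun hd => by
    have h1 := memLocalIdeal_add (memLocalIdeal_sub_one hM habP hPp hg₀g u₁)
      ((memLocalIdeal_intCast_iff hM).mpr hd)
    rw [hg1, sub_add_cancel, hg₀ u₁ hu₁] at h1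
    have hi : IsIntegral ℤ (col p M P c (u₁ : G) χ₀) := isIntegral_col χ₀
    have h0' : ¬ MemLocalIdeal M (conj (col p M P c (u₁ : G) χ₀)) := fun hc => by
      obtain ⟨F, hFg, hFv⟩ := hNF χ₀
      obtain ⟨F1, hF1⟩ := exists_int_at_one habP hFg
      have hd1 := memLocalIdeal_sub_one hM habP hPp (Char.isGeneralized_conj hFg) u₁
      rw [hFv u₁ hu₁, hF1] at hd1
      simp only [map_mul, map_natCast, map_intCast] at hd1
      have hd2 := memLocalIdeal_sub
        (memLocalIdeal_mul_left (memLocalRing_natCast (N (Subgroup.zpowers u₁))) hc) hd1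
      rw [sub_sub_cancel] at hd2
      have hd3 := memLocalIdeal_add (memLocalIdeal_sub_one hM habP hPp hFg u₁) (hF1 ▸ hd2)
      rw [sub_add_cancel, hFv u₁ hu₁] at hd3
      rcases memLocalIdeal_or_of_mul (memLocalRing_natCast _) (memLocalRing_of_isIntegral hi) hd3
        with h' | h'
      · exact (hN u₁ hu₁).1 ((memLocalIdeal_natCast_iff hM).mp h')
      · exact (hN u₁ hu₁).2 h'
    rcases memLocalIdeal_or_of_mul (memLocalRing_of_isIntegral hi)
      (memLocalRing_of_isIntegral (hi.map (starRingEnd ℂ).toIntAlgHom)) h1 with h' | h'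
    · exact (hN u₁ hu₁).2 h'
    · exact h0' h'
  obtain ⟨L, hL1, hL⟩ := exists_pow_congMod_one habP hn hg₀g hg1 hg1p
  have : Fintype (inertAut P c) := Fintype.ofFinite _
  obtain ⟨m, hm⟩ := hodd
  -- the invariant signed numbers
  let h' : Subgroup P → ℤ := fun C => ∏ w : inertAut P c, h (C.map (w : MulAut P).toMonoidHom)
  let H' : P → ℤ := fun x => ∏ w : inertAut P c, H ((w : MulAut P) x)
  have hmap : ∀ (w : MulAut P) (x : P),
      (Subgroup.zpowers x).map w.toMonoidHom = Subgroup.zpowers (w x) := fun w x =>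
    MonoidHom.map_zpowers w.toMonoidHom x
  have hw1 : ∀ (w : MulAut P) {x : P}, x ≠ 1 → w x ≠ 1 := fun w x hx e =>
    hx (w.injective (e.trans (map_one w).symm))
  have hH'x : ∀ x : P, x ≠ 1 → H' x = h' (Subgroup.zpowers x) := fun x hx =>
    Finset.prod_congr rfl fun w _ => by rw [hmap, hHx _ (hw1 _ hx)]
  have hH'g : IsGeneralizedCharacter P (fun x => (H' x : ℂ)) := by
    simp only [H', Int.cast_prod]
    refine Finset.prod_induction (fun w : inertAut P c => fun x => (H ((w : MulAut P) x) : ℂ))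
      (fun F => IsGeneralizedCharacter P F) (fun a b => Char.isGeneralized_mul)
      Char.isGeneralized_one (s := Finset.univ) (fun w _ =>
        Char.isGeneralized_comp (w : MulAut P).toMonoidHom hHgen) |> fun hprod => ?_
    convert hprod using 1
    funext x
    rw [Finset.prod_apply]
  have hH'inv : ∀ w ∈ inertAut P c, ∀ x, h' (Subgroup.zpowers (w x)) = h' (Subgroup.zpowers x) := by
    intro w hw x
    simp only [h', hmap]
    exact Fintype.prod_equiv (Equiv.mulRight (⟨w, hw⟩ : inertAut P c)) _ _ fun v => rfl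
  let ε : P → ℤ := fun x => if h' (Subgroup.zpowers x) < 0 then -1 else 1
  let Nu : P → ℕ := fun x => N (Subgroup.zpowers x)
  have habs : ∀ x : P, x ≠ 1 →
      (h' (Subgroup.zpowers x)).natAbs = ∏ w : inertAut P c, Nu ((w : MulAut P) x) := by
    intro x hx
    simp only [h', hmap, show ∀ F : inertAut P c → ℤ, (∏ w, F w).natAbs = ∏ w, (F w).natAbs from
      fun F => map_prod Int.natAbsHom F Finset.univ]
    exact Finset.prod_congr rfl fun w _ => (hh _ (hne _ (hw1 _ hx))).1
  refine ⟨fun x => (ε x : ℂ), ⟨fun u _ => ?_, fun u => hint _, fun w hw u => ?_, fun χ => ?_⟩⟩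
  · simp only [ε]
    split_ifs <;> simp
  · simp only [ε, hH'inv w hw u]
  obtain ⟨Fχ, hFg, hFχ⟩ := hNF χ
  let Pw : inertAut P c → P → ℂ := fun w x =>
    F₀ x * conj (F₀ ((w : MulAut P) x)) * g₀ x ^ (L - 1)
  have hpow : ∀ {f : P → ℂ}, IsGeneralizedCharacter P f → ∀ k : ℕ,
      IsGeneralizedCharacter P (fun x => f x ^ k) := fun {f} hf k => isGeneralized_pow hf k
  have hPwg : ∀ w, IsGeneralizedCharacter P (Pw w) := fun w => Char.isGeneralized_mul
    (Char.isGeneralized_mul hF₀g
      (Char.isGeneralized_comp (w : MulAut P).toMonoidHom (Char.isGeneralized_conj hF₀g)))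
    (hpow hg₀g _)
  let PP : P → ℂ := fun x => ∏ w : inertAut P c, Pw w x
  have hPPg : IsGeneralizedCharacter P PP := by
    refine Finset.prod_induction (fun w : inertAut P c => Pw w)
      (fun F => IsGeneralizedCharacter P F) (fun a b => Char.isGeneralized_mul)
      Char.isGeneralized_one (s := Finset.univ) (fun w _ => hPwg w) |> fun hprod => ?_
    convert hprod using 1
    funext x
    rw [Finset.prod_apply]
  set φ := 2 * Nat.totient (p ^ n)
  have hφ : 1 ≤ φ := by
    have := Nat.totient_pos.mpr (pow_pos hp.pos n)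
    omega
  let X : P → ℂ := fun x => (H' x : ℂ) * PP x ^ (φ - 1) * Pw 1 x ^ m
  have hXg : IsGeneralizedCharacter P X :=
    Char.isGeneralized_mul (Char.isGeneralized_mul hH'g (hpow hPPg _)) (hpow (hPwg 1) _)
  obtain ⟨X1, hX1⟩ := exists_int_at_one habP hXg
  let r : Subgroup P → ℚ := fun C =>
    if C = ⊥ then (X1 : ℚ) else ((if h' C < 0 then -1 else 1 : ℤ) : ℚ) / (N C : ℚ)
  set F : P → ℂ := fun x => (r (Subgroup.zpowers x) : ℂ) * Fχ x with hF
  have hFv : ∀ u : P, u ≠ 1 → F u = (ε u : ℂ) * col p M P c (u : G) χ := by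
    intro u hu
    have hne0 : (N (Subgroup.zpowers u) : ℂ) ≠ 0 :=
      Nat.cast_ne_zero.mpr fun e => (hN u hu).1 (e ▸ dvd_zero p)
    simp only [F, r, if_neg (hne u hu), hFχ u hu, ε]
    split_ifs <;> (push_cast; field_simp)
  refine ⟨F, isGeneralized_of_congr habP (Char.isGeneralized_mul hFg hXg)
    (exists_rat_classInner hFg r) fun u => ?_, hFv⟩
  have hpn : p ^ n ≠ 0 := (pow_pos hp.pos n).ne'
  rw [hn]
  refine CongMod.isIntegral_div ?_ hpn
  rcases eq_or_ne u 1 with rfl | hu
  · show CongMod _ _ (Fχ 1 * X 1)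
    simp only [F, r, Subgroup.zpowers_one_eq_bot, if_true, hX1]
    push_cast
    rw [mul_comm]
    exact CongMod.refl _ _
  have hai : ∀ v : P, IsIntegral ℤ (col p M P c (v : G) χ₀) := fun v => isIntegral_col χ₀
  have hPwi : ∀ w, IsIntegral ℤ (Pw w u) := fun w => isIntegral_generalized (hPwg w) u
  have hPwv : ∀ w : inertAut P c,
      CongMod (p ^ n) (((Nu u : ℤ) * (Nu ((w : MulAut P) u) : ℤ) : ℤ) : ℂ) (Pw w u) := by
    intro w
    have hcol : col p M P c (((w : MulAut P) u : P) : G) χ₀ = col p M P c (u : G) χ₀ :=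
      col_inertAut hM hPe w.2 u χ₀
    have hval : Pw w u =
        (((Nu u : ℤ) * (Nu ((w : MulAut P) u) : ℤ) : ℤ) : ℂ) * g₀ u ^ L := by
      simp only [Pw, hF₀ u hu, hF₀ _ (hw1 _ hu), hcol, Nu, map_mul, map_natCast]
      conv_rhs => rw [← Nat.sub_add_cancel hL1, pow_succ, hg₀ u hu]
      rw [hg₀ u hu]
      push_cast
      ring
    rw [hval]
    have h1 := (hL u).symm.mul_left (hint ((Nu u : ℤ) * (Nu ((w : MulAut P) u) : ℤ)))
    rwa [mul_one] at h1
  set k := Fintype.card (inertAut P c) with hk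
  have hkm : k = 2 * m + 1 := by rw [← hm, Nat.card_eq_fintype_card]
  set M' : ℤ := ∏ w : inertAut P c, (Nu ((w : MulAut P) u) : ℤ) with hM'
  have hPPv : ∀ s : Finset (inertAut P c),
      CongMod (p ^ n) ((∏ w ∈ s, ((Nu u : ℤ) * (Nu ((w : MulAut P) u) : ℤ)) : ℤ) : ℂ)
        (∏ w ∈ s, Pw w u) := by
    intro s
    induction s using Finset.induction with
    | empty => simpa using CongMod.refl (p ^ n) (1 : ℂ)
    | insert w t hwt ih =>
      rw [Finset.prod_insert hwt, Finset.prod_insert hwt, Int.cast_mul]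
      exact (hPwv w).mul ih (hint _) (IsIntegral.prod _ fun v _ => hPwi v)
  have hPPv' : CongMod (p ^ n) (((Nu u : ℤ) ^ k * M' : ℤ) : ℂ) (PP u) := by
    have h1 := hPPv Finset.univ
    rwa [Finset.prod_mul_distrib, Finset.prod_const, Finset.card_univ] at h1
  have h1v : CongMod (p ^ n) (((Nu u : ℤ) * (Nu u : ℤ) : ℤ) : ℂ) (Pw 1 u) := hPwv 1
  have hH'u : H' u = ε u * M' := by
    rw [hH'x u hu]
    have hab' := habs u hu
    have hcast : M' = ((∏ w : inertAut P c, Nu ((w : MulAut P) u) : ℕ) : ℤ) := by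
      rw [hM', Nat.cast_prod]
    rw [hcast, ← hab']
    simp only [ε]
    split_ifs <;> omega
  have hyp : ¬ (p : ℤ) ∣ (Nu u : ℤ) ^ k * M' := fun hd => by
    rcases hpz.dvd_or_dvd hd with h1 | h1
    · exact (hN u hu).1 (Int.natCast_dvd_natCast.mp (hpz.dvd_of_dvd_pow h1))
    · obtain ⟨w, -, h2⟩ := hpz.exists_mem_finset_dvd h1
      exact (hN _ (hw1 _ hu)).1 (Int.natCast_dvd_natCast.mp h2)
  show CongMod _ (F u) (Fχ u * X u)
  rw [hFv u hu, hFχ u hu]
  have hci : IsIntegral ℤ (col p M P c (u : G) χ) := isIntegral_col χ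
  refine CongMod.trans (w := (Nu u : ℂ) * col p M P c (u : G) χ *
    ((H' u : ℂ) * (((Nu u : ℤ) ^ k * M' : ℤ) : ℂ) ^ (φ - 1) *
      (((Nu u : ℤ) * (Nu u : ℤ) : ℤ) : ℂ) ^ m)) ?_ ?_
  · have h3 : CongMod (p ^ n) ((1 : ℤ) : ℂ) ((((Nu u : ℤ) ^ k * M') ^ φ : ℤ) : ℂ) :=
      (CongMod.of_dvd (by rw [Nat.cast_pow]; exact pow_totient_modEq hyp)).symm
    have h4 := h3.mul_left ((hint (ε u)).mul hci)
    rw [Int.cast_one, mul_one] at h4
    refine h4.trans ?_
    rw [hH'u, show φ = φ - 1 + 1 by omega, pow_succ, Nat.add_sub_cancel, hkm]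
    push_cast
    convert CongMod.refl (p ^ n) _ using 1
    ring
  · have hNi : IsIntegral ℤ (Nu u : ℂ) := by exact_mod_cast hint (Nu u : ℤ)
    have hPPi : IsIntegral ℤ (PP u) := IsIntegral.prod _ fun v _ => hPwi v
    refine CongMod.mul_left ?_ (hNi.mul hci)
    simp only [X]
    rw [mul_assoc, mul_assoc (H' u : ℂ)]
    refine CongMod.mul_left ?_ (hint _)
    exact (hPPv'.pow (hint _) hPPi _).mul (h1v.pow (hint _) (hPwi 1) m) ((hint _).pow _)
      ((hPwi 1).pow _)

end Weight

end CfsgLib.Blocks.FreeQuot
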