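import Cfsg.Agent.Lib.Blocks.AbelianLocal
import Cfsg.Agent.S4437

/-!
# The correspondent in the normalizer of an abelian defect group

A block of `N_G(P)` inducing `B` and a block of `C_G(P)` below it have the same inertial group as
read in `N_G(P)` and in `G`.
-/

set_option autoImplicit false
set_option linter.unusedSectionVars false

namespace CfsgLib.Blocks.FreeQuot

open Cfsg
open scoped ComplexConjugate CfsgLib.Char

variable {p : ℕ} {M : Ideal AlgInt} {G : Type*} [Group G] [Fintype G] {P N : Subgroup G}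

/-- The centralizer in an overgroup of the centralizer. -/
def centSub (hPN : P ≤ N) (hCN : Subgroup.centralizer (P : Set G) ≤ N) :
    Subgroup.centralizer ((P.subgroupOf N : Subgroup N) : Set N) ≃*
      Subgroup.centralizer (P : Set G) where
  toFun k := ⟨((k : N) : G), fun y hy =>
    congrArg Subtype.val (k.2 ⟨y, hPN hy⟩ hy)⟩
  invFun d := ⟨⟨(d : G), hCN d.2⟩, fun y hy => Subtype.ext (d.2 (y : G) hy)⟩
  left_inv _ := rfl
  right_inv _ := rfl
  map_mul' _ _ := rfl

variable [M.IsPrime] (hPN : P ≤ N) (hCN : Subgroup.centralizer (P : Set G) ≤ N)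

/-- Induction by stages from the centralizer. -/
theorem isInducedBlock_centSub [Fintype N]
    {c' : Set (IrrCharacter (Subgroup.centralizer ((P.subgroupOf N : Subgroup N) : Set N)))}
    {c : Set (IrrCharacter N)} {B : Set (IrrCharacter G)}
    (h' : IsInducedBlock M (Subgroup.centralizer ((P.subgroupOf N : Subgroup N) : Set N)) c' c)
    (h : IsInducedBlock M N c B) :
    IsInducedBlock M (Subgroup.centralizer (P : Set G)) (irrEquiv (centSub hPN hCN) '' c') B := by
  classical
  let := Fintype.ofFinite (Subgroup.centralizer (P : Set G))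
  let := Fintype.ofFinite (Subgroup.centralizer ((P.subgroupOf N : Subgroup N) : Set N))
  refine ⟨isPBlock_image_irrEquiv _ h'.1, h.2.1, ?_⟩
  rintro _ ⟨ξ, hξ, rfl⟩ χ hχ g
  obtain ⟨η, hη⟩ := IsPBlock.nonempty h.1
  have h1 := IsInducedBlock.omega_congr h' hξ hη (f := fun n : N => classInd g (n : G))
    (fun a b => by
      simpa only [Subgroup.coe_mul, Subgroup.coe_inv] using
        isClassFunction_classInd g (a : G) (b : G))
    (fun n => memLocalRing_classInd g _)
  have h2 := h.2.2 η hη χ hχ g
  rw [inducedCentralChar_eq_omega] at h2 ⊢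
  refine memLocalIdeal_sub_trans ?_ h2
  convert h1 using 2
  rw [omega, omega, ← (centSub hPN hCN).toEquiv.sum_comp]
  congr 1

/-- The inertial group read in the overgroup. -/
theorem map_blockT_centSub [Fintype N] (hN : N = Subgroup.normalizer (P : Set G))
    (c' : Set (IrrCharacter (Subgroup.centralizer ((P.subgroupOf N : Subgroup N) : Set N)))) :
    (blockT (P.subgroupOf N) c').map N.subtype = blockT P (irrEquiv (centSub hPN hCN) '' c') := by
  ext g
  constructor
  · rintro ⟨y, hy, rfl⟩
    have hyN : (y : G) ∈ Subgroup.normalizer (P : Set G) := hN ▸ y.2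
    obtain ⟨-, -, hst⟩ := mem_blockT.mp hy
    refine mem_blockT.mpr ⟨hyN, mem_normalizer_centralizer hyN, ?_⟩
    rintro _ ⟨χ, hχ, rfl⟩
    obtain ⟨χ', hχ', hval⟩ := hst χ hχ
    refine ⟨_, ⟨χ', hχ', rfl⟩, fun k k' hk => ?_⟩
    exact hval ((centSub hPN hCN).symm k) ((centSub hPN hCN).symm k') (Subtype.ext hk)
  · intro hg
    obtain ⟨hgP, -, hst⟩ := mem_blockT.mp hg
    have hy : (⟨g, hN ▸ hgP⟩ : N) ∈
        Subgroup.normalizer ((P.subgroupOf N : Subgroup N) : Set N) := by
      refine Subgroup.mem_normalizer_iff.mpr fun z => ?_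
      simpa [Subgroup.mem_subgroupOf] using Subgroup.mem_normalizer_iff.mp hgP (z : G)
    refine ⟨⟨g, hN ▸ hgP⟩, mem_blockT.mpr ⟨hy, mem_normalizer_centralizer hy, fun χ hχ => ?_⟩, rfl⟩
    obtain ⟨_, ⟨χ', hχ', rfl⟩, hval⟩ := hst _ ⟨χ, hχ, rfl⟩
    refine ⟨χ', hχ', fun k k' hk => ?_⟩
    have h := hval (centSub hPN hCN k) (centSub hPN hCN k') (congrArg Subtype.val hk)
    rwa [irrEquiv_apply, irrEquiv_apply] at h

theorem map_centralizer_subgroupOf (hPN : P ≤ N) :
    (Subgroup.centralizer ((P.subgroupOf N : Subgroup N) : Set N)).map N.subtype =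
      Subgroup.centralizer (P : Set G) ⊓ N := by
  ext g
  constructor
  · rintro ⟨y, hy, rfl⟩
    exact ⟨fun z hz => congrArg Subtype.val (hy ⟨z, hPN hz⟩ hz), y.2⟩
  · rintro ⟨hg, hgN⟩
    exact ⟨⟨g, hgN⟩, fun z hz => Subtype.ext (hg (z : G) hz), rfl⟩

theorem relIndex_blockT_centSub [Fintype N] (hN : N = Subgroup.normalizer (P : Set G))
    (c' : Set (IrrCharacter (Subgroup.centralizer ((P.subgroupOf N : Subgroup N) : Set N)))) :
    (Subgroup.centralizer ((P.subgroupOf N : Subgroup N) : Set N)).relIndex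
        (blockT (P.subgroupOf N) c') =
      (Subgroup.centralizer (P : Set G)).relIndex
        (blockT P (irrEquiv (centSub hPN hCN) '' c')) := by
  rw [← Subgroup.relIndex_map_map_of_injective _ _ N.subtype_injective,
    map_blockT_centSub hPN hCN hN c', map_centralizer_subgroupOf hPN, inf_eq_left.mpr hCN]

/-- Both maximal pairs belonging to a correspondent. -/
theorem exists_correspondent_pairs [Fintype N] (hM : IsPModular p M)
    (hN : N = Subgroup.normalizer (P : Set G)) {B : Set (IrrCharacter G)}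
    (hPD : IsDefectGroup p M B P) (hab : ∀ x ∈ P, ∀ y ∈ P, x * y = y * x)
    {c : Set (IrrCharacter N)} (hcD : IsDefectGroup p M c (P.subgroupOf N))
    (hc : IsInducedBlock M N c B) :
    ∃ (c' : Set (IrrCharacter (Subgroup.centralizer ((P.subgroupOf N : Subgroup N) : Set N))))
      (c₀ : Set (IrrCharacter (Subgroup.centralizer (P : Set G)))),
      IsMaximalBrauerPair p M c (P.subgroupOf N) c' ∧ IsMaximalBrauerPair p M B P c₀ ∧
      ¬ p ∣ (Subgroup.centralizer (P : Set G)).relIndex (blockT P c₀) ∧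
      (Subgroup.centralizer ((P.subgroupOf N : Subgroup N) : Set N)).relIndex
          (blockT (P.subgroupOf N) c') =
        (Subgroup.centralizer (P : Set G)).relIndex (blockT P c₀) := by
  classical
  obtain ⟨c', hc'⟩ := exists_pair_of_defectGroup hM hc.1 hcD
  have hPC : P.subgroupOf N ≤
      Subgroup.centralizer ((P.subgroupOf N : Subgroup N) : Set N) := fun x hx y hy =>
    Subtype.ext (hab (y : G) hy (x : G) hx)
  let := Fintype.ofFinite (Subgroup.centralizer ((P.subgroupOf N : Subgroup N) : Set N))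
  obtain ⟨b, hb⟩ := inducedBlockDefined_of_le_normalizer hM hc'.1.1 hPC le_rfl
    (Subgroup.centralizer_le_normalizer _) hc'.1.2
  have hpair := Cfsg.Agent.S4437.isBrauerPairOf_of_induced hM hc'.1.1 hPC le_rfl
    (Subgroup.centralizer_le_normalizer _) hc'.1.2 hc'.1.2
    (fun t => blockCoeff_centralizer c' t) hb
  obtain rfl : b = c := (existsUnique_isBrauerPairOf hM hc'.1).unique hpair hc'
  have hPN : P ≤ N := hN ▸ Subgroup.le_normalizer
  have hCN : Subgroup.centralizer (P : Set G) ≤ N := hN ▸ Subgroup.centralizer_le_normalizer _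
  obtain ⟨hmax, hm⟩ := maximal_of_induced hM hPD hab (isInducedBlock_centSub hPN hCN hb hc)
  exact ⟨c', _, isMaximalBrauerPair_of_defectGroup hM hcD hc', hmax, hm,
    relIndex_blockT_centSub hPN hCN hN c'⟩

end CfsgLib.Blocks.FreeQuot
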