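import Cfsg.Agent.Lib.Blocks.FreeQuotient.Free

/-!
# Blocks with abelian defect group and free inertial quotient: `k - l = (|P| - 1) / e`

The subsections at `p`-elements other than the identity correspond to the orbits of `T` on the
non-identity elements of `P`, and each has one Brauer character.
-/

set_option autoImplicit false
set_option linter.unusedSectionVars false

namespace CfsgLib.Blocks.FreeQuot

open Cfsg
open scoped ComplexConjugate CfsgLib.Char

variable {p : ℕ} {M : Ideal AlgInt} [M.IsPrime] {G : Type*} [Group G] [Fintype G] {P : Subgroup G}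
  {c : Set (IrrCharacter (Subgroup.centralizer (P : Set G)))} {B : Set (IrrCharacter G)}

/-- Being conjugate under the stabilizer. -/
def TConj (T : Subgroup G) (u u' : G) : Prop := ∃ y ∈ T, y * u * y⁻¹ = u'

theorem tconj_refl (T : Subgroup G) (u : G) : TConj T u u := ⟨1, one_mem _, by group⟩

theorem tconj_symm {T : Subgroup G} {u u' : G} (h : TConj T u u') : TConj T u' u := by
  obtain ⟨y, hy, rfl⟩ := h
  exact ⟨y⁻¹, inv_mem hy, by group⟩

theorem tconj_trans {T : Subgroup G} {u u' u'' : G} (h : TConj T u u') (h' : TConj T u' u'') :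
    TConj T u u'' := by
  obtain ⟨y, hy, rfl⟩ := h
  obtain ⟨z, hz, rfl⟩ := h'
  exact ⟨z * y, mul_mem hz hy, by group⟩

variable (p M P c) in
/-- Representatives of the orbits of the stabilizer on `P` without the identity. -/
structure IsReps (R : Finset G) : Prop where
  mem : ∀ r ∈ R, r ∈ P ∧ r ≠ 1
  ex : ∀ u ∈ P, u ≠ 1 → ∃ r ∈ R, TConj (blockT P c) r u
  uniq : ∀ r ∈ R, ∀ r' ∈ R, TConj (blockT P c) r r' → r = r'

theorem exists_isReps : ∃ R : Finset G, IsReps P c R := by
  classical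
  let s : Setoid G := ⟨TConj (blockT P c), ⟨tconj_refl _, tconj_symm, tconj_trans⟩⟩
  set R : Finset G := ((Finset.univ.filter fun u : G => u ∈ P ∧ u ≠ 1).image
    fun u => (Quotient.mk s u).out)
  have hout : ∀ u, TConj (blockT P c) (Quotient.mk s u).out u := fun u => Quotient.mk_out (s := s) u
  refine ⟨R, fun r hr => ?_, fun u hu hu1 => ⟨_, Finset.mem_image.mpr
    ⟨u, by simp [hu, hu1], rfl⟩, hout u⟩, fun r hr r' hr' h => ?_⟩
  · obtain ⟨u, hu, rfl⟩ := Finset.mem_image.mp hr
    obtain ⟨hu', hu1⟩ := (Finset.mem_filter.mp hu).2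
    obtain ⟨y, hy, hyu⟩ := hout u
    refine ⟨(Subgroup.mem_normalizer_iff.mp (blockT_le_normalizer hy) _).mpr (by rw [hyu]; exact hu'),
      fun h => hu1 ?_⟩
    rw [← hyu, h, mul_one, mul_inv_cancel]
  · obtain ⟨u, -, rfl⟩ := Finset.mem_image.mp hr
    obtain ⟨u', -, rfl⟩ := Finset.mem_image.mp hr'
    congr 1
    exact Quotient.sound (tconj_trans (tconj_trans (tconj_symm (hout u)) h) (hout u'))

section Main

variable (hM : IsPModular p M) (hmax : IsMaximalBrauerPair p M B P c)
  (hab : ∀ x ∈ P, ∀ y ∈ P, x * y = y * x)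
  (hfree : ∀ g ∈ blockT P c, ∀ x ∈ P, x ≠ 1 → g * x * g⁻¹ = x →
    g ∈ Subgroup.centralizer (P : Set G))
include hM hmax hab hfree

/-- The orbits are free. -/
theorem card_reps {R : Finset G} (hR : IsReps P c R) :
    R.card * (Subgroup.centralizer (P : Set G)).relIndex (blockT P c) = Nat.card P - 1 := by
  classical
  set T := blockT P c
  set C' := (Subgroup.centralizer (P : Set G)).subgroupOf T
  have hmemP : ∀ y ∈ T, ∀ r ∈ P, y * r * y⁻¹ ∈ P := fun y hy r hr =>
    (Subgroup.mem_normalizer_iff.mp (blockT_le_normalizer hy) r).mp hr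
  let f : R × (T ⧸ C') → {u : P // u ≠ 1} := fun x =>
    ⟨⟨(Quotient.out x.2 : T) * (x.1 : G) * ((Quotient.out x.2 : T) : G)⁻¹,
      hmemP _ (Quotient.out x.2 : T).2 _ (hR.mem _ x.1.2).1⟩, fun h =>
        (hR.mem _ x.1.2).2 (conj_eq_one_iff.mp (congrArg Subtype.val h))⟩
  have hinj : Function.Injective f := by
    rintro ⟨⟨r, hr⟩, q⟩ ⟨⟨r', hr'⟩, q'⟩ h
    have h' : (Quotient.out q : T) * r * ((Quotient.out q : T) : G)⁻¹ =
        (Quotient.out q' : T) * r' * ((Quotient.out q' : T) : G)⁻¹ :=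
      congrArg Subtype.val (congrArg Subtype.val h)
    have hrr : r = r' := hR.uniq r hr r' hr' ⟨((Quotient.out q' : T) : G)⁻¹ * (Quotient.out q : T),
      mul_mem (inv_mem (Quotient.out q' : T).2) (Quotient.out q : T).2, by
        calc ((Quotient.out q' : T) : G)⁻¹ * (Quotient.out q : T) * r *
              (((Quotient.out q' : T) : G)⁻¹ * (Quotient.out q : T))⁻¹
            = ((Quotient.out q' : T) : G)⁻¹ *
              ((Quotient.out q : T) * r * ((Quotient.out q : T) : G)⁻¹) * (Quotient.out q' : T) := by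
              group
          _ = r' := by rw [h']; group⟩
    subst hrr
    refine Prod.ext rfl ?_
    rw [← QuotientGroup.out_eq' q, ← QuotientGroup.out_eq' q']
    refine QuotientGroup.eq.mpr (Subgroup.mem_subgroupOf.mpr ?_)
    refine hfree _ ((Quotient.out q)⁻¹ * Quotient.out q' : T).2 r (hR.mem r hr).1 (hR.mem r hr).2 ?_
    rw [Subgroup.coe_mul, Subgroup.coe_inv]
    calc ((Quotient.out q : T) : G)⁻¹ * (Quotient.out q' : T) * r *
          (((Quotient.out q : T) : G)⁻¹ * (Quotient.out q' : T))⁻¹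
        = ((Quotient.out q : T) : G)⁻¹ *
          ((Quotient.out q' : T) * r * ((Quotient.out q' : T) : G)⁻¹) * (Quotient.out q : T) := by
          group
      _ = r := by rw [← h']; group
  have hsurj : Function.Surjective f := by
    rintro ⟨⟨u, hu⟩, hu1⟩
    obtain ⟨r, hr, y, hy, rfl⟩ := hR.ex u hu fun h => hu1 (Subtype.ext h)
    obtain ⟨z, hz⟩ := QuotientGroup.mk_out_eq_mul C' (⟨y, hy⟩ : T)
    refine ⟨(⟨r, hr⟩, ((⟨y, hy⟩ : T) : T ⧸ C')), Subtype.ext (Subtype.ext ?_)⟩
    show ((Quotient.out ((⟨y, hy⟩ : T) : T ⧸ C') : T) : G) * r *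
      ((Quotient.out ((⟨y, hy⟩ : T) : T ⧸ C') : T) : G)⁻¹ = y * r * y⁻¹
    rw [hz, Subgroup.coe_mul]
    have hc : ((z : T) : G) * r = r * ((z : T) : G) :=
      (Subgroup.mem_centralizer_iff.mp (Subgroup.mem_subgroupOf.mp z.2) r (hR.mem r hr).1).symm
    calc y * ((z : T) : G) * r * (y * ((z : T) : G))⁻¹
        = y * (((z : T) : G) * r) * ((z : T) : G)⁻¹ * y⁻¹ := by group
      _ = y * r * y⁻¹ := by rw [hc]; group
  have h := Nat.card_congr (Equiv.ofBijective f ⟨hinj, hsurj⟩)
  rw [Nat.card_prod, Nat.card_eq_fintype_card, Fintype.card_coe] at h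
  rw [show (Subgroup.centralizer (P : Set G)).relIndex T = Nat.card (T ⧸ C') from rfl, h,
    Nat.card_eq_fintype_card, Nat.card_eq_fintype_card, Fintype.card_subtype_compl,
    Fintype.card_subtype_eq]

/-- `k - l` is the number of orbits. -/
theorem card_eq_rank_add {R : Finset G} (hR : IsReps P c R) :
    Nat.card B = blockRank p B + R.card := by
  classical
  have hp := hM.1
  have hB := hmax.1.2.1
  -- representatives of the classes of `p`-elements
  let s : Setoid G := IsConj.setoid G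
  set X : Finset G := (Finset.univ.filter fun g : G => ∃ k : ℕ, orderOf g = p ^ k).image
    fun g => (Quotient.mk s g).out with hXdef
  have hout : ∀ g, IsConj (Quotient.mk s g).out g := fun g => Quotient.mk_out (s := s) g
  have hord : ∀ {a b : G}, IsConj a b → orderOf a = orderOf b := fun {a b} h => by
    obtain ⟨k, rfl⟩ := isConj_iff.mp h
    exact (orderOf_injective (MulAut.conj k).toMonoidHom (MulAut.conj k).injective a).symm
  have hX : ∀ x ∈ X, ∃ k : ℕ, orderOf x = p ^ k := fun x hx => by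
    obtain ⟨g, hg, rfl⟩ := Finset.mem_image.mp hx
    rw [hord (hout g)]
    exact (Finset.mem_filter.mp hg).2
  have hXrep : ∀ g : G, (∃ k : ℕ, orderOf g = p ^ k) → ∃! x, x ∈ X ∧ IsConj g x := by
    intro g hg
    refine ⟨_, ⟨Finset.mem_image.mpr ⟨g, by simp [hg], rfl⟩, (hout g).symm⟩, ?_⟩
    rintro y ⟨hy, hgy⟩
    obtain ⟨g', -, rfl⟩ := Finset.mem_image.mp hy
    congr 1
    exact Quotient.sound ((hout g').symm.trans hgy.symm)
  haveI : ∀ x : G, Fintype (cz x) := fun x => Fintype.ofFinite _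
  let S : ∀ x : G, Finset (Set (IrrCharacter (cz x))) := fun x =>
    (subBlocks M (cz x)).filter fun b => IsInducedBlock M (cz x) b B
  have hS : ∀ (x : G) b, b ∈ S x ↔ IsInducedBlock M (cz x) b B := fun x b => by
    simp only [S, Finset.mem_filter, mem_subBlocks]
    exact ⟨fun h => h.2, fun h => ⟨h.1, h⟩⟩
  set Y := X.filter (· ≠ 1)
  set Pi := Y.sigma S
  have hpiMem : ∀ {x : G} {b}, (⟨x, b⟩ : Σ x : G, Set (IrrCharacter (cz x))) ∈ Pi ↔
      (x ∈ X ∧ x ≠ 1) ∧ IsInducedBlock M (cz x) b B := fun {x b} => by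
    simp only [Pi, Y, Finset.mem_sigma, Finset.mem_filter, hS]
  -- the bijection with the representatives
  have hconjX : ∀ r ∈ R, ∃ x ∈ X, IsConj r x := fun r hr =>
    (hXrep r (exists_pow_orderOf_mem hM hmax.1.1.1 ⟨r, (hR.mem r hr).1⟩)).exists
  choose! xr hxr hxc using hconjX
  have hgex : ∀ r ∈ R, ∃ g : G, g * r * g⁻¹ = xr r := fun r hr => isConj_iff.mp (hxc r hr)
  choose! gr hgr using hgex
  let ρ : G → Σ x : G, Set (IrrCharacter (cz x)) := fun r =>
    ⟨xr r, conjSet (gr r) (cz r) (cz (xr r)) (bk p M P c r)⟩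
  have hρmem : ∀ r ∈ R, ρ r ∈ Pi := fun r hr => by
    obtain ⟨hrP, hr1⟩ := hR.mem r hr
    refine hpiMem.mpr ⟨⟨hxr r hr, fun h => hr1 ?_⟩, ?_⟩
    · exact isConj_one_left.mp (h ▸ hxc r hr)
    · have hp' := isBrauerPairOf_conjPair (gr r)
        (a := ⟨Subgroup.zpowers r, bk p M P c r⟩) (bk_pairOf hM hmax hrP)
      rw [conjPair_zpowers (hgr r hr)] at hp'
      exact (isBrauerPairOf_iff_induced hM (hX _ (hxr r hr)) hp'.1.2).mp hp'
  have hρinj : Set.InjOn ρ R := by
    intro r hr r' hr' h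
    have hiff : ∀ r ∈ R, ∀ z, gr r * z * (gr r)⁻¹ ∈ cz (xr r) ↔ z ∈ cz r := fun r hr z => by
      rw [← hgr r hr]; exact cz_conj_iff _ _ _
    have key : ∀ (x x' : G) (b : Set (IrrCharacter (cz x))) (b' : Set (IrrCharacter (cz x'))),
        (⟨x, b⟩ : Σ x : G, Set (IrrCharacter (cz x))) = ⟨x', b'⟩ →
        (⟨Subgroup.zpowers x, b⟩ : BrauerPairIdx G) = ⟨Subgroup.zpowers x', b'⟩ ∧ x = x' := by
      intro x x' b b' h
      cases h
      exact ⟨rfl, rfl⟩
    obtain ⟨hpair, hx⟩ := key _ _ _ _ h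
    rw [← conjPair_zpowers (hgr r hr), ← conjPair_zpowers (hgr r' hr')] at hpair
    have hc : Carries p M P c ((gr r')⁻¹ * gr r) (Subgroup.zpowers r) := by
      refine ⟨bk p M P c r, bk_le hM hmax.1.1 (hR.mem r hr).1, ?_⟩
      rw [← conjPair_conjPair, hpair, conjPair_conjPair, inv_mul_cancel, conjPair_one]
      exact bk_le hM hmax.1.1 (hR.mem r' hr').1
    obtain ⟨y, hy, hyv⟩ := exists_blockT_agree hM hmax hab hc
    refine hR.uniq r hr r' hr' ⟨y, hy, ?_⟩
    rw [← hyv r (Subgroup.mem_zpowers r)]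
    calc (gr r')⁻¹ * gr r * r * ((gr r')⁻¹ * gr r)⁻¹
        = (gr r')⁻¹ * (gr r * r * (gr r)⁻¹) * gr r' := by group
      _ = r' := by rw [hgr r hr, hx, ← hgr r' hr']; group
  have hρsurj : ∀ z ∈ Pi, ∃ r ∈ R, ρ r = z := by
    rintro ⟨x, b⟩ hz
    obtain ⟨⟨hxX, hx1⟩, hb⟩ := hpiMem.mp hz
    have hpair := (isBrauerPairOf_iff_induced hM (hX x hxX) hb.1).mpr hb
    obtain ⟨h, hh⟩ := exists_conjPair_le_maximal hM hmax hpair
    set u := h * x * h⁻¹ with hudef
    rw [conjPair_zpowers hudef.symm] at hh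
    have huP : u ∈ P := PairLE.fst_le hh (Subgroup.mem_zpowers u)
    have hu1 : u ≠ 1 := fun he => hx1 (conj_eq_one_iff.mp he)
    have hbu : conjSet h (cz x) (cz u) b = bk p M P c u :=
      eq_of_le_top hM hmax.1.1 hh (bk_le hM hmax.1.1 huP)
    obtain ⟨r, hr, y, hy, hyu⟩ := hR.ex u huP hu1
    refine ⟨r, hr, ?_⟩
    have hru : h⁻¹ * y * r * (h⁻¹ * y)⁻¹ = x := by
      calc h⁻¹ * y * r * (h⁻¹ * y)⁻¹ = h⁻¹ * (y * r * y⁻¹) * h := by group
        _ = x := by rw [hyu, hudef]; group
    have hxeq : xr r = x := (hXrep r (exists_pow_orderOf_mem hM hmax.1.1.1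
      ⟨r, (hR.mem r hr).1⟩)).unique ⟨hxr r hr, hxc r hr⟩
        ⟨hxX, isConj_iff.mpr ⟨_, hru⟩⟩
    have hbx : b = conjSet (h⁻¹ * y) (cz r) (cz x) (bk p M P c r) := by
      have e1 : conjSet y (cz r) (cz u) (bk p M P c r) = bk p M P c u := by
        rw [← hyu]; exact conjSet_bk_blockT hM hmax.1.1 hy (hR.mem r hr).1
      have i1 : ∀ z, y * z * y⁻¹ ∈ cz u ↔ z ∈ cz r := fun z => by
        rw [← hyu]; exact cz_conj_iff _ _ _
      have i2 : ∀ z, h⁻¹ * z * h⁻¹⁻¹ ∈ cz x ↔ z ∈ cz u := fun z => by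
        conv_lhs => rw [show x = h⁻¹ * u * h⁻¹⁻¹ by rw [hudef]; group]
        exact cz_conj_iff _ _ _
      have i3 : ∀ z, h * z * h⁻¹ ∈ cz u ↔ z ∈ cz x := fun z => cz_conj_iff _ _ _
      rw [← conjSet_conjSet i1 i2, e1, ← hbu, conjSet_conjSet i3 i2, inv_mul_cancel,
        conjSet_of_mem (one_mem _)]
    have key : ∀ (x' : G) (g g' : G), x' = x → g * r * g⁻¹ = x' → g' * r * g'⁻¹ = x →
        (⟨x', conjSet g (cz r) (cz x') (bk p M P c r)⟩ : Σ x : G, Set (IrrCharacter (cz x))) =
          ⟨x, conjSet g' (cz r) (cz x) (bk p M P c r)⟩ := by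
      rintro x' g g' hx' hg hg'
      subst hx'
      congr 1
      have hk : g'⁻¹ * g ∈ cz r := by
        rw [cz_eq, Subgroup.mem_centralizer_singleton_iff]
        calc g'⁻¹ * g * r = g'⁻¹ * (g * r * g⁻¹) * g := by group
          _ = g'⁻¹ * (g' * r * g'⁻¹) * g := by rw [hg, hg']
          _ = r * (g'⁻¹ * g) := by group
      have i1 : ∀ z, g' * z * g'⁻¹ ∈ cz x' ↔ z ∈ cz r := fun z => by
        rw [← hg']; exact cz_conj_iff _ _ _
      conv_lhs => rw [show g = g' * (g'⁻¹ * g) by group,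
        ← conjSet_conjSet (conj_mem_iff_of_mem hk) i1, conjSet_of_mem hk]
    rw [hbx]
    exact key _ _ _ hxeq (hgr r hr) hru
  have hcard : Pi.card = R.card :=
    (Finset.card_bij (fun r _ => ρ r) hρmem (fun a ha b hb h => hρinj ha hb h)
      fun z hz => by obtain ⟨r, hr, h⟩ := hρsurj z hz; exact ⟨r, hr, h⟩).symm
  -- the ranks
  have hrank : ∀ x ∈ Y, ∀ b ∈ S x, blockRank p b = 1 := fun x hx b hb => by
    obtain ⟨hxX, hx1⟩ := Finset.mem_filter.mp hx
    have hb' := (hS x b).mp hb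
    exact (blockRank_eq_one_of_nilpotent hM (isNilpotentBlock_of_free hM hmax hab hfree
      (by simpa using hx1 : Subgroup.zpowers x ≠ ⊥)
      ((isBrauerPairOf_iff_induced hM (hX x hxX) hb'.1).mpr hb'))).1
  -- the count
  apply Nat.cast_injective (R := ℂ)
  set F : G → ℂ := fun g => ∑ χ : IrrCharacter G with χ ∈ B, (χ : G → ℂ) g * conj ((χ : G → ℂ) g)
    with hFdef
  have hsum : ∑ g : G, F g = (Nat.card G : ℂ) * (Nat.card B : ℂ) := by
    simp only [F]
    rw [Finset.sum_comm, Finset.sum_congr rfl (g := fun _ => (Nat.card G : ℂ)) fun χ _ => ?_,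
      Finset.sum_const, nsmul_eq_mul, mul_comm, ← Fintype.card_subtype, ← Nat.card_eq_fintype_card]
    have := Char.classInner_irr_self χ.2
    rw [classInner, inv_mul_eq_iff_eq_mul₀ (Nat.cast_ne_zero.mpr Nat.card_pos.ne'), mul_one] at this
    exact this
  set F' : G → ℂ := fun g => if IsPRegular p g then 0 else F g with hF'def
  have hF' : IsClassFunction G F' := fun g h => by
    have hiff : IsPRegular p (h * g * h⁻¹) ↔ IsPRegular p g := by
      rw [IsPRegular, IsPRegular, show h * g * h⁻¹ = (MulAut.conj h).toMonoidHom g from rfl,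
        orderOf_injective _ (MulAut.conj h).injective]
    simp only [hF'def, hiff]
    split_ifs
    · rfl
    · exact Finset.sum_congr rfl fun χ _ => by rw [irr_classFunction χ g h]
  have hreg : (Nat.card G : ℂ) * (blockRank p B : ℂ) =
      ∑ g : G, if IsPRegular p g then F g else 0 := by
    rw [card_mul_blockRank hM (IsPBlock.isBlockUnion hB)]
    refine Finset.sum_congr rfl fun g _ => ?_
    rw [sum_mem_eq_filter]
    split_ifs with hg
    · exact Finset.sum_congr rfl fun χ _ => by rw [regPart_of_regular hg]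
    · exact Finset.sum_eq_zero fun χ _ => by rw [regPart_of_singular hg, zero_mul]
  have hsplit : ∑ g : G, F g = (Nat.card G : ℂ) * (blockRank p B : ℂ) + ∑ g : G, F' g := by
    rw [hreg, ← Finset.sum_add_distrib]
    exact Finset.sum_congr rfl fun g _ => by simp only [hF'def]; split_ifs <;> simp
  have hsec : ∀ (x : G) (K : Subgroup G) [Fintype K], K = Subgroup.centralizer ({x} : Set G) →
      (∃ k : ℕ, orderOf x = p ^ k) → x ≠ 1 → ∀ S : Finset (Set (IrrCharacter K)),
      (∀ b, b ∈ S ↔ IsInducedBlock M K b B) →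
      ∑ y : K, regPart p (fun y : K => F' (x * (y : G))) y =
        (Nat.card K : ℂ) * ∑ b ∈ S, (blockRank p b : ℂ) := by
    intro x K _ hK hx hx1 S hS
    subst hK
    rw [Finset.mul_sum, Finset.sum_congr rfl fun b hb =>
      card_mul_blockRank hM (IsPBlock.isBlockUnion ((hS b).mp hb).1), Finset.sum_comm]
    refine Finset.sum_congr rfl fun y _ => ?_
    by_cases hy : IsPRegular p y
    · rw [regPart_of_regular hy]
      have hns : ¬ IsPRegular p (x * (y : G)) := fun hreg' => by
        have hpp := isPPart_mul (Subgroup.mem_centralizer_singleton_iff.mp y.2).symm hx (by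
          rw [Subgroup.orderOf_coe]; exact hy)
        have h1 : IsPPart p (x * (y : G)) 1 := ⟨x * (y : G), one_mul _, Commute.one_left _,
          ⟨0, by simp⟩, hreg'⟩
        exact hx1 (IsPPart.unique hp hpp h1)
      simp only [hF'def, if_neg hns, hFdef]
      rw [sum_block_mul_conj_section hM hx hB hy hy S hS]
      exact Finset.sum_congr rfl fun b _ => finsum_mem_congr rfl fun ξ _ => by
        rw [regPart_of_regular hy]
    · rw [regPart_of_singular hy]
      exact (Finset.sum_eq_zero fun b _ => by simp [regPart_of_singular hy]).symm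
  rw [sum_eq_sum_sections hp hF' X hX hXrep] at hsplit
  rw [hsum] at hsplit
  apply mul_left_cancel₀ (show (Nat.card G : ℂ) ≠ 0 from Nat.cast_ne_zero.mpr Nat.card_pos.ne')
  rw [hsplit, Nat.cast_add, mul_add, add_right_inj, ← hcard, Finset.card_sigma, Nat.cast_sum,
    Finset.mul_sum]
  symm
  rw [Finset.sum_filter]
  refine Finset.sum_congr rfl fun x hx => ?_
  have := Fintype.ofFinite (Subgroup.centralizer ({x} : Set G))
  rw [finsum_eq_sum_of_fintype]
  split_ifs with hx1
  · have hne : (Nat.card (Subgroup.centralizer ({x} : Set G)) : ℂ) ≠ 0 :=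
      Nat.cast_ne_zero.mpr Nat.card_pos.ne'
    have key : ∀ (K : Subgroup G) [Fintype K], K = Subgroup.centralizer ({x} : Set G) →
        ∑ y : K, regPart p (fun y : K => F' (x * (y : G))) y =
        ∑ y : Subgroup.centralizer ({x} : Set G),
          regPart p (fun y : Subgroup.centralizer ({x} : Set G) => F' (x * (y : G))) y := by
      intro K _ hK
      subst hK
      congr!
    rw [← key (cz x) (cz_eq x), hsec x (cz x) (cz_eq x) (hX x hx) hx1 (S x) (hS x),
      Finset.sum_congr rfl (g := fun _ => (1 : ℂ)) fun b hb => by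
        rw [hrank x (Finset.mem_filter.mpr ⟨hx, hx1⟩) b hb, Nat.cast_one],
      Finset.sum_const, nsmul_one, show Nat.card (cz x) =
        Nat.card (Subgroup.centralizer ({x} : Set G)) by rw [cz_eq], ← mul_assoc,
      div_mul_cancel₀ _ hne]
  · refine (mul_eq_zero_of_right _ (Finset.sum_eq_zero fun y _ => ?_)).symm
    by_cases hy : IsPRegular p y
    · have hone : ∀ z : G, x * z = z := fun z => by rw [not_not.mp hx1, one_mul]
      rw [regPart_of_regular hy, hone]
      simp only [hF'def]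
      rw [if_pos]
      rwa [IsPRegular, Subgroup.orderOf_coe]
    · exact regPart_of_singular hy

end Main

end CfsgLib.Blocks.FreeQuot
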