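import Cfsg.Agent.Lib.Blocks.FreeQuotient.ColWeightStable
import Cfsg.Agent.Lib.Blocks.CyclicDefect.Counts

/-!
# The counts for a free inertial quotient on an abelian defect group
-/

set_option autoImplicit false
set_option linter.unusedSectionVars false

namespace CfsgLib.Blocks.FreeQuot

open Cfsg
open scoped ComplexConjugate CfsgLib.Char

variable {p : ℕ} {M : Ideal AlgInt} [M.IsPrime] {G : Type*} [Group G] [Fintype G] {P : Subgroup G}
  {c : Set (IrrCharacter (Subgroup.centralizer (P : Set G)))} {B : Set (IrrCharacter G)}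

variable (hM : IsPModular p M) (hmax : IsMaximalBrauerPair p M B P c)
  (hab : ∀ x ∈ P, ∀ y ∈ P, x * y = y * x)
  (hfree : ∀ g ∈ blockT P c, ∀ x ∈ P, x ≠ 1 → g * x * g⁻¹ = x →
    g ∈ Subgroup.centralizer (P : Set G))
  (hP1 : P ≠ ⊥) (hm : ¬ p ∣ (Subgroup.centralizer (P : Set G)).relIndex (blockT P c))
include hM hmax hab hfree hP1 hm

/-- A weight exists for every prime. -/
theorem exists_colWeight : ∃ ω : P → ℂ, IsColWeight p M P c ω := by
  classical
  by_cases hp2 : p = 2
  · refine exists_colWeight_of_odd hM hmax hab hfree hP1 ?_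
    rw [card_inertAut]
    exact Nat.not_even_iff_odd.mp fun h => hm (hp2 ▸ even_iff_two_dvd.mp h)
  · obtain ⟨ω, hω, -⟩ := exists_colWeight_odd hM hp2 hmax hab hfree
    exact ⟨ω, hω⟩

/-- The bounds, and the equalities for inertial index at most three. -/
theorem counts_free :
    Nat.card B ≤ (Subgroup.centralizer (P : Set G)).relIndex (blockT P c) +
        (Nat.card P - 1) / (Subgroup.centralizer (P : Set G)).relIndex (blockT P c) ∧
      blockRank p B ≤ (Subgroup.centralizer (P : Set G)).relIndex (blockT P c) ∧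
      (Nat.card B = (Subgroup.centralizer (P : Set G)).relIndex (blockT P c) +
          (Nat.card P - 1) / (Subgroup.centralizer (P : Set G)).relIndex (blockT P c) ↔
        blockRank p B = (Subgroup.centralizer (P : Set G)).relIndex (blockT P c)) ∧
      ((Subgroup.centralizer (P : Set G)).relIndex (blockT P c) ≤ 3 →
        Nat.card B = (Subgroup.centralizer (P : Set G)).relIndex (blockT P c) +
            (Nat.card P - 1) / (Subgroup.centralizer (P : Set G)).relIndex (blockT P c) ∧
          blockRank p B = (Subgroup.centralizer (P : Set G)).relIndex (blockT P c)) := by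
  classical
  have hp := hM.1
  have : Fact p.Prime := ⟨hp⟩
  let : Fintype P := Fintype.ofFinite P
  obtain ⟨ω, hω⟩ := exists_colWeight hM hmax hab hfree hP1 hm
  obtain ⟨R, hR⟩ := exists_isReps (P := P) (c := c)
  set e := (Subgroup.centralizer (P : Set G)).relIndex (blockT P c) with he
  have hcardE : Nat.card (inertAut P c) = e := card_inertAut
  have he0 : 0 < e := hcardE ▸ Nat.card_pos
  have hRc : R.card = (Nat.card P - 1) / e := by
    rw [← card_reps hM hmax hab hfree hR, ← he, Nat.mul_div_cancel _ he0]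
  obtain ⟨h1, h2, h3⟩ := counts_le hM hmax hab hfree hP1 hω hR
  rw [hcardE, hRc] at h1 h3
  rw [hcardE] at h2
  refine ⟨h1, h2, h3, fun he3 => ?_⟩
  rcases counts_eq_of_small hM hmax hab hfree hP1 hω hR (hcardE.trans_le he3)
    (blockRank_pos (IsPBlock.nonempty hmax.1.2.1) hp.ne_one) with h | h | h | h
  · rw [hcardE, hRc] at h
    exact ⟨h, h3.mp h⟩
  · have : Fact (Nat.Prime 7) := ⟨by norm_num⟩
    obtain ⟨hr, hc, -⟩ :=
      CyclicDefect.counts hM hmax (isCyclic_of_prime_card (p := 7) h) hP1 he.symm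
    exact ⟨hc, hr⟩
  · exfalso
    obtain ⟨n, hn⟩ := IsPGroup.iff_card.mp hmax.1.1.1
    have h2' : p = 2 := ((Nat.prime_dvd_prime_iff_eq Nat.prime_two hp).mp
      (Nat.prime_two.dvd_of_dvd_pow (hn ▸ h ▸ (by norm_num : 2 ∣ 10)))).symm
    have h5' : p = 5 := ((Nat.prime_dvd_prime_iff_eq Nat.prime_five hp).mp
      (Nat.prime_five.dvd_of_dvd_pow (hn ▸ h ▸ (by norm_num : 5 ∣ 10)))).symm
    omega
  · have : Fact (Nat.Prime 13) := ⟨by norm_num⟩
    obtain ⟨hr, hc, -⟩ :=
      CyclicDefect.counts hM hmax (isCyclic_of_prime_card (p := 13) h) hP1 he.symm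
    exact ⟨hc, hr⟩

end CfsgLib.Blocks.FreeQuot
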