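import Cfsg.Agent.Lib.Blocks.FreeQuotient.CountsFree
import Cfsg.Agent.Lib.Blocks.FreeQuotient.Homocyclic
import Cfsg.Agent.Lib.Blocks.PrincipalColumn
import Cfsg.Agent.Lib.Char.ClassProd
import Cfsg.Agent.S4652

/-!
# A linear character for an abelian Sylow two-subgroup with inertial index three

If the inertial quotient of order three acts freely and some element has order at least four then
the principal block has a nontrivial linear character which is trivial on the Sylow subgroup:
elements of order at least four are not real, so they are not products of two involutions, and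
the structure constants force the degrees of the non-exceptional characters to be one.
-/

set_option autoImplicit false
set_option linter.unusedSectionVars false

namespace CfsgLib.Blocks.FreeQuot.Homocyclic

open Cfsg
open scoped ComplexConjugate CfsgLib.Char

/-- The only solution which is one modulo sixteen. -/
theorem arith_one {a b : ℤ} (ha : (16 : ℤ) ∣ a - 1) (hb : (16 : ℤ) ∣ b - 1)
    (h : (1 + a) * (1 + b) * (a + b) = 8 * a * b) : a = 1 ∧ b = 1 := by
  have main : ∀ a b : ℤ, (16 : ℤ) ∣ a - 1 → (16 : ℤ) ∣ b - 1 →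
      (1 + a) * (1 + b) * (a + b) = 8 * a * b → 1 ≤ a → a = 1 ∧ b = 1 := by
    intro a b ha hb h ha1
    rcases le_or_gt 1 b with hb1 | hb1
    · by_cases hab : a = 1 ∧ b = 1
      · exact hab
      exfalso
      have h18 : 18 ≤ a + b := by omega
      have h1 : a * b ≤ (1 + a) * (1 + b) := by nlinarith
      have h2 : 0 < a * b := by positivity
      nlinarith [mul_le_mul h1 h18 (by norm_num) (by nlinarith)]
    · exfalso
      have hb15 : b ≤ -15 := by omega
      obtain ⟨B, rfl⟩ : ∃ B, b = -B := ⟨-b, (neg_neg b).symm⟩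
      have hB15 : 15 ≤ B := by omega
      have h1 : (1 + a) * (B - 1) * (a - B) = 8 * a * B := by linear_combination -h
      have hpos : 0 < a - B := by
        by_contra hle
        have : (1 + a) * (B - 1) * (a - B) ≤ 0 :=
          mul_nonpos_of_nonneg_of_nonpos (mul_nonneg (by omega) (by omega)) (by omega)
        nlinarith
      have h9 : a - B < 9 := by
        by_contra h9
        have h2 : (1 + a) * (B - 1) * 9 ≤ (1 + a) * (B - 1) * (a - B) :=
          mul_le_mul_of_nonneg_left (by omega) (mul_nonneg (by omega) (by omega))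
        nlinarith
      obtain rfl : a = B + 2 := by omega
      nlinarith
  rcases le_or_gt 1 a with ha1 | ha1
  · exact main a b ha hb h ha1
  rcases le_or_gt 1 b with hb1 | hb1
  · obtain ⟨h1, h2⟩ := main b a hb ha (by linear_combination h) hb1
    exact ⟨h2, h1⟩
  exfalso
  have ha15 : a ≤ -15 := by omega
  have hb15 : b ≤ -15 := by omega
  have h1 : 0 < (1 + a) * (1 + b) := mul_pos_of_neg_of_neg (by omega) (by omega)
  have h2 : (1 + a) * (1 + b) * (a + b) < 0 := mul_neg_of_pos_of_neg h1 (by omega)
  nlinarith [mul_pos_of_neg_of_neg (show a < 0 by omega) (show b < 0 by omega)]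

section

variable {G : Type*} [Group G] [Fintype G]

/-- The characters against two classes and an element outside their product. -/
theorem sum_irr_triple (a b g : G)
    (h : ∀ x y, IsConj x a → IsConj y b → ¬ IsConj (x * y) g) :
    ∑ χ : IrrCharacter G, (χ : G → ℂ) a * (χ : G → ℂ) b / (χ : G → ℂ) 1 *
      conj ((χ : G → ℂ) g) = 0 := by
  classical
  have key : ∀ χ : IrrCharacter G,
      ((Subgroup.centralizer ({a} : Set G)).index : ℂ) *
          ((Subgroup.centralizer ({b} : Set G)).index : ℂ) *
        ((χ : G → ℂ) a * (χ : G → ℂ) b / (χ : G → ℂ) 1 * conj ((χ : G → ℂ) g)) =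
      ∑ x ∈ Finset.univ.filter (fun x => IsConj x a),
        ∑ y ∈ Finset.univ.filter (fun y => IsConj y b),
          (χ : G → ℂ) (x * y) * conj ((χ : G → ℂ) g) := by
    intro χ
    obtain ⟨n, ρ, hρ, hρχ⟩ := χ.2
    haveI := hρ
    have h1 : ρ.character 1 ≠ 0 := Char.irr_degree_ne_zero ⟨n, ρ, hρ, rfl⟩
    have hs := Char.sum_char_mul ρ a b
    simp only [← Finset.sum_mul, ← hρχ, hs, Char.omega]
    field_simp
  have hi : ∀ z : G, ((Subgroup.centralizer ({z} : Set G)).index : ℂ) ≠ 0 := fun z =>
    Nat.cast_ne_zero.mpr Subgroup.index_ne_zero_of_finite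
  refine (mul_eq_zero.mp ?_).resolve_left (mul_ne_zero (hi a) (hi b))
  rw [Finset.mul_sum, Finset.sum_congr rfl fun χ _ => key χ, Finset.sum_comm]
  refine Finset.sum_eq_zero fun x hx => ?_
  rw [Finset.sum_comm]
  refine Finset.sum_eq_zero fun y hy => ?_
  rw [Char.column_orthogonality, if_neg (h x y (Finset.mem_filter.mp hx).2
    (Finset.mem_filter.mp hy).2)]

end

variable {G : Type*} [Group G] [Fintype G] {M : Ideal AlgInt} [M.IsPrime]

theorem max_principal (hM : IsPModular 2 M) (P : Sylow 2 G) :
    IsMaximalBrauerPair 2 M (principalBlock M G) (P : Subgroup G)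
      (principalBlock M (Subgroup.centralizer ((P : Subgroup G) : Set G))) := by
  have : Fact (Nat.Prime 2) := ⟨Nat.prime_two⟩
  exact isMaximalBrauerPair_of_defectGroup hM
    ((Cfsg.Agent.S4652.result 2 M hM (P : Subgroup G)).mpr ⟨P, rfl⟩)
    (isBrauerPairOf_principal hM P.2)

theorem blockT_principal (P : Sylow 2 G) :
    blockT (P : Subgroup G) (principalBlock M (Subgroup.centralizer ((P : Subgroup G) : Set G))) =
      Subgroup.normalizer ((P : Subgroup G) : Set G) :=
  Subgroup.ext fun g => ⟨fun h => blockT_le_normalizer h, fun h => mem_blockT.mpr ⟨h,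
    stabilizesBlock_iff.mpr ⟨mem_normalizer_centralizer h,
      conjSet_principalBlock (conj_mem_iff_of_mem_normalizer (mem_normalizer_centralizer h))⟩⟩⟩

theorem bk_principal (hM : IsPModular 2 M) (P : Sylow 2 G) {u : G} (hu : u ∈ (P : Subgroup G)) :
    bk 2 M (P : Subgroup G)
        (principalBlock M (Subgroup.centralizer ((P : Subgroup G) : Set G))) u =
      principalBlock M (cz u) :=
  eq_principal_of_subpairLE hM P.2 (bk_subpair hM (max_principal hM P).1.1 hu)

section Free

variable (hM : IsPModular 2 M) (P : Sylow 2 G)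
  (hab : ∀ x ∈ (P : Subgroup G), ∀ y ∈ (P : Subgroup G), x * y = y * x)
  (hfree : ∀ g ∈ blockT (P : Subgroup G)
      (principalBlock M (Subgroup.centralizer ((P : Subgroup G) : Set G))),
    ∀ x ∈ (P : Subgroup G), x ≠ 1 → g * x * g⁻¹ = x →
      g ∈ Subgroup.centralizer ((P : Subgroup G) : Set G))
include hM hab hfree

/-- The part of the principal block of the centralizer at a section is the column. -/
theorem blockPart_principal {u : G} (hu : u ∈ (P : Subgroup G)) (hu1 : u ≠ 1)
    {K : Subgroup G} [Fintype K] (hK : K = cz u) (χ : IrrCharacter G) :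
    blockPart (principalBlock M K) (secFun K u (χ : G → ℂ)) 1 =
      col 2 M (P : Subgroup G)
        (principalBlock M (Subgroup.centralizer ((P : Subgroup G) : Set G))) u χ := by
  classical
  subst hK
  have hmax := max_principal hM P
  obtain ⟨huni, -⟩ := bk_uni_card hM hmax hab hfree hu hu1
  rw [bk_principal hM P hu] at huni
  rw [blockPart_secFun u huni (trivIrr_mem_principalBlock _) _ (regular_one hM), col_eq,
    bk_principal hM P hu]
  simp [trivIrr]

/-- The columns of the principal block are the values. -/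
theorem col_eq_value {u : G} (hu : u ∈ (P : Subgroup G)) (hu1 : u ≠ 1) {χ : IrrCharacter G}
    (hχ : χ ∈ principalBlock M G) :
    col 2 M (P : Subgroup G)
        (principalBlock M (Subgroup.centralizer ((P : Subgroup G) : Set G))) u χ =
      (χ : G → ℂ) u := by
  classical
  let : Fintype (Subgroup.centralizer ({u} : Set G)) := Fintype.ofFinite _
  have h := value_eq_principal_blockPart hM
    (exists_pow_orderOf_mem hM P.2 ⟨u, hu⟩) hχ
    (y := (1 : Subgroup.centralizer ({u} : Set G))) (regular_one hM)
  rw [Subgroup.coe_one, mul_one] at h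
  rw [← blockPart_principal hM P hab hfree hu hu1 (cz_eq u).symm χ, h]
  rfl

/-- An element of order at least four is not inverted. -/
theorem not_real (hodd : Odd (Nat.card (inertAut (P : Subgroup G)
      (principalBlock M (Subgroup.centralizer ((P : Subgroup G) : Set G))))))
    {u : G} (hu : u ∈ (P : Subgroup G)) (hu2 : u * u ≠ 1) (x : G) : x * u * x⁻¹ ≠ u⁻¹ := by
  intro hx
  have : Fact (Nat.Prime 2) := ⟨Nat.prime_two⟩
  have hPC : ∀ v ∈ (P : Subgroup G), v ∈ Subgroup.centralizer ((P : Subgroup G) : Set G) :=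
    fun v hv y hy => hab y hy v hv
  obtain ⟨n, hn, hnu⟩ := P.conj_eq_normalizer_conj_of_mem_centralizer u x⁻¹ (hPC u hu) (by
    rw [inv_inv, hx]; exact hPC _ (inv_mem hu))
  rw [inv_inv, hx] at hnu
  have hnT : n⁻¹ ∈ blockT (P : Subgroup G)
      (principalBlock M (Subgroup.centralizer ((P : Subgroup G) : Set G))) := by
    rw [blockT_principal]; exact inv_mem hn
  set w := autT (P : Subgroup G)
    (principalBlock M (Subgroup.centralizer ((P : Subgroup G) : Set G))) ⟨n⁻¹, hnT⟩
  have hw : w ∈ inertAut (P : Subgroup G)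
      (principalBlock M (Subgroup.centralizer ((P : Subgroup G) : Set G))) := autT_mem hnT
  have hwu : w ⟨u, hu⟩ = (⟨u, hu⟩ : (P : Subgroup G))⁻¹ := Subtype.ext (by
    rw [autT_apply]
    show n⁻¹ * u * n⁻¹⁻¹ = u⁻¹
    rw [inv_inv, hnu])
  have hu1 : (⟨u, hu⟩ : (P : Subgroup G)) ≠ 1 := fun h => hu2 (by
    rw [show u = 1 from congrArg Subtype.val h, mul_one])
  by_cases hw1 : w = 1
  · rw [hw1, MulAut.one_apply] at hwu
    exact hu2 (mul_eq_one_iff_eq_inv.mpr (congrArg Subtype.val hwu :))
  by_cases hww : w * w = 1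
  · have hd : orderOf w = 2 := orderOf_eq_prime (by rw [pow_two]; exact hww) hw1
    have h2 := orderOf_dvd_natCard (⟨w, hw⟩ : inertAut (P : Subgroup G)
      (principalBlock M (Subgroup.centralizer ((P : Subgroup G) : Set G))))
    rw [Subgroup.orderOf_mk, hd] at h2
    exact (Nat.not_even_iff_odd.mpr hodd) (even_iff_two_dvd.mpr h2)
  refine hu1 (inertAut_free hfree _ (mul_mem hw hw) hww _ ?_)
  rw [MulAut.mul_apply, hwu, map_inv, hwu, inv_inv]

/-- The structure constant of two involutions at an element of order at least four. -/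
theorem sum_sq_eq_zero (hodd : Odd (Nat.card (inertAut (P : Subgroup G)
      (principalBlock M (Subgroup.centralizer ((P : Subgroup G) : Set G))))))
    {t u : G} (ht : t * t = 1) (hu : u ∈ (P : Subgroup G)) (hu2 : u * u ≠ 1)
    [DecidablePred (· ∈ principalBlock M G)] :
    ∑ χ : IrrCharacter G with χ ∈ principalBlock M G,
      conj ((χ : G → ℂ) t * (χ : G → ℂ) t / (χ : G → ℂ) 1) * (χ : G → ℂ) u = 0 := by
  classical
  have : Fact (Nat.Prime 2) := ⟨Nat.prime_two⟩
  have hu1 : u ≠ 1 := fun h => hu2 (by rw [h, mul_one])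
  have hpu := exists_pow_orderOf_mem hM P.2 ⟨u, hu⟩
  let : Fintype (Subgroup.centralizer ({u} : Set G)) := Fintype.ofFinite _
  set a : IrrCharacter G → ℂ := fun χ =>
    conj ((χ : G → ℂ) t * (χ : G → ℂ) t / (χ : G → ℂ) 1) with ha
  set θ : Subgroup.centralizer ({u} : Set G) → ℂ := fun s =>
    ∑ χ : IrrCharacter G, a χ * (χ : G → ℂ) (u * (s : G)) with hθ
  have hcl : ∀ χ : IrrCharacter G, IsClassFunction (Subgroup.centralizer ({u} : Set G))
      (fun k : Subgroup.centralizer ({u} : Set G) => (χ : G → ℂ) (u * (k : G))) :=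
    fun χ => isClassFunction_translate (x := u) (irr_classFunction χ)
  have hc : IsClassFunction (Subgroup.centralizer ({u} : Set G)) θ := fun k z =>
    Finset.sum_congr rfl fun χ _ => by have := hcl χ k z; beta_reduce at this; rw [this]
  have hz : ∀ s, IsPRegular 2 s → θ s = 0 := by
    intro s hs
    have h0 := sum_irr_triple t t (u * (s : G)) fun x y hx hy hxy => by
      obtain ⟨g, hg⟩ := isConj_iff.mp hxy
      have hx2 : x * x = 1 := by
        obtain ⟨h, rfl⟩ := isConj_iff.mp hx.symm
        rw [show h * t * h⁻¹ * (h * t * h⁻¹) = h * (t * t) * h⁻¹ by group, ht]; group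
      have hy2 : y * y = 1 := by
        obtain ⟨h, rfl⟩ := isConj_iff.mp hy.symm
        rw [show h * t * h⁻¹ * (h * t * h⁻¹) = h * (t * t) * h⁻¹ by group, ht]; group
      set z := g * x * g⁻¹
      have hinv : z * (u * (s : G)) * z⁻¹ = (u * (s : G))⁻¹ := by
        rw [← hg]
        simp only [z]
        rw [show g * x * g⁻¹ * (g * (x * y) * g⁻¹) * (g * x * g⁻¹)⁻¹ =
          g * (x * x) * (y * x⁻¹) * g⁻¹ by group, hx2,
          show (g * (x * y) * g⁻¹)⁻¹ = g * (y⁻¹ * x⁻¹) * g⁻¹ by group,
          inv_eq_of_mul_eq_one_right hy2, mul_one]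
      obtain ⟨k, hk⟩ := hpu
      have hr : ¬ 2 ∣ orderOf (s : G) := by rw [Subgroup.orderOf_coe]; exact hs
      have hcop : (orderOf (s : G)).Coprime (orderOf u) := by
        rw [hk]
        exact Nat.Coprime.pow_right _ ((Nat.Prime.coprime_iff_not_dvd Nat.prime_two).mpr hr).symm
      obtain ⟨m, hm⟩ := exists_pow_eq_self_of_coprime hcop
      have hcomm : Commute u (s : G) := (Subgroup.mem_centralizer_singleton_iff.mp s.2).symm
      have hpow : (u * (s : G)) ^ (orderOf (s : G) * m) = u := by
        rw [pow_mul, hcomm.mul_pow, pow_orderOf_eq_one, mul_one, hm]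
      refine not_real hM P hab hfree hodd hu hu2 z ?_
      conv_lhs => rw [← hpow]
      rw [← conj_pow, hinv, inv_pow, hpow]
    have h1 := congrArg conj h0
    rw [map_sum, map_zero] at h1
    rw [← h1]
    exact Finset.sum_congr rfl fun χ _ => by simp only [a, map_mul, Complex.conj_conj]
  have h := blockPart_eq_zero_of_regular_zero hM (b := principalBlock M _)
    isPBlock_principalBlock hz (y := 1) (regular_one hM)
  rw [blockPart_eq_sum _ hc] at h
  rw [← h]
  simp only [θ, Finset.mul_sum]
  rw [Finset.sum_comm, Finset.sum_filter]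
  refine Finset.sum_congr rfl fun χ _ => ?_
  rw [Finset.sum_congr rfl fun k _ => mul_left_comm _ (a χ) _, ← Finset.mul_sum,
    ← blockPart_eq_sum (principalBlock M (Subgroup.centralizer ({u} : Set G))) (hcl χ)]
  split_ifs with hχ
  · have h' := value_eq_principal_blockPart hM hpu hχ
      (y := (1 : Subgroup.centralizer ({u} : Set G))) (regular_one hM)
    rw [Subgroup.coe_one, mul_one] at h'
    rw [← h']
  · rw [blockPart_eq_zero_of_not_induced hM hpu (isPBlock_blockOf χ) (mem_blockOf_self χ)
      isPBlock_principalBlock (fun hind => hχ ?_) (regular_one hM), mul_zero]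
    have he : blockOf M (χ : G → ℂ) = principalBlock M G :=
      IsInducedBlock.unique hind (isInducedBlock_principal hM ⟨_, hind⟩)
    exact he ▸ mem_blockOf_self χ

set_option maxHeartbeats 1000000 in
/-- The linear character. -/
theorem exists_linear
    (hE : Nat.card (inertAut (P : Subgroup G)
      (principalBlock M (Subgroup.centralizer ((P : Subgroup G) : Set G)))) = 3)
    (h16 : 16 ∣ Nat.card (P : Subgroup G))
    {u : G} (hu : u ∈ (P : Subgroup G)) (hu2 : u * u ≠ 1) :
    ∃ f : G →* ℂˣ, f ≠ 1 ∧ ∀ v ∈ (P : Subgroup G), f v = 1 := by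
  classical
  have : Fact (Nat.Prime 2) := ⟨Nat.prime_two⟩
  let : Fintype (P : Subgroup G) := Fintype.ofFinite _
  have hmax := max_principal hM P
  have hu1 : u ≠ 1 := fun h => hu2 (by rw [h, mul_one])
  have hP1 : (P : Subgroup G) ≠ ⊥ := fun h => hu1 (Subgroup.mem_bot.mp (h ▸ hu))
  have habP : ∀ a b : (P : Subgroup G), a * b = b * a :=
    fun a b => Subtype.ext (hab _ a.2 _ b.2)
  have hcard : (Subgroup.centralizer ((P : Subgroup G) : Set G)).relIndex
      (blockT (P : Subgroup G) (principalBlock M (Subgroup.centralizer ((P : Subgroup G) : Set G)))) = 3 := card_inertAut.symm.trans hE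
  have hne : ∀ v : (P : Subgroup G), v ≠ 1 → (v : G) ≠ 1 := fun v hv h => hv (Subtype.ext h)
  have hodd : Odd (Nat.card (inertAut (P : Subgroup G) (principalBlock M (Subgroup.centralizer ((P : Subgroup G) : Set G))))) := by rw [hE]; decide
  -- the weight one
  have hω : IsColWeight 2 M (P : Subgroup G) (principalBlock M (Subgroup.centralizer ((P : Subgroup G) : Set G))) (fun _ => (1 : ℂ)) := by
    refine ⟨fun v _ => by simp, fun v => isIntegral_one, fun w _ v => rfl, fun χ => ?_⟩
    obtain ⟨g, hg, hgv⟩ := exists_pairChar hM hmax hab hfree χ (trivIrr G)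
    refine ⟨g, hg, fun v hv => ?_⟩
    rw [hgv v hv, col_eq_value hM P hab hfree v.2 (hne v hv) (trivIrr_mem_principalBlock G)]
    simp [trivIrr]
  obtain ⟨R, hR⟩ := exists_isReps (P := (P : Subgroup G)) (c := (principalBlock M (Subgroup.centralizer ((P : Subgroup G) : Set G))))
  obtain ⟨-, -, -, heq⟩ := counts_free hM hmax hab hfree hP1 (by rw [hcard]; norm_num)
  obtain ⟨hk, -⟩ := heq hcard.le
  have hRc := card_reps hM hmax hab hfree hR
  rw [hcard] at hRc hk
  obtain ⟨exc, δ, w, S⟩ := exists_shape hM hmax hab hfree hP1 hω hR (by rw [hk, hE]; omega)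
  have hfree' := inertAut_free (P := (P : Subgroup G)) (c := (principalBlock M (Subgroup.centralizer ((P : Subgroup G) : Set G)))) hfree
  have hval : ∀ (i : {χ // χ ∈ principalBlock M G}) (v : (P : Subgroup G)), v ≠ 1 →
      (fun _ : (P : Subgroup G) => (1 : ℂ)) v * col 2 M (P : Subgroup G) (principalBlock M (Subgroup.centralizer ((P : Subgroup G) : Set G))) (v : G) i.1 =
        (i.1 : G → ℂ) (v : G) := fun i v hv => by
    rw [one_mul, col_eq_value hM P hab hfree v.2 (hne v hv) i.2]
  have hrest : ∀ i, (∀ o, exc o ≠ i) → ∀ v : (P : Subgroup G), v ≠ 1 →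
      (i.1 : G → ℂ) (v : G) = (w i : ℂ) := fun i hi v hv => by
    rw [← hval i v hv]; exact S.rest i hi v hv
  have hexc : ∀ o, ∀ v : (P : Subgroup G), v ≠ 1 →
      ((exc o).1 : G → ℂ) (v : G) = (δ : ℂ) * orbChar (principalBlock M (Subgroup.centralizer ((P : Subgroup G) : Set G))) o v := fun o v hv => by
    rw [← hval (exc o) v hv]; exact S.exc_val o v hv
  -- the orbit of an involution
  obtain ⟨j, hj⟩ := IsPGroup.iff_orderOf.mp P.2 ⟨u, hu⟩
  have hj0 : j ≠ 0 := fun h => hu1 (congrArg Subtype.val
    (orderOf_eq_one_iff.mp (by rw [hj, h, pow_zero]) : (⟨u, hu⟩ : (P : Subgroup G)) = 1))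
  set t : (P : Subgroup G) := (⟨u, hu⟩ : (P : Subgroup G)) ^ 2 ^ (j - 1) with ht
  have ht2 : t * t = 1 := by
    rw [ht, ← pow_add, ← two_mul, ← pow_succ', Nat.sub_add_cancel (Nat.pos_of_ne_zero hj0), ← hj,
      pow_orderOf_eq_one]
  have ht1 : t ≠ 1 := fun h => by
    have := orderOf_dvd_of_pow_eq_one h
    rw [hj, Nat.pow_dvd_pow_iff_le_right (by norm_num)] at this
    omega
  let : Fintype (inertAut (P : Subgroup G) (principalBlock M (Subgroup.centralizer ((P : Subgroup G) : Set G)))) := Fintype.ofFinite _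
  obtain ⟨σ, hσ⟩ : ∃ σ : inertAut (P : Subgroup G) (principalBlock M (Subgroup.centralizer ((P : Subgroup G) : Set G))), σ ≠ 1 := by
    have : Nontrivial (inertAut (P : Subgroup G) (principalBlock M (Subgroup.centralizer ((P : Subgroup G) : Set G)))) :=
      Finite.one_lt_card_iff_nontrivial.mp (by omega)
    exact exists_ne 1
  have hσ3 : σ ^ 3 = 1 := hE ▸ pow_card_eq_one'
  have hσord : orderOf σ = 3 := by
    have : Fact (Nat.Prime 3) := ⟨Nat.prime_three⟩
    exact orderOf_eq_prime hσ3 hσ
  have huniv : (Finset.univ : Finset (inertAut (P : Subgroup G) (principalBlock M (Subgroup.centralizer ((P : Subgroup G) : Set G))))) = {1, σ, σ ^ 2} := by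
    refine (Finset.eq_univ_of_card _ ?_).symm
    rw [← Nat.card_eq_fintype_card, hE, Finset.card_insert_of_notMem, Finset.card_pair]
    · intro h
      rw [pow_two, left_eq_mul] at h
      exact hσ h
    · simp only [Finset.mem_insert, Finset.mem_singleton, not_or]
      refine ⟨fun h => hσ h.symm, fun h => ?_⟩
      have := orderOf_dvd_of_pow_eq_one h.symm
      rw [hσord] at this
      norm_num at this
  have hsum3 : ∀ F : inertAut (P : Subgroup G) (principalBlock M (Subgroup.centralizer ((P : Subgroup G) : Set G))) → ℂ, ∑ v, F v = F 1 + F σ + F (σ ^ 2) := by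
    intro F
    rw [huniv, Finset.sum_insert, Finset.sum_pair, add_assoc]
    · intro h
      rw [pow_two, left_eq_mul] at h
      exact hσ h
    · simp only [Finset.mem_insert, Finset.mem_singleton, not_or]
      refine ⟨fun h => hσ h.symm, fun h => ?_⟩
      have := orderOf_dvd_of_pow_eq_one h.symm
      rw [hσord] at this
      norm_num at this
  set σ' : MulAut (P : Subgroup G) := (σ : MulAut (P : Subgroup G))
  have hσ'3 : σ' ^ 3 = 1 := by
    rw [← SubgroupClass.coe_pow, hσ3, OneMemClass.coe_one]
  have hprod : t * σ' t * σ' (σ' t) = 1 := by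
    refine hfree' σ' σ.2 (fun h => hσ (Subtype.ext h)) _ ?_
    rw [map_mul, map_mul]
    have h3 : σ' (σ' (σ' t)) = t := by
      have := congrArg (fun f : MulAut (P : Subgroup G) => f t) hσ'3
      simpa [pow_succ, MulAut.mul_apply] using this
    rw [h3, habP (σ' t * σ' (σ' t)) t, mul_assoc]
  have hquad : ∀ o, orbChar (principalBlock M (Subgroup.centralizer ((P : Subgroup G) : Set G))) o t * orbChar (principalBlock M (Subgroup.centralizer ((P : Subgroup G) : Set G))) o t = 2 * orbChar (principalBlock M (Subgroup.centralizer ((P : Subgroup G) : Set G))) o t + 3 := by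
    intro o
    set lam : ↥(P : Subgroup G) → ℂ := (o.out.1 : ↥(P : Subgroup G) → ℂ)
    have hd : lam 1 = 1 := by
      exact Char.degree_one_of_comm habP _
    have hmul : ∀ a b, lam (a * b) = lam a * lam b :=
      fun a b => map_mul (Char.linearHom (Char.isCharacter_of_isIrr o.out.1.2) hd) a b |>
        congrArg Units.val
    have hsq : ∀ a, a * a = 1 → lam a = 1 ∨ lam a = -1 := fun a ha => by
      have := hmul a a
      rw [ha, hd] at this
      exact mul_self_eq_one_iff.mp this.symm
    have hs2 : σ' t * σ' t = 1 := by rw [← map_mul, ht2, map_one]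
    have hp := hmul (t * σ' t) (σ' (σ' t))
    rw [hprod, hd, hmul] at hp
    have hval : orbChar (principalBlock M (Subgroup.centralizer ((P : Subgroup G) : Set G))) o t = lam t + lam (σ' t) + lam (σ' (σ' t)) := by
      rw [orbChar, hsum3, OneMemClass.coe_one, MulAut.one_apply, SubgroupClass.coe_pow, pow_two,
        MulAut.mul_apply]
    have hthird : lam (σ' (σ' t)) = lam t * lam (σ' t) := by
      rcases hsq t ht2 with e | e <;> rcases hsq _ hs2 with e' | e' <;> rw [e, e'] at hp ⊢
      exacts [by linear_combination -hp, by linear_combination hp, by linear_combination hp,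
        by linear_combination -hp]
    rw [hval, hthird]
    rcases hsq t ht2 with e | e <;> rcases hsq _ hs2 with e' | e' <;> rw [e, e'] <;> norm_num
  -- the non-exceptional characters
  set I : Finset {χ // χ ∈ principalBlock M G} :=
    Finset.univ.filter fun i => ∀ o, exc o ≠ i with hI
  have hIcard : I.card = 3 := by
    rw [← hE, ← S.card, Nat.card_eq_fintype_card, Fintype.card_subtype]
  set one : {χ // χ ∈ principalBlock M G} := ⟨trivIrr G, trivIrr_mem_principalBlock G⟩
  obtain ⟨o₀⟩ : Nonempty (Quotient (orbitSetoid (A := (P : Subgroup G))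
      (inertAut (P : Subgroup G) (principalBlock M (Subgroup.centralizer ((P : Subgroup G) : Set G)))))) := by
    by_contra hno
    have hall : ∀ i : {χ // χ ∈ principalBlock M G}, i ∈ I := fun i =>
      Finset.mem_filter.mpr ⟨Finset.mem_univ _, fun o => (hno ⟨o⟩).elim⟩
    have hB3 : Nat.card (principalBlock M G) = 3 := by
      rw [← hIcard, Finset.eq_univ_of_forall hall, Finset.card_univ, Nat.card_eq_fintype_card]
    have := Nat.le_of_dvd Nat.card_pos h16
    omega
  have hu' : (⟨u, hu⟩ : (P : Subgroup G)) ≠ 1 := fun h => hu1 (congrArg Subtype.val h)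
  have horb := fun (v : (P : Subgroup G)) (hv : v ≠ 1) => orbChar_sum (c := (principalBlock M (Subgroup.centralizer ((P : Subgroup G) : Set G)))) hab hfree' hv
  have honeI : one ∈ I := by
    refine Finset.mem_filter.mpr ⟨Finset.mem_univ _, fun o ho => ?_⟩
    have h1 : ∀ v : (P : Subgroup G), v ≠ 1 → orbChar (principalBlock M (Subgroup.centralizer ((P : Subgroup G) : Set G))) o v = (δ : ℂ) := fun v hv => by
      have := hexc o v hv
      rw [ho] at this
      have hd : (δ : ℂ) * δ = 1 := by rcases S.sign with h | h <;> simp [h]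
      simp only [one, trivIrr] at this
      linear_combination -(δ : ℂ) * this - orbChar (principalBlock M (Subgroup.centralizer ((P : Subgroup G) : Set G))) o v * hd
    have h2 : ∑ v, orbChar (principalBlock M (Subgroup.centralizer ((P : Subgroup G) : Set G))) o v = 0 := by
      simp only [orbChar]
      rw [Finset.sum_comm, Finset.sum_eq_zero]
      intro v _
      have h := Char.classInner_coe (o.out.1) (trivIrr (P : Subgroup G))
      rw [if_neg o.out.2, classInner, mul_eq_zero] at h
      rcases h with h | h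
      · exact absurd h (inv_ne_zero (Nat.cast_ne_zero.mpr Nat.card_pos.ne'))
      refine Eq.trans ?_ h
      refine Fintype.sum_equiv (v : MulAut (P : Subgroup G)).toEquiv _ _ fun z => ?_
      show _ = (o.out.1 : ↥(P : Subgroup G) → ℂ) ((v : MulAut (P : Subgroup G)) z) * conj 1
      rw [map_one, mul_one]
    have h0 : orbChar (principalBlock M (Subgroup.centralizer ((P : Subgroup G) : Set G))) o 1 = 3 := by
      simp only [orbChar, map_one, Char.degree_one_of_comm habP]
      rw [hsum3]
      norm_num
    rw [← Finset.add_sum_erase _ _ (Finset.mem_univ (1 : (P : Subgroup G))), h0,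
      Finset.sum_congr rfl fun v hv => h1 v (Finset.mem_erase.mp hv).1, Finset.sum_const,
      Finset.card_erase_of_mem (Finset.mem_univ _), Finset.card_univ,
      ← Nat.card_eq_fintype_card, nsmul_eq_mul] at h2
    have h3 : (3 : ℤ) + ((Nat.card (P : Subgroup G) - 1 : ℕ) : ℤ) * δ = 0 := by exact_mod_cast h2
    obtain ⟨k, hk'⟩ := h16
    have hk0 := Nat.card_pos (α := (P : Subgroup G))
    rcases S.sign with e | e <;> subst e <;> omega
  have hsplit : ∀ f : {χ // χ ∈ principalBlock M G} → ℂ,
      ∑ i, f i = ∑ i ∈ I, f i + ∑ o, f (exc o) := fun f => by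
    rw [sum_split exc f]
    congr 2
    all_goals (ext i; simp [I])
  -- the degrees
  set D : {χ // χ ∈ principalBlock M G} → ℤ := fun i =>
    w i * (charDegree (i.1 : G → ℂ) : ℤ) with hD
  set x : ℤ := (charDegree ((exc o₀).1 : G → ℂ) : ℤ) with hx
  have hwone : w one = 1 := by
    have := hrest one (Finset.mem_filter.mp honeI).2 t ht1
    simp only [one, trivIrr] at this
    exact_mod_cast this.symm
  have hDone : D one = 1 := by
    have hd : charDegree ((trivIrr G : IrrCharacter G) : G → ℂ) = 1 := by
      simp [charDegree, trivIrr]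
    simp only [D, hwone, one, hd]; norm_num
  have hsumD : (∑ i ∈ I, D i : ℤ) = δ * x := by
    apply Int.cast_injective (α := ℂ)
    have h := (S.relation hM hmax hab hfree hP1 (regular_one hM)).2 o₀
    push_cast
    simp only [D, x, Int.cast_mul, Int.cast_natCast, ← (irr_degree_eq _).1]
    convert h using 2
    all_goals (ext j; simp [I])
  have hcong : ∀ i ∈ I, (16 : ℤ) ∣ D i - 1 := by
    intro i hi
    have hi' := (Finset.mem_filter.mp hi).2
    obtain ⟨n, hn⟩ := Char.exists_int_classInner
      (Char.isGeneralized_restrict (P : Subgroup G) (Char.isGeneralized_of_isIrr i.1.2))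
      (Char.isGeneralized_of_isIrr (trivIrr (P : Subgroup G)).2)
    rw [classInner, inv_mul_eq_iff_eq_mul₀ (Nat.cast_ne_zero.mpr Nat.card_pos.ne'),
      ← Finset.add_sum_erase _ _ (Finset.mem_univ (1 : (P : Subgroup G))),
      Finset.sum_congr rfl (g := fun _ => (w i : ℂ)) fun v hv => by
        rw [hrest i hi' v (Finset.mem_erase.mp hv).1]; simp [trivIrr], Finset.sum_const,
      Finset.card_erase_of_mem (Finset.mem_univ _), Finset.card_univ,
      ← Nat.card_eq_fintype_card, nsmul_eq_mul] at hn
    simp only [trivIrr, map_one, mul_one, Subgroup.coe_one] at hn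
    rw [(irr_degree_eq i.1).1] at hn
    have hn' : ((charDegree (i.1 : G → ℂ) : ℕ) : ℤ) +
        ((Nat.card (P : Subgroup G) - 1 : ℕ) : ℤ) * w i =
        (Nat.card (P : Subgroup G) : ℤ) * n := by exact_mod_cast hn
    have hN : ((Nat.card (P : Subgroup G) - 1 : ℕ) : ℤ) = (Nat.card (P : Subgroup G) : ℤ) - 1 := by
      have := Nat.card_pos (α := (P : Subgroup G)); omega
    rw [hN] at hn'
    refine dvd_trans (Int.natCast_dvd_natCast.mpr h16) ?_
    rcases S.rest_sign i hi' with e | e <;> simp only [D, e] at hn' ⊢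
    · exact ⟨n - 1, by linear_combination hn'⟩
    · exact ⟨-n - 1, by linear_combination -hn'⟩
  have hD0 : ∀ i, D i = 0 → i ∉ I := fun i h hi => by
    have := hcong i hi; rw [h] at this; norm_num at this
  -- the second relation
  have hx0 : (x : ℂ) ≠ 0 := by
    simp only [x, Int.cast_natCast]
    exact Nat.cast_ne_zero.mpr (irr_degree_eq _).2.ne'
  have hrel := sum_sq_eq_zero hM P hab hfree hodd
    (t := (t : G)) (congrArg Subtype.val ht2 :) hu hu2
  rw [← sum_members (B := principalBlock M G) fun χ =>
    conj ((χ : G → ℂ) (t : G) * (χ : G → ℂ) (t : G) / (χ : G → ℂ) 1) * (χ : G → ℂ) u,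
    hsplit] at hrel
  have hR1 : ∀ i ∈ I, conj ((i.1 : G → ℂ) (t : G) * (i.1 : G → ℂ) (t : G) / (i.1 : G → ℂ) 1) *
      (i.1 : G → ℂ) u = 1 / (D i : ℂ) := by
    intro i hi
    have hi' := (Finset.mem_filter.mp hi).2
    rw [show (i.1 : G → ℂ) u = (w i : ℂ) from hrest i hi' ⟨u, hu⟩ hu', hrest i hi' t ht1,
      (irr_degree_eq i.1).1]
    simp only [D, Int.cast_mul, Int.cast_natCast, map_div₀, map_mul, map_intCast, map_natCast]
    have hd : (charDegree (i.1 : G → ℂ) : ℂ) ≠ 0 := Nat.cast_ne_zero.mpr (irr_degree_eq _).2.ne'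
    rcases S.rest_sign i hi' with e | e <;> simp [e] <;> field_simp
  have hreal : ∀ o, conj (orbChar (principalBlock M (Subgroup.centralizer ((P : Subgroup G) : Set G))) o t) = orbChar (principalBlock M (Subgroup.centralizer ((P : Subgroup G) : Set G))) o t := fun o => by
    have h := hquad o
    have h3 : (orbChar (principalBlock M (Subgroup.centralizer ((P : Subgroup G) : Set G))) o t - 3) * (orbChar (principalBlock M (Subgroup.centralizer ((P : Subgroup G) : Set G))) o t + 1) = 0 := by linear_combination h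
    rcases mul_eq_zero.mp h3 with e | e
    · rw [sub_eq_zero.mp e]; exact map_ofNat _ 3
    · rw [eq_neg_of_add_eq_zero_left e]; simp
  have hdeg : ∀ o, ((exc o).1 : G → ℂ) 1 = (x : ℂ) := fun o => by
    rw [(S.relation hM hmax hab hfree hP1 (regular_one hM)).1 o o₀, (irr_degree_eq _).1]
    simp [x]
  have hR2 : ∀ o, conj (((exc o).1 : G → ℂ) (t : G) * ((exc o).1 : G → ℂ) (t : G) /
      ((exc o).1 : G → ℂ) 1) * ((exc o).1 : G → ℂ) u =
      (δ : ℂ) / x * (2 * (orbChar (principalBlock M (Subgroup.centralizer ((P : Subgroup G) : Set G))) o t * orbChar (principalBlock M (Subgroup.centralizer ((P : Subgroup G) : Set G))) o ⟨u, hu⟩) + 3 * orbChar (principalBlock M (Subgroup.centralizer ((P : Subgroup G) : Set G))) o ⟨u, hu⟩) := by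
    intro o
    rw [show ((exc o).1 : G → ℂ) u = (δ : ℂ) * orbChar (principalBlock M (Subgroup.centralizer ((P : Subgroup G) : Set G))) o ⟨u, hu⟩ from hexc o ⟨u, hu⟩ hu',
      hexc o t ht1, hdeg]
    have hq := hquad o
    simp only [map_div₀, map_mul, map_intCast, hreal]
    rcases S.sign with e | e <;> subst e <;> push_cast <;>
      [linear_combination (orbChar (principalBlock M (Subgroup.centralizer ((P : Subgroup G) : Set G))) o ⟨u, hu⟩ / (x : ℂ)) * hq;
       linear_combination -(orbChar (principalBlock M (Subgroup.centralizer ((P : Subgroup G) : Set G))) o ⟨u, hu⟩ / (x : ℂ)) * hq]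
  rw [Finset.sum_congr rfl hR1, Finset.sum_congr rfl (fun o _ => hR2 o), ← Finset.mul_sum,
    Finset.sum_add_distrib, ← Finset.mul_sum, ← Finset.mul_sum] at hrel
  have horbu : ∑ o, orbChar (principalBlock M (Subgroup.centralizer ((P : Subgroup G) : Set G))) o
      ⟨u, hu⟩ = -1 := by
    convert horb _ hu' using 2
    all_goals (ext o; simp)
  rw [horbu] at hrel
  have horth : ∑ o, orbChar (principalBlock M (Subgroup.centralizer ((P : Subgroup G) : Set G))) o t * orbChar (principalBlock M (Subgroup.centralizer ((P : Subgroup G) : Set G))) o ⟨u, hu⟩ = -3 := by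
    have h := col_orth hM hmax hab hfree hu hu1 t.2 (hne t ht1) (fun y hy hyu => by
      have hyP : y * (u * u) * y⁻¹ = 1 := by
        rw [show y * (u * u) * y⁻¹ = (y * u * y⁻¹) * (y * u * y⁻¹) by group, hyu]
        exact congrArg Subtype.val ht2
      exact hu2 (conj_eq_one_iff.mp hyP))
    rw [← sum_members (B := principalBlock M G) fun χ =>
      col 2 M (P : Subgroup G) (principalBlock M (Subgroup.centralizer ((P : Subgroup G) : Set G))) u χ * conj (col 2 M (P : Subgroup G) (principalBlock M (Subgroup.centralizer ((P : Subgroup G) : Set G))) (t : G) χ),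
      hsplit, Finset.sum_congr rfl (g := fun _ => (1 : ℂ)) fun i hi => by
        have hi' := (Finset.mem_filter.mp hi).2
        rw [col_eq_value hM P hab hfree hu hu1 i.2, col_eq_value hM P hab hfree t.2 (hne t ht1) i.2,
          show (i.1 : G → ℂ) u = (w i : ℂ) from hrest i hi' ⟨u, hu⟩ hu', hrest i hi' t ht1,
          map_intCast]
        rcases S.rest_sign i hi' with e | e <;> simp [e]] at h
    rw [Finset.sum_congr rfl (g := fun o => orbChar (principalBlock M (Subgroup.centralizer ((P : Subgroup G) : Set G))) o t * orbChar (principalBlock M (Subgroup.centralizer ((P : Subgroup G) : Set G))) o ⟨u, hu⟩) fun o _ => by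
      rw [col_eq_value hM P hab hfree hu hu1 (exc o).2,
        col_eq_value hM P hab hfree t.2 (hne t ht1) (exc o).2,
        show ((exc o).1 : G → ℂ) u = (δ : ℂ) * orbChar (principalBlock M (Subgroup.centralizer ((P : Subgroup G) : Set G))) o ⟨u, hu⟩ from hexc o ⟨u, hu⟩ hu',
        hexc o t ht1, map_mul, map_intCast, hreal]
      rcases S.sign with e | e <;> subst e <;> push_cast <;> ring] at h
    rw [Finset.sum_const, nsmul_eq_mul, mul_one] at h
    rw [hIcard] at h
    push_cast at h
    linear_combination h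
  rw [horth] at hrel
  have hIe : ((I.erase one).card = 2) := by rw [Finset.card_erase_of_mem honeI, hIcard]
  obtain ⟨i, i', hii, heI⟩ := Finset.card_eq_two.mp hIe
  have hi : i ∈ I := Finset.mem_of_mem_erase (heI ▸ by simp : i ∈ I.erase one)
  have hi' : i' ∈ I := Finset.mem_of_mem_erase (heI ▸ by simp : i' ∈ I.erase one)
  rw [← Finset.add_sum_erase _ _ honeI, heI, Finset.sum_pair hii, hDone] at hrel
  rw [← Finset.add_sum_erase _ _ honeI, heI, Finset.sum_pair hii, hDone] at hsumD
  have ha0 : (D i : ℂ) ≠ 0 := Int.cast_ne_zero.mpr fun h => hD0 i h hi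
  have hb0 : (D i' : ℂ) ≠ 0 := Int.cast_ne_zero.mpr fun h => hD0 i' h hi'
  have hprod' : (1 + D i) * (1 + D i') * (D i + D i') = 8 * D i * D i' := by
    apply Int.cast_injective (α := ℂ)
    have hs : (1 : ℂ) + ((D i : ℂ) + (D i' : ℂ)) = (δ : ℂ) * x := by exact_mod_cast hsumD
    have hd : (δ : ℂ) * δ = 1 := by rcases S.sign with h | h <;> simp [h]
    push_cast
    field_simp at hrel
    linear_combination ((D i : ℂ) + D i' + (D i : ℂ) * D i') * hs + (δ : ℂ) * hrel +
      (9 * (D i : ℂ) * D i') * hd
  obtain ⟨hDi, -⟩ := arith_one (hcong i hi) (hcong i' hi') hprod'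
  have hi1 := (Finset.mem_filter.mp hi).2
  have hwi : w i = 1 ∧ charDegree (i.1 : G → ℂ) = 1 := by
    rcases S.rest_sign i hi1 with e | e <;> simp only [D, e] at hDi
    · exact ⟨e, by omega⟩
    · omega
  have hd1 : (i.1 : G → ℂ) 1 = 1 := by rw [(irr_degree_eq _).1, hwi.2, Nat.cast_one]
  refine ⟨Char.linearHom (Char.isCharacter_of_isIrr i.1.2) hd1, fun h => ?_, fun v hv => ?_⟩
  · have hitriv : i.1 = trivIrr G := Subtype.ext (funext fun g => by
      rw [← Char.linearHom_apply (Char.isCharacter_of_isIrr i.1.2) hd1 g, h]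
      simp [trivIrr])
    have : i = one := Subtype.ext hitriv
    exact (Finset.mem_erase.mp (heI ▸ by simp : i ∈ I.erase one)).1 this
  · refine Units.ext ?_
    rw [Char.linearHom_apply, Units.val_one]
    rcases eq_or_ne (⟨v, hv⟩ : (P : Subgroup G)) 1 with h | h
    · rw [show v = 1 from congrArg Subtype.val h, hd1]
    · rw [show (i.1 : G → ℂ) v = (w i : ℂ) from hrest i hi1 ⟨v, hv⟩ h, hwi.1, Int.cast_one]

end Free

end CfsgLib.Blocks.FreeQuot.Homocyclic
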