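import Cfsg.Agent.Lib.Blocks.Vanishing
import Cfsg.Agent.Lib.Blocks.StarGeneralized
import Cfsg.Agent.Lib.Blocks.Sections

/-!
# Idempotents of the group ring have traces depending on the regular values only

For an idempotent `J` of the group ring over the local ring and a singular element `z`, the sum of
the coefficients of `J` at the conjugates of `z` is zero.
-/

set_option autoImplicit false
set_option linter.unusedSectionVars false

namespace CfsgLib.Blocks.FreeQuot

open Cfsg CfsgLib.GrpRing
open scoped ComplexConjugate CfsgLib.Char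

variable {p : ℕ} {M : Ideal AlgInt} [M.IsPrime] {G : Type*} [Group G] [Fintype G]

/-- The sum of an idempotent over the conjugates of a singular element. -/
theorem sum_idem_conj_eq_zero (hM : IsPModular p M) {f : G → ℂ} (hfl : ∀ g, MemLocalRing M (f g))
    (hff : conv f f = f) {z : G} (hz : ¬ IsPRegular p z) : ∑ a, f (a⁻¹ * z * a) = 0 := by
  classical
  have hzi : ¬ IsPRegular p z⁻¹ := by rwa [IsPRegular, orderOf_inv]
  set u := z⁻¹ with hu
  have hpu : p ∣ orderOf u := not_not.mp hzi
  -- a labelling of the group by exponents of `u` modulo `p`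
  letI : MulAction (Subgroup.zpowers u) G := MulAction.compHom G (Subgroup.zpowers u).subtype
  set rep : G → G := fun a => (Quotient.mk (MulAction.orbitRel (Subgroup.zpowers u) G) a).out
  have hrep : ∀ a : G, ∃ n : ℤ, a = u ^ n * rep a := fun a => by
    obtain ⟨⟨v, hv⟩, h1⟩ := Quotient.mk_out (s := MulAction.orbitRel (Subgroup.zpowers u) G) a
    obtain ⟨n, rfl⟩ := Subgroup.mem_zpowers_iff.mp hv
    refine ⟨-n, ?_⟩
    have h2 : u ^ n * a = rep a := h1
    rw [← h2, zpow_neg, inv_mul_cancel_left]
  have hrep' : ∀ (n : ℤ) (a : G), rep (u ^ n * a) = rep a := fun n a => by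
    simp only [rep]
    rw [Quotient.sound]
    exact ⟨⟨u ^ n, Subgroup.zpow_mem_zpowers u n⟩, rfl⟩
  choose nn hnn using hrep
  set lab : G → ZMod p := fun a => (nn a : ZMod p) with hlab
  have hlabmul : ∀ (n : ℤ) (a : G), lab (u ^ n * a) = (n : ZMod p) + lab a := fun n a => by
    have h1 := hnn (u ^ n * a)
    rw [hrep' n a] at h1
    nth_rewrite 1 [hnn a] at h1
    rw [← mul_assoc, ← zpow_add, mul_left_inj, zpow_eq_zpow_iff_modEq] at h1
    have h2 : ((n + nn a : ℤ) : ZMod p) = ((nn (u ^ n * a) : ℤ) : ZMod p) :=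
      (ZMod.intCast_eq_intCast_iff _ _ p).mpr (h1.of_dvd (Int.natCast_dvd_natCast.mpr hpu))
    rw [hlab]
    push_cast at h2
    exact h2.symm
  -- the matrices
  let X : Matrix G G ℂ := Matrix.of fun a b => if a = u * b then 1 else 0
  let X' : Matrix G G ℂ := Matrix.of fun a b => if b = u * a then 1 else 0
  let F : Matrix G G ℂ := Matrix.of fun a b => f (b⁻¹ * a)
  let W : Matrix G G ℂ := Matrix.of fun a b => if lab b = 0 then f (b⁻¹ * a) else 0
  have hXpow : ∀ k : ℕ, X ^ k = Matrix.of fun a b => if a = u ^ k * b then (1 : ℂ) else 0 := by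
    intro k
    induction k with
    | zero => ext a b; simp [Matrix.one_apply]
    | succ k ih =>
      ext a b
      rw [pow_succ, ih, Matrix.mul_apply]
      simp only [Matrix.of_apply, X, mul_ite, mul_one, mul_zero, Finset.sum_ite_eq', Finset.mem_univ,
        if_true]
      rw [pow_succ, mul_assoc]
  have hX'pow : ∀ k : ℕ, X' ^ k = Matrix.of fun a b => if b = u ^ k * a then (1 : ℂ) else 0 := by
    intro k
    induction k with
    | zero => ext a b; simp [Matrix.one_apply, eq_comm]
    | succ k ih =>
      ext a b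
      rw [pow_succ, ih, Matrix.mul_apply]
      simp only [Matrix.of_apply, X', ite_mul, one_mul, zero_mul, Finset.sum_ite_eq', Finset.mem_univ,
        if_true]
      rw [pow_succ', mul_assoc]
  have hsand : ∀ (k : ℕ) (A : Matrix G G ℂ) (a b : G),
      (X ^ k * A * X' ^ k) a b = A ((u ^ k)⁻¹ * a) ((u ^ k)⁻¹ * b) := by
    intro k A a b
    rw [Matrix.mul_apply, hX'pow, Finset.sum_eq_single ((u ^ k)⁻¹ * b)]
    · rw [Matrix.mul_apply, hXpow, Finset.sum_eq_single ((u ^ k)⁻¹ * a)]
      · simp
      · intro c _ hc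
        simp only [Matrix.of_apply]
        rw [if_neg fun h => hc (by rw [h, inv_mul_cancel_left]), zero_mul]
      · simp
    · intro c _ hc
      simp only [Matrix.of_apply]
      rw [if_neg fun h => hc (by rw [h, inv_mul_cancel_left]), mul_zero]
    · simp
  have hFX : (F * X).trace = ∑ a, f (a⁻¹ * z * a) := by
    refine (Fintype.sum_equiv (Equiv.refl G) _ _ fun a => ?_)
    rw [Matrix.diag_apply, Matrix.mul_apply, Finset.sum_eq_single (u * a)]
    · simp [X, F, hu]
    · intro c _ hc
      simp [X, hc]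
    · simp
  rw [← hFX]
  have hδ : ∀ {q : Prop} [Decidable q], MemLocalRing M (if q then (1 : ℂ) else 0) := fun {q} _ => by
    split_ifs
    exacts [memLocalRing_one, memLocalRing_zero]
  refine trace_eq_zero_of_relatively_projective hM (X' := X') (W := W) (fun a b => hδ)
    (fun a b => hδ) (fun a b => hfl _) (fun a b => ?_) ?_ ?_ ?_ ?_ ?_ ?_
  · simp only [W, Matrix.of_apply]
    split_ifs
    exacts [hfl _, memLocalRing_zero]
  · ext a b
    have := hsand 1 1 a b
    simpa [Matrix.one_apply] using this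
  · ext a b
    rw [Matrix.mul_apply, Finset.sum_eq_single (u * a)]
    · simp [X, X', Matrix.one_apply]
    · intro c _ hc
      simp [X', hc]
    · simp
  · ext a b
    rw [Matrix.mul_apply, Matrix.mul_apply, Finset.sum_eq_single (u * b),
      Finset.sum_eq_single (u⁻¹ * a)]
    · simp [X, F, mul_assoc]
    · intro c _ hc
      simp only [X, Matrix.of_apply]
      rw [if_neg fun h => hc (by rw [h, inv_mul_cancel_left]), zero_mul]
    · simp
    · intro c _ hc
      simp [X, hc]
    · simp
  · ext a c
    rw [Matrix.mul_apply]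
    simp only [F, Matrix.of_apply]
    conv_rhs => rw [← hff, conv]
    refine Fintype.sum_equiv (Equiv.mulLeft c⁻¹) _ _ fun b => ?_
    simp only [Equiv.coe_mulLeft, mul_inv_rev, inv_inv, mul_assoc, mul_inv_cancel_left]
    ring
  · ext a b
    rw [hsand]
    simp only [W, Matrix.of_apply, mul_inv_rev, inv_inv, mul_assoc, mul_inv_cancel_left]
    refine if_congr ?_ rfl rfl
    rw [← zpow_natCast, ← zpow_neg, hlabmul, Int.cast_neg, Int.cast_natCast, ZMod.natCast_self,
      neg_zero, zero_add]
  · intro a b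
    rw [Matrix.sum_apply]
    simp only [hsand]
    simp only [W, F, Matrix.of_apply, mul_inv_rev, inv_inv, mul_assoc, mul_inv_cancel_left]
    rw [Finset.sum_eq_single_of_mem ((lab b).val) (Finset.mem_range.mpr
      (haveI := NeZero.mk hM.1.ne_zero; ZMod.val_lt _))]
    · rw [if_pos]
      · exact memLocalIdeal_sub_self _
      · haveI := NeZero.mk hM.1.ne_zero
        rw [← zpow_natCast, ← zpow_neg, hlabmul, Int.cast_neg, Int.cast_natCast,
          ZMod.natCast_zmod_val, neg_add_cancel]
    · intro k hk hne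
      refine if_neg fun h => hne ?_
      rw [← zpow_natCast, ← zpow_neg, hlabmul, Int.cast_neg, Int.cast_natCast, neg_add_eq_zero] at h
      rw [← h, ZMod.val_natCast, Nat.mod_eq_of_lt (Finset.mem_range.mp hk)]

/-- An idempotent against a class function vanishing on the regular elements. -/
theorem sum_idem_mul_eq_zero (hM : IsPModular p M) {f : G → ℂ} (hfl : ∀ g, MemLocalRing M (f g))
    (hff : conv f f = f) {δ : G → ℂ} (hδ : IsClassFunction G δ)
    (h0 : ∀ g, IsPRegular p g → δ g = 0) : ∑ g, f g * δ g = 0 := by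
  classical
  have hcomm : ∑ a : G, ∑ g : G, f (a⁻¹ * g * a) * δ g = (Nat.card G : ℂ) * ∑ g, f g * δ g := by
    rw [Finset.sum_congr rfl fun a _ => (Fintype.sum_equiv (MulAut.conj a⁻¹).toEquiv
      (fun g => f (a⁻¹ * g * a) * δ g) (fun g => f g * δ g) fun g => by
        show _ = f (a⁻¹ * g * a⁻¹⁻¹) * δ (a⁻¹ * g * a⁻¹⁻¹)
        rw [hδ g a⁻¹, inv_inv])]
    simp [Nat.card_eq_fintype_card]
  rw [Finset.sum_comm, Finset.sum_eq_zero fun g _ => ?_] at hcomm
  · exact (mul_eq_zero.mp hcomm.symm).resolve_left (Nat.cast_ne_zero.mpr Nat.card_pos.ne')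
  by_cases hg : IsPRegular p g
  · simp [h0 g hg]
  · rw [← Finset.sum_mul, sum_idem_conj_eq_zero hM hfl hff hg, zero_mul]

theorem coe_coeff_mul_eq_conv (a b : OG M G) :
    (fun g => (((a * b).coeff g : locRing M) : ℂ)) =
      conv (fun g => ((a.coeff g : locRing M) : ℂ)) fun g => ((b.coeff g : locRing M) : ℂ) := by
  funext g
  simp [coeff_mul_fintype, conv]

/-- An idempotent of the group ring against a class function. -/
theorem chiSum_idem_eq_zero (hM : IsPModular p M) {J : OG M G} (hJ : IsIdempotentElem J)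
    {δ : G → ℂ} (hδ : IsClassFunction G δ) (h0 : ∀ g, IsPRegular p g → δ g = 0) :
    chiSum δ J = 0 :=
  sum_idem_mul_eq_zero hM (fun g => (J.coeff g).2)
    (by rw [← coe_coeff_mul_eq_conv, hJ.eq]) hδ h0

end CfsgLib.Blocks.FreeQuot
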