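import Cfsg.Agent.Lib.Blocks.FreeQuotient.Count
import Cfsg.Agent.S4698
import Cfsg.Agent.S4710
import Mathlib.GroupTheory.SpecificGroups.KleinFour

/-!
# Blocks with a Klein four defect group: the columns
-/

set_option autoImplicit false
set_option linter.unusedSectionVars false

namespace CfsgLib.Blocks.FreeQuot

open Cfsg
open scoped ComplexConjugate CfsgLib.Char

variable {M : Ideal AlgInt} [M.IsPrime] {G : Type*} [Group G] [Fintype G] {P : Subgroup G}
  {c : Set (IrrCharacter (Subgroup.centralizer (P : Set G)))} {B : Set (IrrCharacter G)}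

theorem klein_sq (hV : IsKleinFour P) {x : G} (hx : x ∈ P) : x * x = 1 := by
  have h := Monoid.pow_exponent_eq_one (⟨x, hx⟩ : P)
  rw [hV.exponent_two, pow_two] at h
  exact congrArg Subtype.val h

theorem klein_comm (hV : IsKleinFour P) : ∀ x ∈ P, ∀ y ∈ P, x * y = y * x := fun x hx y hy => by
  have hinv : ∀ z ∈ P, z⁻¹ = z := fun z hz => inv_eq_of_mul_eq_one_right (klein_sq hV hz)
  have h := hinv _ (mul_mem hx hy)
  rw [mul_inv_rev, hinv x hx, hinv y hy] at h
  exact h.symm

/-- Two elements outside `{1, x}` differ by `x` at most. -/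
theorem klein_outside (hV : IsKleinFour P) {x y z : G} (hx : x ∈ P) (hx1 : x ≠ 1) (hy : y ∈ P)
    (hy1 : y ≠ 1) (hyx : y ≠ x) (hz : z ∈ P) (hz1 : z ≠ 1) (hzx : z ≠ x) : z = y ∨ z = x * y := by
  classical
  have hxy1 : x * y ≠ 1 := fun h => hyx (by
    rw [← inv_eq_of_mul_eq_one_right h, inv_eq_of_mul_eq_one_right (klein_sq hV hx)])
  have hxyy : x * y ≠ y := fun h => hx1 (mul_eq_right.mp h)
  have hxyx : x * y ≠ x := fun h => hy1 (mul_eq_left.mp h)
  by_contra hcon
  push Not at hcon
  let : Fintype P := Fintype.ofFinite _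
  have h5 : ({1, x, y, x * y, z} : Finset G) ⊆ (Finset.univ.filter fun g : G => g ∈ P) := by
    intro g hg
    simp only [Finset.mem_insert, Finset.mem_singleton] at hg
    simp only [Finset.mem_filter, Finset.mem_univ, true_and]
    rcases hg with rfl | rfl | rfl | rfl | rfl
    exacts [one_mem _, hx, hy, mul_mem hx hy, hz]
  have h := Finset.card_le_card h5
  rw [← Fintype.card_subtype, ← Nat.card_eq_fintype_card, show Nat.card {g : G // g ∈ P} = 4 from
    hV.card_four] at h
  rw [Finset.card_insert_of_notMem, Finset.card_insert_of_notMem, Finset.card_insert_of_notMem,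
    Finset.card_insert_of_notMem, Finset.card_singleton] at h
  · omega
  · simpa using hcon.2.symm
  · simp only [Finset.mem_insert, Finset.mem_singleton, not_or]
    exact ⟨hxyy.symm, hcon.1.symm⟩
  · simp only [Finset.mem_insert, Finset.mem_singleton, not_or]
    exact ⟨hyx.symm, hxyx.symm, hzx.symm⟩
  · simp only [Finset.mem_insert, Finset.mem_singleton, not_or]
    exact ⟨hx1.symm, hy1.symm, hxy1.symm, hz1.symm⟩

/-- The inertial quotient acts freely. -/
theorem klein_free (hV : IsKleinFour P)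
    (hm : ¬ 2 ∣ (Subgroup.centralizer (P : Set G)).relIndex (blockT P c)) :
    ∀ g ∈ blockT P c, ∀ x ∈ P, x ≠ 1 → g * x * g⁻¹ = x →
      g ∈ Subgroup.centralizer (P : Set G) := by
  intro g hg x hx hx1 hfix
  have hN := blockT_le_normalizer hg
  have hg2 : g ^ 2 ∈ Subgroup.centralizer (P : Set G) := by
    refine Fusion.mem_centralizer_of_conj_eq fun y hy => ?_
    have hsq : g ^ 2 * y * (g ^ 2)⁻¹ = g * (g * y * g⁻¹) * g⁻¹ := by rw [pow_two]; group
    rw [hsq]
    rcases eq_or_ne y 1 with rfl | hy1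
    · group
    rcases eq_or_ne y x with rfl | hyx
    · rw [hfix, hfix]
    have hmem := (Subgroup.mem_normalizer_iff.mp hN y).mp hy
    have h1 : g * y * g⁻¹ ≠ 1 := fun h => hy1 (conj_eq_one_iff.mp h)
    have h2 : g * y * g⁻¹ ≠ x := fun h => hyx (by
      have := h.trans hfix.symm
      exact mul_left_cancel (mul_right_cancel this))
    rcases klein_outside hV hx hx1 hy hy1 hyx hmem h1 h2 with h | h
    · rw [h, h]
    · rw [h, show g * (x * y) * g⁻¹ = g * x * g⁻¹ * (g * y * g⁻¹) by group, hfix, h, ← mul_assoc,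
        klein_sq hV hx, one_mul]
  have : ((Subgroup.centralizer (P : Set G)).subgroupOf (blockT P c)).Normal :=
    Subgroup.normal_subgroupOf_of_le_normalizer
      (blockT_le_normalizer.trans fun a ha => mem_normalizer_centralizer ha)
  set m := (Subgroup.centralizer (P : Set G)).relIndex (blockT P c)
  have hgm : g ^ m ∈ Subgroup.centralizer (P : Set G) :=
    Subgroup.mem_subgroupOf.mp (Subgroup.pow_index_mem
      ((Subgroup.centralizer (P : Set G)).subgroupOf (blockT P c)) (⟨g, hg⟩ : blockT P c))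
  obtain ⟨j, hj⟩ : Odd m := Nat.odd_iff.mpr (by omega)
  rw [hj, pow_succ, pow_mul] at hgm
  exact (Subgroup.mul_mem_cancel_left _ (pow_mem hg2 j)).mp hgm

/-- The data of a block with Klein four defect group. -/
theorem klein_data (hM : IsPModular 2 M) (hmax : IsMaximalBrauerPair 2 M B P c) (hV : IsKleinFour P)
    (hm : ¬ 2 ∣ (Subgroup.centralizer (P : Set G)).relIndex (blockT P c)) :
    ((Subgroup.centralizer (P : Set G)).relIndex (blockT P c) = 1 ∨
        (Subgroup.centralizer (P : Set G)).relIndex (blockT P c) = 3) ∧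
      Nat.card B = 4 ∧ blockRank 2 B = (Subgroup.centralizer (P : Set G)).relIndex (blockT P c) ∧
      ∀ u ∈ P, u ≠ 1 → ∀ χ ∈ B, col 2 M P c u χ = 1 ∨ col 2 M P c u χ = -1 := by
  classical
  have hfree := klein_free hV hm
  have hab := klein_comm hV
  have hB := hmax.1.2.1
  have : Fact (Nat.Prime 2) := ⟨Nat.prime_two⟩
  have hd : blockDefect 2 B = 2 := by
    have h := IsDefectGroup.card_eq hM hB (isDefectGroup_of_maximal hM hmax)
    rw [hV.card_four] at h
    exact (Nat.pow_right_injective le_rfl (show 2 ^ 2 = 2 ^ blockDefect 2 B from h)).symm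
  have hk : Nat.card B ≤ 4 := (Cfsg.Agent.S4698.result 2 M hM B hB 2 hd).1 le_rfl
  have h0 : ∀ χ ∈ B, blockHeight 2 B (χ : G → ℂ) = 0 := fun χ hχ =>
    Nat.le_zero.mp (((Cfsg.Agent.S4710.result 2 M hM B hB 2 hd).2 χ hχ).2 le_rfl)
  obtain ⟨R, hR⟩ := exists_isReps (P := P) (c := c)
  have hRe := card_reps hM hmax hab hfree hR
  rw [hV.card_four] at hRe
  have hkl := card_eq_rank_add hM hmax hab hfree hR
  have hl : 0 < blockRank 2 B := blockRank_pos (IsPBlock.nonempty hB) (by norm_num)
  have hkey : ∀ u ∈ P, u ≠ 1 → Nat.card B = 4 ∧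
      ∀ χ ∈ B, col 2 M P c u χ = 1 ∨ col 2 M P c u χ = -1 := by
    intro u hu hu1
    choose n hn using fun χ => col_int hM hmax hab hfree hu (klein_sq hV hu) χ
    have hne : ∀ χ ∈ B, n χ ≠ 0 := fun χ hχ h =>
      col_ne_zero hM hmax hab hfree hu hu1 hχ (h0 χ hχ) (by rw [hn, h, Int.cast_zero])
    set s : Finset (IrrCharacter G) := {χ | χ ∈ B}
    have hs : ∀ χ, χ ∈ s ↔ χ ∈ B := fun χ => by simp [s]
    have hsum : ∑ χ ∈ s, n χ * n χ = 4 := by
      have h := col_norm hM hmax hab hfree hu hu1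
      simp only [hn, map_intCast] at h
      rw [hV.card_four] at h
      exact_mod_cast h
    have hge : ∀ χ ∈ s, 1 ≤ n χ * n χ := fun χ hχ => by
      nlinarith [sq_abs (n χ), Int.one_le_abs (hne χ ((hs χ).mp hχ))]
    have hcard : s.card = Nat.card B := by
      rw [Nat.card_eq_fintype_card, Fintype.card_subtype]
    have hone : ∀ χ ∈ s, n χ = 1 ∨ n χ = -1 := by
      intro χ hχ
      by_contra hcon
      push Not at hcon
      have h4 : 4 ≤ n χ * n χ := by
        have : 2 ≤ |n χ| := by
          rcases abs_cases (n χ) with ⟨ha, hb⟩ | ⟨ha, hb⟩ <;>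
            (have := hne χ ((hs χ).mp hχ); omega)
        nlinarith [abs_mul_abs_self (n χ)]
      rw [← Finset.add_sum_erase _ _ hχ] at hsum
      have h1 : ((s.erase χ).card : ℤ) ≤ ∑ η ∈ s.erase χ, n η * n η := by
        rw [Finset.card_eq_sum_ones, Nat.cast_sum]
        exact Finset.sum_le_sum fun η hη => by
          simpa using hge η (Finset.mem_of_mem_erase hη)
      have h2 : 0 < (s.erase χ).card := by
        obtain ⟨r, hr, -⟩ := hR.ex u hu hu1
        have := Finset.card_pos.mpr ⟨r, hr⟩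
        rw [Finset.card_erase_of_mem hχ, hcard]
        omega
      omega
    refine ⟨?_, fun χ hχ => ?_⟩
    · rw [Finset.sum_congr rfl (g := fun _ => (1 : ℤ)) fun χ hχ => by
        rcases hone χ hχ with h | h <;> rw [h] <;> rfl] at hsum
      rw [← hcard]
      simp only [Finset.sum_const, nsmul_eq_mul, mul_one] at hsum
      exact_mod_cast hsum
    · rcases hone χ ((hs χ).mpr hχ) with h | h <;> simp [hn, h]
  set e := (Subgroup.centralizer (P : Set G)).relIndex (blockT P c)
  have he : e = 1 ∨ e = 3 := by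
    have : e ∣ 3 := ⟨R.card, by rw [mul_comm]; exact hRe.symm⟩
    exact (Nat.dvd_prime Nat.prime_three).mp this
  obtain ⟨r, hr⟩ : R.Nonempty := Finset.card_pos.mp (Nat.pos_of_ne_zero fun h => by
    rw [h, zero_mul] at hRe
    omega)
  obtain ⟨hk4, -⟩ := hkey r (hR.mem r hr).1 (hR.mem r hr).2
  refine ⟨he, hk4, ?_, fun u hu hu1 => (hkey u hu hu1).2⟩
  rcases he with h | h <;> rw [h] at hRe <;> omega

end CfsgLib.Blocks.FreeQuot
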