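import Cfsg.Agent.Lib.Blocks.FreeQuotient.Klein
import Cfsg.Agent.Lib.Blocks.FreeQuotient.PerfectCols

/-!
# Matching the columns of two blocks with Klein four defect groups
-/

set_option autoImplicit false
set_option linter.unusedSectionVars false

namespace CfsgLib.Blocks.FreeQuot

open Cfsg
open scoped ComplexConjugate CfsgLib.Char

/-- A point is determined by the products of three orthogonal columns of signs. -/
theorem klein_keys {α : Type*} [DecidableEq α] {s : Finset α} (hs : s.card = 4) {a b c : α → ℤ}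
    (ha : ∀ x ∈ s, a x = 1 ∨ a x = -1) (hb : ∀ x ∈ s, b x = 1 ∨ b x = -1)
    (hc : ∀ x ∈ s, c x = 1 ∨ c x = -1) (hab : ∑ x ∈ s, a x * b x = 0)
    (hac : ∑ x ∈ s, a x * c x = 0) (hbc : ∑ x ∈ s, b x * c x = 0) {x y : α} (hx : x ∈ s)
    (hy : y ∈ s) (h1 : a x * c x = a y * c y) (h2 : b x * c x = b y * c y) : x = y := by
  by_contra hne
  have hy' : y ∈ s.erase x := Finset.mem_erase.mpr ⟨fun h => hne h.symm, hy⟩
  obtain ⟨z, w, hzw, hset⟩ := Finset.card_eq_two.mp (show ((s.erase x).erase y).card = 2 by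
    rw [Finset.card_erase_of_mem hy', Finset.card_erase_of_mem hx, hs])
  have hsum : ∀ f : α → ℤ, ∑ t ∈ s, f t = f x + (f y + (f z + f w)) := fun f => by
    rw [← Finset.add_sum_erase s f hx, ← Finset.add_sum_erase _ f hy', hset, Finset.sum_pair hzw]
  have hz : z ∈ s := Finset.mem_of_mem_erase (Finset.mem_of_mem_erase
    (by rw [hset]; exact Finset.mem_insert_self _ _))
  have hw : w ∈ s := Finset.mem_of_mem_erase (Finset.mem_of_mem_erase
    (by rw [hset]; exact Finset.mem_insert_of_mem (Finset.mem_singleton_self _)))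
  rw [hsum] at hab hac hbc
  have sq : ∀ {v : ℤ}, v = 1 ∨ v = -1 → v * v = 1 := fun h => by rcases h with h | h <;> simp [h]
  have pm : ∀ {u v : ℤ}, u = 1 ∨ u = -1 → v = 1 ∨ v = -1 → u * v = 1 ∨ u * v = -1 := fun h h' => by
    rcases h with h | h <;> rcases h' with h' | h' <;> simp [h, h']
  have h3 : a x * b x = a y * b y := by
    linear_combination (a x * c x) * h2 + (b y * c y) * h1 - (a x * b x) * sq (hc x hx) +
      (a y * b y) * sq (hc y hy)
  have k1 : a z * b z = -(a x * b x) := by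
    have := pm (ha z hz) (hb z hz); have := pm (ha w hw) (hb w hw); have := pm (ha x hx) (hb x hx)
    omega
  have k2 : a z * c z = -(a x * c x) := by
    have := pm (ha z hz) (hc z hz); have := pm (ha w hw) (hc w hw); have := pm (ha x hx) (hc x hx)
    omega
  have k3 : b z * c z = -(b x * c x) := by
    have := pm (hb z hz) (hc z hz); have := pm (hb w hw) (hc w hw); have := pm (hb x hx) (hc x hx)
    omega
  have h4 : b x * c x = -(b x * c x) := by
    linear_combination k3 - (a z * c z) * k1 + (a x * b x) * k2 + (b z * c z) * sq (ha z hz) -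
      (b x * c x) * sq (ha x hx)
  have := pm (hb x hx) (hc x hx)
  omega

/-- Two systems of orthogonal columns of signs on four points can be matched. -/
theorem exists_signed_match {α β ι : Type*} [DecidableEq α] [DecidableEq β] {s : Finset α}
    {t : Finset β} (hs : s.card = 4) (ht : t.card = 4) {R : Finset ι} (hR : R.card = 1 ∨ R.card = 3)
    {n : ι → α → ℤ} {m : ι → β → ℤ} (hn : ∀ r ∈ R, ∀ x ∈ s, n r x = 1 ∨ n r x = -1)
    (hm : ∀ r ∈ R, ∀ x ∈ t, m r x = 1 ∨ m r x = -1)
    (hno : ∀ r ∈ R, ∀ r' ∈ R, r ≠ r' → ∑ x ∈ s, n r x * n r' x = 0)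
    (hmo : ∀ r ∈ R, ∀ r' ∈ R, r ≠ r' → ∑ x ∈ t, m r x * m r' x = 0) :
    ∃ (I : β → α) (ε : β → ℤ), Set.BijOn I ↑t ↑s ∧ (∀ y ∈ t, ε y = 1 ∨ ε y = -1) ∧
      ∀ r ∈ R, ∀ y ∈ t, ε y * m r y = n r (I y) := by
  classical
  have hne : Nonempty α := let ⟨x, _⟩ := Finset.card_pos.mp (show 0 < s.card by omega); ⟨x⟩
  have sq : ∀ {v : ℤ}, v = 1 ∨ v = -1 → v * v = 1 := fun h => by rcases h with h | h <;> simp [h]
  have fin : ∀ (I : β → α), (∀ y ∈ t, I y ∈ s) → Set.InjOn I ↑t → Set.BijOn I ↑t ↑s := by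
    intro I h1 h2
    refine ⟨h1, h2, fun x hx => ?_⟩
    obtain ⟨y, hy, rfl⟩ := Finset.surj_on_of_inj_on_of_card_le (fun a _ => I a)
      (fun a ha => h1 a ha) (fun a b ha hb h => h2 ha hb h) (by omega) x hx
    exact ⟨y, hy, rfl⟩
  rcases hR with hR | hR
  · obtain ⟨r, rfl⟩ := Finset.card_eq_one.mp hR
    obtain ⟨f⟩ : Nonempty (t ≃ s) := ⟨Finset.equivOfCardEq (ht.trans hs.symm)⟩
    classical
    let I : β → α := fun y => if h : y ∈ t then f ⟨y, h⟩ else Classical.choice hne
    have hI : ∀ y ∈ t, I y ∈ s := fun y hy => by simp only [I, dif_pos hy]; exact (f ⟨y, hy⟩).2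
    refine ⟨I, fun y => n r (I y) * m r y, fin I hI (fun a ha b hb h => ?_), fun y hy => ?_,
      fun r' hr' y hy => ?_⟩
    · simp only [I, dif_pos (Finset.mem_coe.mp ha), dif_pos (Finset.mem_coe.mp hb)] at h
      exact congrArg Subtype.val (f.injective (Subtype.ext h))
    · rcases hn r (by simp) (I y) (hI y hy) with h | h <;>
        rcases hm r (by simp) y hy with h' | h' <;> simp [h, h']
    · obtain rfl := Finset.mem_singleton.mp hr'
      rw [mul_assoc, sq (hm r' (by simp) y hy), mul_one]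
  · obtain ⟨a, b, c, hab, hac, hbc, rfl⟩ := Finset.card_eq_three.mp hR
    have ma : a ∈ ({a, b, c} : Finset ι) := by simp
    have mb : b ∈ ({a, b, c} : Finset ι) := by simp
    have mc : c ∈ ({a, b, c} : Finset ι) := by simp
    set K : α → ℤ × ℤ := fun x => (n a x * n c x, n b x * n c x) with hK
    set K' : β → ℤ × ℤ := fun y => (m a y * m c y, m b y * m c y) with hK'
    have hKinj : ∀ x ∈ s, ∀ y ∈ s, K x = K y → x = y := fun x hx y hy h =>
      klein_keys hs (hn a ma) (hn b mb) (hn c mc) (hno a ma b mb hab) (hno a ma c mc hac)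
        (hno b mb c mc hbc) hx hy (congrArg Prod.fst h) (congrArg Prod.snd h)
    have hK'inj : ∀ x ∈ t, ∀ y ∈ t, K' x = K' y → x = y := fun x hx y hy h =>
      klein_keys ht (hm a ma) (hm b mb) (hm c mc) (hmo a ma b mb hab) (hmo a ma c mc hac)
        (hmo b mb c mc hbc) hx hy (congrArg Prod.fst h) (congrArg Prod.snd h)
    have hvals : s.image K = ({1, -1} : Finset ℤ) ×ˢ ({1, -1} : Finset ℤ) := by
      refine Finset.eq_of_subset_of_card_le ?_ ?_
      · intro v hv
        obtain ⟨x, hx, rfl⟩ := Finset.mem_image.mp hv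
        rcases hn a ma x hx with h | h <;> rcases hn b mb x hx with h' | h' <;>
          rcases hn c mc x hx with h'' | h'' <;> simp [K, h, h', h'']
      · rw [Finset.card_image_of_injOn fun x hx y hy h => hKinj x hx y hy h, hs]
        rfl
    have hex : ∀ y ∈ t, ∃ x ∈ s, K x = K' y := fun y hy => by
      have : K' y ∈ s.image K := by
        rw [hvals]
        rcases hm a ma y hy with h | h <;> rcases hm b mb y hy with h' | h' <;>
          rcases hm c mc y hy with h'' | h'' <;> simp [K', h, h', h'']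
      exact Finset.mem_image.mp this
    choose! I hI hKI using hex
    refine ⟨I, fun y => n c (I y) * m c y, fin I hI (fun u hu v hv h => hK'inj u hu v hv
      (by rw [← hKI u hu, ← hKI v hv, h])), fun y hy => ?_, fun r hr y hy => ?_⟩
    · rcases hn c mc (I y) (hI y hy) with h | h <;> rcases hm c mc y hy with h' | h' <;> simp [h, h']
    · have h1 : n a (I y) * n c (I y) = m a y * m c y := congrArg Prod.fst (hKI y hy)
      have h2 : n b (I y) * n c (I y) = m b y * m c y := congrArg Prod.snd (hKI y hy)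
      have hc1 := sq (hn c mc (I y) (hI y hy))
      simp only [Finset.mem_insert, Finset.mem_singleton] at hr
      rcases hr with rfl | rfl | rfl
      · linear_combination (n r (I y)) * hc1 - n c (I y) * h1
      · linear_combination (n r (I y)) * hc1 - n c (I y) * h2
      · linear_combination n r (I y) * sq (hm r mc y hy)

variable {M : Ideal AlgInt} [M.IsPrime] {G : Type*} [Group G] [Fintype G] {P : Subgroup G}
  {c : Set (IrrCharacter (Subgroup.centralizer (P : Set G)))} {B : Set (IrrCharacter G)}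
  [DecidablePred (· ∈ B)]

/-- The columns of signs of a Klein four block. -/
theorem klein_signs (hM : IsPModular 2 M) (hmax : IsMaximalBrauerPair 2 M B P c)
    (hV : IsKleinFour P)
    (hm : ¬ 2 ∣ (Subgroup.centralizer (P : Set G)).relIndex (blockT P c)) {R : Finset G}
    (hR : IsReps P c R) :
    ∃ n : G → IrrCharacter G → ℤ, (∀ r ∈ R, ∀ χ, col 2 M P c r χ = (n r χ : ℂ)) ∧
      (∀ r ∈ R, ∀ χ ∈ Finset.univ.filter (· ∈ B), n r χ = 1 ∨ n r χ = -1) ∧
      (Finset.univ.filter (· ∈ B) : Finset (IrrCharacter G)).card = 4 ∧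
      (R.card = 1 ∨ R.card = 3) ∧
      R.card * (Subgroup.centralizer (P : Set G)).relIndex (blockT P c) = 3 ∧
      ∀ r ∈ R, ∀ r' ∈ R, r ≠ r' →
        ∑ χ ∈ Finset.univ.filter (· ∈ B), n r χ * n r' χ = 0 := by
  classical
  have hfree := klein_free hV hm
  have hab := klein_comm hV
  obtain ⟨he, hk, -, hcol⟩ := klein_data hM hmax hV hm
  have hRe := card_reps hM hmax hab hfree hR
  rw [hV.card_four] at hRe
  choose n hn using fun (r : R) χ =>
    col_int hM hmax hab hfree (hR.mem r r.2).1 (klein_sq hV (hR.mem r r.2).1) χ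
  let N : G → IrrCharacter G → ℤ := fun r χ => if h : r ∈ R then n ⟨r, h⟩ χ else 0
  have hN : ∀ r ∈ R, ∀ χ, col 2 M P c r χ = (N r χ : ℂ) := fun r hr χ => by
    simp only [N, dif_pos hr]; exact hn ⟨r, hr⟩ χ
  refine ⟨N, hN, fun r hr χ hχ => ?_, ?_, ?_, hRe, fun r hr r' hr' hne => ?_⟩
  · have h := hcol r (hR.mem r hr).1 (hR.mem r hr).2 χ (Finset.mem_filter.mp hχ).2
    rw [hN r hr] at h
    exact_mod_cast h
  · rw [← hk, Nat.card_eq_fintype_card, Fintype.card_subtype]
  · rcases he with h | h <;> rw [h] at hRe <;> omega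
  · have h := col_orth hM hmax hab hfree (hR.mem r hr).1 (hR.mem r hr).2 (hR.mem r' hr').1
      (hR.mem r' hr').2 fun y hy e => hne (hR.uniq r hr r' hr' ⟨y, hy, e⟩)
    simp only [hN r hr, hN r' hr', map_intCast] at h
    exact_mod_cast h

/-- Two Klein four blocks with equal inertial index are perfectly isometric. -/
theorem klein_isometry {H : Type*} [Group H] [Fintype H] {P' : Subgroup H}
    {c' : Set (IrrCharacter (Subgroup.centralizer (P' : Set H)))} {B' : Set (IrrCharacter H)}
    (hM : IsPModular 2 M) (hmax : IsMaximalBrauerPair 2 M B P c) (hV : IsKleinFour P)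
    (hm : ¬ 2 ∣ (Subgroup.centralizer (P : Set G)).relIndex (blockT P c))
    (hmax' : IsMaximalBrauerPair 2 M B' P' c') (hV' : IsKleinFour P')
    (he : (Subgroup.centralizer (P' : Set H)).relIndex (blockT P' c') =
      (Subgroup.centralizer (P : Set G)).relIndex (blockT P c)) :
    ∃ (I : IrrCharacter H → IrrCharacter G) (ε : IrrCharacter H → ℤ),
      IsPerfectIsometry 2 M B' B I ε := by
  classical
  have hm' : ¬ 2 ∣ (Subgroup.centralizer (P' : Set H)).relIndex (blockT P' c') := he ▸ hm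
  obtain ⟨R, hR⟩ := exists_isReps (P := P) (c := c)
  obtain ⟨R', hR'⟩ := exists_isReps (P := P') (c := c')
  obtain ⟨n, hn, hn1, hns, -, hRc, hno⟩ := klein_signs hM hmax hV hm hR
  obtain ⟨m, hm0, hm1, hms, hR3, hRc', hmo⟩ := klein_signs hM hmax' hV' hm' hR'
  have hcard : R'.card = R.card := by
    rw [he] at hRc'
    exact Nat.eq_of_mul_eq_mul_right (Nat.pos_of_ne_zero fun h => by
      rw [h] at hRc; simp at hRc) (hRc'.trans hRc.symm)
  let f := Finset.equivOfCardEq hcard
  let σ : H → G := fun h => if hh : h ∈ R' then (f ⟨h, hh⟩ : G) else 1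
  have hσ : ∀ r, ∀ h : r ∈ R', σ r = f ⟨r, h⟩ := fun r h => by simp only [σ, dif_pos h]
  have hσb : Set.BijOn σ (R' : Set H) (R : Set G) := by
    refine ⟨fun r hr => ?_, fun a ha b hb h => ?_, fun r hr => ?_⟩
    · rw [hσ r hr]; exact (f ⟨r, hr⟩).2
    · rw [hσ a ha, hσ b hb] at h
      exact congrArg Subtype.val (f.injective (Subtype.ext h))
    · refine ⟨(f.symm ⟨r, hr⟩ : H), (f.symm ⟨r, hr⟩).2, ?_⟩
      rw [hσ _ (f.symm ⟨r, hr⟩).2]
      simp
  obtain ⟨I, ε, hI, hε, hcols⟩ := exists_signed_match hns hms hR3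
    (n := fun r => n (σ r)) (m := m) (fun r hr => hn1 _ (hσb.mapsTo hr)) hm1
    (fun r hr r' hr' hne => hno _ (hσb.mapsTo hr) _ (hσb.mapsTo hr')
      fun h => hne (hσb.injOn hr hr' h)) hmo
  refine ⟨I, ε, isPerfectIsometry_of_cols hM hmax (klein_comm hV) (klein_free hV hm) hmax'
    (klein_comm hV') (klein_free hV' hm') hR hR' hσb ?_ (fun η hη => hε η (by simpa using hη))
    fun r hr η hη => ?_⟩
  · simpa using hI
  · rw [hm0 r hr, hn _ (hσb.mapsTo hr), ← Int.cast_mul, hcols r hr η (by simpa using hη)]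

end CfsgLib.Blocks.FreeQuot
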