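import Cfsg.Agent.Lib.Blocks.PairVal
import Cfsg.Agent.Lib.Blocks.FreeQuotient.Free
import Cfsg.Agent.Lib.Char.MeanValueVirtual

/-!
# Products of two columns are generalized characters of the defect group

The action of stable generalized characters of `P` on characters of the block shows that for
members `χ` and `ψ` of the block the function `u ↦ col u χ * conj (col u ψ)` off the identity is
the restriction of a generalized character of `P`.
-/

set_option autoImplicit false
set_option linter.unusedSectionVars false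

namespace CfsgLib.Blocks.FreeQuot

open Cfsg
open scoped ComplexConjugate CfsgLib.Char

variable {p : ℕ} {M : Ideal AlgInt} [M.IsPrime] {G : Type*} [Group G] [Fintype G] {P : Subgroup G}
  {c : Set (IrrCharacter (Subgroup.centralizer (P : Set G)))} {B : Set (IrrCharacter G)}

/-! ### The automorphisms of `P` induced by the stabilizer -/

variable (P c) in
theorem conj_mem_of_blockT {y u : G} (hy : y ∈ blockT P c) (hu : u ∈ P) : y * u * y⁻¹ ∈ P :=
  (Subgroup.mem_normalizer_iff.mp (blockT_le_normalizer hy) u).mp hu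

variable (P c) in
/-- The action of the stabilizer on `P`. -/
def autT : blockT P c →* MulAut P where
  toFun y :=
    { toFun := fun u => ⟨(y : G) * u * (y : G)⁻¹, conj_mem_of_blockT P c y.2 u.2⟩
      invFun := fun u => ⟨(y : G)⁻¹ * u * (y : G)⁻¹⁻¹, conj_mem_of_blockT P c (inv_mem y.2) u.2⟩
      left_inv := fun u => Subtype.ext (show (y : G)⁻¹ * ((y : G) * u * (y : G)⁻¹) * (y : G)⁻¹⁻¹ = u
        by group)
      right_inv := fun u => Subtype.ext (show (y : G) * ((y : G)⁻¹ * u * (y : G)⁻¹⁻¹) * (y : G)⁻¹ = u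
        by group)
      map_mul' := fun u v => Subtype.ext (show (y : G) * ((u : G) * v) * (y : G)⁻¹ =
        (y : G) * u * (y : G)⁻¹ * ((y : G) * v * (y : G)⁻¹) by group) }
  map_one' := by
    ext u
    show (1 : G) * u * (1 : G)⁻¹ = u
    group
  map_mul' y z := by
    ext u
    show ((y : G) * z) * u * ((y : G) * z)⁻¹ = (y : G) * ((z : G) * u * (z : G)⁻¹) * (y : G)⁻¹
    group

theorem autT_apply (y : blockT P c) (u : P) :
    ((autT P c y u : P) : G) = (y : G) * u * (y : G)⁻¹ := rfl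

variable (P c) in
/-- The inertial quotient as automorphisms of `P`. -/
def inertAut : Subgroup (MulAut P) := (autT P c).range

theorem exists_of_mem_inertAut {w : MulAut P} (hw : w ∈ inertAut P c) :
    ∃ y ∈ blockT P c, ∀ u : P, ((w u : P) : G) = y * u * y⁻¹ := by
  obtain ⟨y, rfl⟩ := hw
  exact ⟨y, y.2, fun u => autT_apply y u⟩

theorem autT_mem {y : G} (hy : y ∈ blockT P c) : autT P c ⟨y, hy⟩ ∈ inertAut P c := ⟨_, rfl⟩

theorem ker_autT : (autT P c).ker = (Subgroup.centralizer (P : Set G)).subgroupOf (blockT P c) := by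
  ext y
  rw [MonoidHom.mem_ker, Subgroup.mem_subgroupOf, Subgroup.mem_centralizer_iff]
  constructor
  · intro h u hu
    have := congrArg (fun w : MulAut P => ((w ⟨u, hu⟩ : P) : G)) h
    simp only [MulAut.one_apply, autT_apply] at this
    exact (mul_inv_eq_iff_eq_mul.mp this).symm
  · intro h
    ext u
    rw [autT_apply, MulAut.one_apply, ← h u u.2, mul_inv_cancel_right]

theorem card_inertAut :
    Nat.card (inertAut P c) = (Subgroup.centralizer (P : Set G)).relIndex (blockT P c) := by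
  rw [Subgroup.relIndex, ← ker_autT, Subgroup.index_ker]
  rfl

theorem inertAut_free (hfree : ∀ g ∈ blockT P c, ∀ x ∈ P, x ≠ 1 → g * x * g⁻¹ = x →
    g ∈ Subgroup.centralizer (P : Set G)) :
    ∀ w ∈ inertAut P c, w ≠ 1 → ∀ x, w x = x → x = 1 := by
  rintro _ ⟨y, rfl⟩ hw x hx
  by_contra hx1
  refine hw (MonoidHom.mem_ker.mp ?_)
  rw [ker_autT, Subgroup.mem_subgroupOf]
  exact hfree y y.2 x x.2 (fun h => hx1 (Subtype.ext h)) (congrArg Subtype.val hx)

noncomputable local instance fintypeInertAut : Fintype (inertAut P c) := Fintype.ofFinite _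

variable [DecidablePred (· ∈ B)]

theorem col_inertAut (hM : IsPModular p M) (hPe : IsBrauerPair p M P c) {w : MulAut P}
    (hw : w ∈ inertAut P c) (u : P) (χ : IrrCharacter G) :
    col p M P c ((w u : P) : G) χ = col p M P c (u : G) χ := by
  obtain ⟨y, hy, hyu⟩ := exists_of_mem_inertAut hw
  rw [hyu u, col_blockT hM hPe hy u.2]

/-! ### Weights from stable functions -/

variable (p M P c) in
/-- Stable under the maps of the pairs below `(P, c)`. -/
def IsCarriesStable (f : G → ℂ) : Prop :=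
  ∀ (g : G) (Q : Subgroup G), Carries p M P c g Q → ∀ y ∈ Q, f (g * y * g⁻¹) = f y

theorem pairVal_of_le_stable {f : G → ℂ} (hf : IsCarriesStable p M P c f) {u x : G}
    {a : BrauerPairIdx G} (hu : u ∈ a.1) (hx : PairLE p M (conjPair x a) ⟨P, c⟩) :
    pairVal p M c f u a = f (x * u * x⁻¹) := by
  have h : ∃ y : G, PairLE p M (conjPair y a) ⟨P, c⟩ := ⟨x, hx⟩
  rw [pairVal, dif_pos h]
  have hc : Carries p M P c (h.choose * x⁻¹) (conjPair x a).1 :=
    ⟨(conjPair x a).2, hx, by
      show PairLE p M (conjPair (h.choose * x⁻¹) (conjPair x a)) _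
      rw [conjPair_conjPair, inv_mul_cancel_right]
      exact h.choose_spec⟩
  rw [← hf _ _ hc (x * u * x⁻¹) ⟨u, hu, rfl⟩]
  congr 1
  group

theorem isPairWeight_pairVal_stable (hM : IsPModular p M) (hmax : IsMaximalBrauerPair p M B P c)
    {f : G → ℂ} (hf : IsCarriesStable p M P c f)
    (hgen : IsGeneralizedCharacter ↥P (fun y : ↥P => f y)) :
    IsPairWeight p M (pairVal p M c f) := by
  refine ⟨fun x u a hu => ?_, fun Q g hQg => ?_⟩
  · by_cases h : ∃ y : G, PairLE p M (conjPair y a) ⟨P, c⟩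
    · obtain ⟨y, hy⟩ := h
      have hy' : PairLE p M (conjPair (y * x⁻¹) (conjPair x a)) ⟨P, c⟩ := by
        rwa [conjPair_conjPair, inv_mul_cancel_right]
      rw [pairVal_of_le_stable hf hu hy, pairVal_of_le_stable hf
        (show x * u * x⁻¹ ∈ (conjPair x a).1 from ⟨u, hu, rfl⟩) hy']
      congr 1
      group
    · rw [pairVal_of_none f u h, pairVal_of_none]
      rintro ⟨y, hy⟩
      exact h ⟨y * x, by rwa [← conjPair_conjPair]⟩
  · by_cases h : ∃ x : G, PairLE p M (conjPair x ⟨Q, g⟩) ⟨P, c⟩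
    · obtain ⟨x, hx⟩ := h
      right
      have hQP : ∀ u : Q, x * (u : G) * x⁻¹ ∈ P := fun u => PairLE.fst_le hx ⟨u, u.2, rfl⟩
      refine ⟨fun u => f (x * (u : G) * x⁻¹), Char.isGeneralized_comp
        (((MulAut.conj x).toMonoidHom.comp Q.subtype).codRestrict P fun u => hQP u) hgen,
        fun u d hd => ?_⟩
      exact pairVal_of_le_stable hf (Subgroup.mem_zpowers (u : G))
        ((subpairLE_conjPair x hd).trans hx)
    · left
      intro u hu d hd
      refine pairVal_of_none f u fun hg => h ?_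
      exact (exists_conj_le_top_iff hM hmax).mpr ((SubpairLE.isBrauerPairOf_iff hM hd
        hmax.1.2.1).mpr ((exists_conj_le_top_iff hM hmax).mp hg))

theorem starChar_const_one (hM : IsPModular p M) {χ : G → ℂ} (hχ : IsClassFunction G χ) :
    starChar p M χ (fun _ _ => 1) = χ := by
  classical
  funext g
  obtain ⟨u, r, h, rfl⟩ := exists_sectionPoint (p := p) hM.1 g
  rw [starChar_eq hM.1 _ _ h, starPart_one hχ _ h, subBlocks_eq]
  simp only [one_mul]
  exact sum_blockPart (isClassFunction_sect hχ u) ⟨r, mem_centralizer_zpowers h.comm⟩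

section Main

variable (hM : IsPModular p M) (hmax : IsMaximalBrauerPair p M B P c)
  (hab : ∀ x ∈ P, ∀ y ∈ P, x * y = y * x)
  (hfree : ∀ g ∈ blockT P c, ∀ x ∈ P, x ≠ 1 → g * x * g⁻¹ = x →
    g ∈ Subgroup.centralizer (P : Set G))
include hM hmax hab hfree

open Classical in
/-- A sum over the pairs of the block as a sum over `P`. -/
theorem sum_pairs_free (Φ : G → BrauerPairIdx G → ℂ)
    (hconj : ∀ (x v : G) (a : BrauerPairIdx G), v ∈ a.1 → IsPBlock M a.2 →
      Φ (x * v * x⁻¹) (conjPair x a) = Φ v a)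
    (hnone : ∀ (v : G) (b : Set (IrrCharacter (cz v))), (∃ k : ℕ, orderOf v = p ^ k) →
      IsPBlock M b → ¬ IsBrauerPairOf p M B (Subgroup.zpowers v) b →
        Φ v ⟨Subgroup.zpowers v, b⟩ = 0)
    (hone : Φ 1 (topPair p M P c 1) = 0) :
    (Nat.card (inertAut P c) : ℂ) * ∑ v : G with ∃ k : ℕ, orderOf v = p ^ k,
        ∑ b ∈ subBlocks M (cz v), Φ v ⟨Subgroup.zpowers v, b⟩ =
      (Nat.card G : ℂ) * ∑ u : ↥P,
        Φ (u : G) (topPair p M P c (u : G)) / (Nat.card (cz (u : G)) : ℂ) := by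
  have hPe := hmax.1.1
  let g : G × ↥P → G × BrauerPairIdx G := fun i =>
    (i.1 * (i.2 : G) * i.1⁻¹, conjPair i.1 (topPair p M P c (i.2 : G)))
  have hblock : ∀ u : ↥P, IsPBlock M (topPair p M P c (u : G)).2 := fun u =>
    (SubpairLE.isBrauerPair (topPair_le hM hPe u.2) hPe).2
  have hpair : ∀ u : ↥P, IsBrauerPairOf p M B (topPair p M P c (u : G)).1
      (topPair p M P c (u : G)).2 := fun u =>
    (exists_conj_le_top_iff hM hmax).mp ⟨1, by rw [conjPair_one]; exact topPair_le hM hPe u.2⟩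
  have hT : ∑ v : G with ∃ k : ℕ, orderOf v = p ^ k,
      ∑ b ∈ subBlocks M (cz v), Φ v ⟨Subgroup.zpowers v, b⟩ =
        ∑ d ∈ Finset.univ.image g, Φ d.1 d.2 := by
    rw [Finset.sum_sigma', ← Finset.sum_filter_of_ne (p := fun σ : (v : G) ×
      Set (IrrCharacter (cz v)) => IsBrauerPairOf p M B (Subgroup.zpowers σ.1) σ.2) fun σ hσ h => by
        by_contra hn
        obtain ⟨h1, h2⟩ := Finset.mem_sigma.mp hσ
        exact h (hnone _ _ (Finset.mem_filter.mp h1).2 (mem_subBlocks.mp h2) hn)]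
    refine Finset.sum_bij (fun σ _ => (σ.1, (⟨Subgroup.zpowers σ.1, σ.2⟩ : BrauerPairIdx G)))
      ?_ ?_ ?_ (fun _ _ => rfl)
    · rintro ⟨v, b⟩ hσ
      obtain ⟨-, hp'⟩ := Finset.mem_filter.mp hσ
      obtain ⟨x, hx⟩ := (exists_conj_le_top_iff hM hmax (a := ⟨Subgroup.zpowers v, b⟩)).mpr hp'
      have hxv : x * v * x⁻¹ ∈ P := PairLE.fst_le hx ⟨v, Subgroup.mem_zpowers v, rfl⟩
      refine Finset.mem_image.mpr ⟨(x⁻¹, ⟨x * v * x⁻¹, hxv⟩), Finset.mem_univ _, ?_⟩
      refine Prod.ext ?_ ?_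
      · simp [g, mul_assoc]
      · show conjPair x⁻¹ (topPair p M P c (x * v * x⁻¹)) = _
        rw [← eq_topPair hM hPe hxv (map_zpowers_conj x v) hx, conjPair_conjPair, inv_mul_cancel,
          conjPair_one]
    · rintro ⟨v, b⟩ _ ⟨v', b'⟩ _ h
      obtain ⟨rfl, h2⟩ := Prod.mk.inj h
      obtain rfl := eq_of_heq (Sigma.mk.inj h2).2
      rfl
    · rintro d hd
      obtain ⟨⟨x, u⟩, -, rfl⟩ := Finset.mem_image.mp hd
      obtain ⟨b, hb⟩ : ∃ b : Set (IrrCharacter (cz (x * (u : G) * x⁻¹))),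
          conjPair x (topPair p M P c (u : G)) =
            (⟨Subgroup.zpowers (x * (u : G) * x⁻¹), b⟩ : BrauerPairIdx G) := by
        have h1 : (conjPair x (topPair p M P c (u : G))).1 =
            Subgroup.zpowers (x * (u : G) * x⁻¹) := by
          show (topPair p M P c (u : G)).1.map _ = _
          rw [topPair_fst, map_zpowers_conj]
        have key : ∀ (a : BrauerPairIdx G) (Q : Subgroup G), a.1 = Q → ∃ b, a = ⟨Q, b⟩ := by
          rintro ⟨R, f⟩ Q rfl
          exact ⟨f, rfl⟩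
        exact key _ _ h1
      have hp' := isBrauerPairOf_conjPair x (hpair u)
      rw [hb] at hp'
      refine ⟨⟨x * (u : G) * x⁻¹, b⟩, ?_, Prod.ext rfl hb.symm⟩
      refine Finset.mem_filter.mpr ⟨Finset.mem_sigma.mpr ⟨Finset.mem_filter.mpr
        ⟨Finset.mem_univ _, ?_⟩, mem_subBlocks.mpr hp'.1.2⟩, hp'⟩
      obtain ⟨k, hk⟩ := exists_pow_orderOf_mem hM hPe.1 u
      exact ⟨k, by rw [← hk]; exact (MulAut.conj x).orderOf_eq (u : G)⟩
  have he : (Nat.card (inertAut P c) : ℂ) ≠ 0 := Nat.cast_ne_zero.mpr Nat.card_pos.ne'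
  rw [hT, Finset.sum_image' (fun i : G × ↥P => (Nat.card (inertAut P c) : ℂ)⁻¹ *
    (Φ (i.2 : G) (topPair p M P c (i.2 : G)) / (Nat.card (cz (i.2 : G)) : ℂ))) fun i _ => ?_]
  · rw [Fintype.sum_prod_type]
    dsimp only
    rw [Finset.sum_const, Finset.card_univ, nsmul_eq_mul, ← Finset.mul_sum,
      Nat.card_eq_fintype_card (α := G)]
    field_simp
  -- one fibre
  obtain ⟨x₀, u₀⟩ := i
  have hgΦ : ∀ j : G × ↥P, Φ (g j).1 (g j).2 = Φ (j.2 : G) (topPair p M P c (j.2 : G)) := fun j =>
    hconj j.1 _ _ (mem_topPair _) (hblock _)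
  rw [hgΦ]
  rcases eq_or_ne u₀ 1 with rfl | hu₀
  · rw [Subgroup.coe_one, hone]
    refine (Finset.sum_eq_zero fun j hj => ?_).symm
    have h := congrArg Prod.fst (Finset.mem_filter.mp hj).2
    simp only [g, Subgroup.coe_one, mul_one, mul_inv_cancel] at h
    rw [conj_eq_one_iff.mp h, hone, zero_div, mul_zero]
  choose y hy hyv using fun w : inertAut P c => exists_of_mem_inertAut (P := P) (c := c) w.2
  let ψ : cz (u₀ : G) × inertAut P c → G × ↥P := fun t =>
    (x₀ * (t.1 : G) * (y t.2)⁻¹, (t.2 : MulAut P) u₀)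
  have htop : ∀ w, conjPair (y w)⁻¹ (topPair p M P c (((w : MulAut P) u₀ : P) : G)) =
      topPair p M P c (u₀ : G) := by
    intro w
    refine eq_topPair hM hPe u₀.2 ?_ ?_
    · show (topPair p M P c (((w : MulAut P) u₀ : P) : G)).1.map _ = _
      rw [topPair_fst, map_zpowers_conj, hyv w u₀]
      congr 1
      group
    · have := subpairLE_conjPair (y w)⁻¹ (topPair_le hM hPe ((w : MulAut P) u₀).2)
      rwa [conjPair_top_blockT (inv_mem (hy w))] at this
  have hfib : Finset.univ.filter (fun j => g j = g (x₀, u₀)) = Finset.univ.image ψ := by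
    ext ⟨x, u⟩
    simp only [Finset.mem_filter, Finset.mem_univ, true_and, Finset.mem_image]
    constructor
    · intro h
      obtain ⟨h1, h2⟩ := Prod.mk.inj h
      have hc : Carries p M P c (x⁻¹ * x₀) (topPair p M P c (u₀ : G)).1 := by
        refine ⟨(topPair p M P c (u₀ : G)).2, topPair_le hM hPe u₀.2, ?_⟩
        show PairLE p M (conjPair (x⁻¹ * x₀) (topPair p M P c (u₀ : G))) _
        rw [← conjPair_conjPair, ← h2, conjPair_conjPair, inv_mul_cancel, conjPair_one]
        exact topPair_le hM hPe u.2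
      obtain ⟨z, hz, hzy⟩ := exists_blockT_agree hM hmax hab hc
      have h3 : x⁻¹ * x₀ * (u₀ : G) * (x⁻¹ * x₀)⁻¹ = (u : G) := by
        calc x⁻¹ * x₀ * (u₀ : G) * (x⁻¹ * x₀)⁻¹ = x⁻¹ * (x₀ * u₀ * x₀⁻¹) * x := by group
          _ = _ := by rw [← h1]; group
      have h4 := hzy _ (mem_topPair (u₀ : G))
      rw [h3] at h4
      set w : inertAut P c := ⟨autT P c ⟨z, hz⟩, autT_mem hz⟩
      have hw : (w : MulAut P) u₀ = u := Subtype.ext h4.symm
      have hmem : x₀⁻¹ * x * y w ∈ cz (u₀ : G) := by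
        rw [mem_cz_iff]
        have h5 : y w * (u₀ : G) * (y w)⁻¹ = (u : G) := by rw [← hyv w u₀, hw]
        calc x₀⁻¹ * x * y w * (u₀ : G) = x₀⁻¹ * x * (y w * u₀ * (y w)⁻¹) * y w := by group
          _ = x₀⁻¹ * x * (x⁻¹ * x₀ * (u₀ : G) * (x⁻¹ * x₀)⁻¹) * y w := by rw [h5, h3]
          _ = _ := by group
      refine ⟨(⟨_, hmem⟩, w), Prod.ext ?_ hw⟩
      show x₀ * (x₀⁻¹ * x * y w) * (y w)⁻¹ = x
      group
    · rintro ⟨⟨d, w⟩, h⟩
      obtain ⟨rfl, rfl⟩ := Prod.mk.inj h
      have hd := mem_cz_iff.mp d.2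
      refine Prod.ext ?_ ?_
      · show x₀ * (d : G) * (y w)⁻¹ * (((w : MulAut P) u₀ : P) : G) *
          (x₀ * (d : G) * (y w)⁻¹)⁻¹ = _
        rw [hyv w u₀, show x₀ * (d : G) * (y w)⁻¹ * (y w * (u₀ : G) * (y w)⁻¹) *
          (x₀ * (d : G) * (y w)⁻¹)⁻¹ = x₀ * ((d : G) * u₀ * (d : G)⁻¹) * x₀⁻¹ by group, hd,
          mul_inv_cancel_right]
      · show conjPair (x₀ * (d : G) * (y w)⁻¹) (topPair p M P c (((w : MulAut P) u₀ : P) : G)) =
          conjPair x₀ (topPair p M P c (u₀ : G))
        have hfix : conjPair (d : G) (topPair p M P c (u₀ : G)) = topPair p M P c (u₀ : G) := by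
          have key : ∀ A : BrauerPairIdx G, (d : G) ∈ Subgroup.centralizer (A.1 : Set G) →
              conjPair (d : G) A = A := by
            rintro ⟨Q, f⟩ hcQ
            rw [conjPair_of_mem_normalizer (Subgroup.centralizer_le_normalizer _ hcQ),
              conjSet_of_mem hcQ]
          exact key _ (by rw [topPair_fst]; exact d.2)
        rw [← conjPair_conjPair, htop, ← conjPair_conjPair, hfix]
  have hinj : Function.Injective ψ := by
    rintro ⟨d, w⟩ ⟨d', w'⟩ h
    obtain ⟨h1, h2⟩ := Prod.mk.inj h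
    obtain rfl : w = w' := by
      refine Subtype.ext ?_
      by_contra hne
      refine hu₀ (inertAut_free hfree ((w' : MulAut P)⁻¹ * w) (mul_mem (inv_mem w'.2) w.2)
        (fun e => hne (inv_mul_eq_one.mp e).symm) u₀ ?_)
      show (w' : MulAut P)⁻¹ ((w : MulAut P) u₀) = u₀
      rw [h2]
      exact (w' : MulAut P).symm_apply_apply u₀
    refine Prod.ext (Subtype.ext ?_) rfl
    exact mul_left_cancel (mul_right_cancel h1)
  rw [hfib, Finset.sum_image hinj.injOn, Finset.sum_congr rfl (g := fun _ =>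
    (Nat.card (inertAut P c) : ℂ)⁻¹ * (Φ (u₀ : G) (topPair p M P c (u₀ : G)) /
      (Nat.card (cz (u₀ : G)) : ℂ))) fun t _ => ?_]
  · have hne : (Nat.card (cz (u₀ : G)) : ℂ) ≠ 0 := Nat.cast_ne_zero.mpr Nat.card_pos.ne'
    rw [Finset.sum_const, Finset.card_univ, nsmul_eq_mul, ← Nat.card_eq_fintype_card, Nat.card_prod,
      Nat.cast_mul]
    field_simp
  · obtain ⟨d, w⟩ := t
    have hj : g (ψ (d, w)) = g (x₀, u₀) := by
      have h := Finset.mem_image_of_mem ψ (Finset.mem_univ (d, w))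
      rw [← hfib] at h
      exact (Finset.mem_filter.mp h).2
    rw [← hgΦ (ψ (d, w)), hj, hgΦ]
    congr 3
    show Nat.card (cz (((w : MulAut P) u₀ : P) : G)) = _
    rw [hyv w u₀]
    exact (Nat.card_congr ((MulAut.conj (y w)).toEquiv.subtypeEquiv fun z =>
      (cz_conj_iff (y w) (u₀ : G) z).symm)).symm

omit hab in
theorem topPair_eq_bk {u : G} (hu : u ∈ P) :
    topPair p M P c u = ⟨Subgroup.zpowers u, bk p M P c u⟩ :=
  (eq_topPair hM hmax.1.1 hu rfl (bk_le hM hmax.1.1 hu)).symm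

/-- The product of two parts, summed over the regular elements. -/
theorem pairSum_top (χ ψ : IrrCharacter G) {u : G} (hu : u ∈ P) (hu1 : u ≠ 1) :
    pairSum p M (χ : G → ℂ) (ψ : G → ℂ) u (topPair p M P c u) =
      col p M P c u χ * conj (col p M P c u ψ) * ((Nat.card (cz u) : ℂ) / (Nat.card P : ℂ)) := by
  classical
  have hb := bk_isBlock hM hmax.1.1 hu
  obtain ⟨huni, hcard⟩ := bk_uni_card hM hmax hab hfree hu hu1
  obtain ⟨ξ, hξ⟩ := IsPBlock.nonempty hb
  rw [topPair_eq_bk hM hmax hfree hu, pairSum_eq (irr_classFunction χ) (irr_classFunction ψ) u hb,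
    Finset.sum_congr rfl (g := fun s : cz u => col p M P c u χ * conj (col p M P c u ψ) *
      ((ξ : cz u → ℂ) s * conj ((ξ : cz u → ℂ) s))) fun s hs => ?_, ← Finset.mul_sum]
  swap
  · show blockPart _ (secFun (cz u) u (χ : G → ℂ)) s *
      conj (blockPart _ (secFun (cz u) u (ψ : G → ℂ)) s) = _
    rw [blockPart_secFun u huni hξ _ (Finset.mem_filter.mp hs).2,
      blockPart_secFun u huni hξ _ (Finset.mem_filter.mp hs).2, ← col_eq, ← col_eq, map_mul]
    ring
  congr 1
  have hrank := (blockRank_eq_one_of_nilpotent hM (isNilpotentBlock_of_free hM hmax hab hfree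
    (by simpa using hu1 : Subgroup.zpowers u ≠ ⊥) (bk_pairOf hM hmax hu))).1
  have h := card_mul_blockRank hM (IsPBlock.isBlockUnion hb)
  rw [hrank, Nat.cast_one, mul_one] at h
  rw [eq_div_iff (Nat.cast_ne_zero.mpr Nat.card_pos.ne'), h, Finset.sum_mul, Finset.sum_filter]
  refine Finset.sum_congr rfl fun s _ => ?_
  rw [sum_mem_eq_filter]
  split_ifs with hs
  · rw [Finset.sum_congr rfl (g := fun _ => (ξ : cz u → ℂ) s * conj ((ξ : cz u → ℂ) s)) fun η hη => by
        rw [regPart_of_regular hs, huni η (Finset.mem_filter.mp hη).2 ξ hξ s hs],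
      Finset.sum_const, nsmul_eq_mul, ← hcard, Nat.card_eq_fintype_card, Fintype.card_subtype]
    ring
  · exact (Finset.sum_eq_zero fun η _ => by rw [regPart_of_singular hs, zero_mul]).symm

/-- The product of two columns. -/
theorem exists_pairChar (χ ψ : IrrCharacter G) :
    ∃ g : P → ℂ, IsGeneralizedCharacter P g ∧
      ∀ u : P, u ≠ 1 → g u = col p M P c (u : G) χ * conj (col p M P c (u : G) ψ) := by
  classical
  have hPe := hmax.1.1
  have habP : ∀ a b : P, a * b = b * a := fun a b => Subtype.ext (hab _ a.2 _ b.2)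
  set a : P → ℂ := fun u => col p M P c (u : G) χ * conj (col p M P c (u : G) ψ) with hadef
  set g : P → ℂ := fun u => if u = 1 then -∑ v ∈ Finset.univ.erase 1, a v else a u with hg
  have hgsum : ∑ u, g u = 0 := by
    rw [← Finset.add_sum_erase _ _ (Finset.mem_univ (1 : P))]
    simp only [g, if_pos]
    rw [Finset.sum_congr rfl (g := a) fun v hv => if_neg (Finset.mem_erase.mp hv).1,
      neg_add_cancel]
  have hginv : ∀ w ∈ inertAut P c, ∀ u, g (w u) = g u := by
    intro w hw u
    rcases eq_or_ne u 1 with rfl | hu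
    · rw [map_one]
    · have hu' : w u ≠ 1 := fun h => hu (w.injective (h.trans (map_one w).symm))
      simp only [g, if_neg hu, if_neg hu', a, col_inertAut hM hPe hw]
  refine ⟨g, (Char.isGeneralized_iff_classInner fun v h => by rw [habP h v, mul_inv_cancel_right]).mpr
    fun lam => ?_, fun u hu => if_neg hu⟩
  -- the weight
  set f : G → ℂ := fun z => if h : z ∈ P then
    ∑ w : inertAut P c, (conj ((lam : P → ℂ) ((w : MulAut P) ⟨z, h⟩)) - 1) else 0 with hf
  have hfP : ∀ u : P, f u = ∑ w : inertAut P c, (conj ((lam : P → ℂ) ((w : MulAut P) u)) - 1) :=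
    fun u => dif_pos u.2
  have hst : IsCarriesStable p M P c f := by
    intro z Q hc v hv
    obtain ⟨t, ht, hty⟩ := exists_blockT_agree hM hmax hab hc
    rw [hty v hv, show v = ((⟨v, hc.le hv⟩ : P) : G) from rfl, ← autT_apply ⟨t, ht⟩, hfP, hfP]
    exact Fintype.sum_equiv (Equiv.mulRight (⟨_, autT_mem ht⟩ : inertAut P c)) _ _ fun w => rfl
  have hgen : IsGeneralizedCharacter P (fun u : P => f u) := by
    have h := Char.isGeneralized_sum (Finset.univ : Finset (inertAut P c))
      (fun w => fun u : P => conj ((lam : P → ℂ) ((w : MulAut P) u)) - 1) fun w _ =>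
        Char.isGeneralized_sub (Char.isGeneralized_comp (w : MulAut P).toMonoidHom
          (Char.isGeneralized_conj (Char.isGeneralized_of_isIrr lam.2))) Char.isGeneralized_one
    convert h using 1
    funext u
    rw [hfP, Finset.sum_apply]
  obtain ⟨n, hn⟩ := Char.exists_int_classInner (isGeneralized_starChar hM
    (Char.isCharacter_of_isIrr χ.2) (isPairWeight_pairVal_stable hM hmax hst hgen))
    (Char.isGeneralized_of_isIrr ψ.2)
  refine ⟨n, ?_⟩
  rw [← hn]
  conv_rhs => rw [← starChar_const_one (p := p) (M := M) hM (irr_classFunction ψ)]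
  rw [classInner_starChar hM (irr_classFunction χ) (irr_classFunction ψ)]
  simp only [map_one, mul_one]
  have hkey := sum_pairs_free hM hmax hab hfree
    (fun v b => pairVal p M c f v b * pairSum p M (χ : G → ℂ) (ψ : G → ℂ) v b)
    (fun x v b hv hbl => by
      rw [(isPairWeight_pairVal_stable hM hmax hst hgen).1 x v b hv,
        pairSum_conj (irr_classFunction χ) (irr_classFunction ψ) hv hbl x])
    (fun v b _ hbl hnp => by
      rw [pairVal_of_none, zero_mul]
      exact fun h => hnp ((exists_conj_le_top_iff hM hmax).mp h))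
    (by
      rw [pairVal_of_le_stable hst (mem_topPair (1 : G)) (x := 1)
        (by rw [conjPair_one]; exact topPair_le hM hPe (one_mem P))]
      simp only [inv_one, mul_one]
      rw [show (1 : G) = ((1 : P) : G) from rfl, hfP]
      simp [Char.degree_one_of_comm habP])
  have he : (Nat.card (inertAut P c) : ℂ) ≠ 0 := Nat.cast_ne_zero.mpr Nat.card_pos.ne'
  have hG : (Nat.card G : ℂ) ≠ 0 := Nat.cast_ne_zero.mpr Nat.card_pos.ne'
  refine mul_left_cancel₀ (mul_ne_zero he hG) ?_
  rw [mul_assoc _ (Nat.card G : ℂ) ((Nat.card G : ℂ)⁻¹ * _), mul_inv_cancel_left₀ hG, hkey,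
    mul_right_comm, mul_comm _ (Nat.card G : ℂ)]
  congr 1
  have hterm : ∀ u : P, pairVal p M c f (u : G) (topPair p M P c (u : G)) *
      pairSum p M (χ : G → ℂ) (ψ : G → ℂ) (u : G) (topPair p M P c (u : G)) /
        (Nat.card (cz (u : G)) : ℂ) = (Nat.card P : ℂ)⁻¹ * (f u * g u) := by
    intro u
    rw [pairVal_of_le_stable hst (mem_topPair (u : G)) (x := 1)
      (by rw [conjPair_one]; exact topPair_le hM hPe u.2), show 1 * (u : G) * 1⁻¹ = u by simp]
    rcases eq_or_ne u 1 with rfl | hu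
    · rw [hfP]
      simp [Char.degree_one_of_comm habP]
    · rw [pairSum_top hM hmax hab hfree χ ψ u.2 fun h => hu (Subtype.ext h),
        show g u = a u from if_neg hu]
      have : (Nat.card (cz (u : G)) : ℂ) ≠ 0 := Nat.cast_ne_zero.mpr Nat.card_pos.ne'
      simp only [a]
      field_simp
  rw [Finset.sum_congr rfl fun u _ => hterm u, ← Finset.mul_sum, classInner, mul_left_comm]
  congr 1
  symm
  simp only [hfP, Finset.sum_mul]
  rw [Finset.sum_comm, Finset.sum_congr rfl (g := fun _ => ∑ u, g u * conj ((lam : P → ℂ) u))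
    fun w _ => ?_, Finset.sum_const, Finset.card_univ, nsmul_eq_mul, Nat.card_eq_fintype_card]
  rw [Finset.sum_congr rfl (g := fun u => g ((w : MulAut P) u) *
    conj ((lam : P → ℂ) ((w : MulAut P) u)) - g u) fun u _ => by rw [hginv _ w.2]; ring,
    Finset.sum_sub_distrib, hgsum, sub_zero]
  exact Fintype.sum_equiv (w : MulAut P).toEquiv _ _ fun u => rfl

end Main

end CfsgLib.Blocks.FreeQuot
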