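import Cfsg.Agent.Lib.Blocks.FreeQuotient.ColWeight
import Cfsg.Agent.Lib.Blocks.Integrality

/-!
# Blocks with as many characters as a weight allows

The bounds for the number of characters and the rank from a weight of the columns, and the values of
the columns, the relation on the regular elements and the congruences of degrees when the bound is
attained.
-/

set_option autoImplicit false
set_option linter.unusedSectionVars false

namespace CfsgLib.Blocks.FreeQuot

open Cfsg
open scoped ComplexConjugate CfsgLib.Char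

variable {p : ℕ} {M : Ideal AlgInt} [M.IsPrime] {G : Type*} [Group G] [Fintype G] {P : Subgroup G}
  {c : Set (IrrCharacter (Subgroup.centralizer (P : Set G)))} {B : Set (IrrCharacter G)}
  [DecidablePred (· ∈ B)] [Fintype P]

noncomputable local instance fintypeOrbitsP :
    Fintype (Quotient (orbitSetoid (A := P) (inertAut P c))) := Fintype.ofFinite _

noncomputable local instance fintypeAutsP : Fintype (inertAut P c) := Fintype.ofFinite _

variable (c) in
/-- The sum over an orbit of linear characters. -/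
noncomputable def orbChar (o : Quotient (orbitSetoid (A := P) (inertAut P c))) (u : P) : ℂ :=
  ∑ v : inertAut P c, (o.out.1 : P → ℂ) ((v : MulAut P) u)

variable (p M P c B) in
/-- The values of the weighted columns. -/
structure IsShape (ω : P → ℂ)
    (exc : Quotient (orbitSetoid (A := P) (inertAut P c)) ↪ {χ // χ ∈ B}) (δ : ℤ)
    (w : {χ // χ ∈ B} → ℤ) : Prop where
  sign : δ = 1 ∨ δ = -1
  card : Nat.card {i : {χ // χ ∈ B} // ∀ o, exc o ≠ i} = Nat.card (inertAut P c)
  rest_sign : ∀ i, (∀ o, exc o ≠ i) → w i = 1 ∨ w i = -1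
  rest : ∀ i, (∀ o, exc o ≠ i) → ∀ u : P, u ≠ 1 → ω u * col p M P c (u : G) i.1 = (w i : ℂ)
  exc_val : ∀ o (u : P), u ≠ 1 → ω u * col p M P c (u : G) (exc o).1 = (δ : ℂ) * orbChar c o u

section Main

variable (hM : IsPModular p M) (hmax : IsMaximalBrauerPair p M B P c)
  (hab : ∀ x ∈ P, ∀ y ∈ P, x * y = y * x)
  (hfree : ∀ g ∈ blockT P c, ∀ x ∈ P, x ≠ 1 → g * x * g⁻¹ = x →
    g ∈ Subgroup.centralizer (P : Set G))
include hM hmax hab hfree

omit hfree in
theorem one_lt_card_of_ne_bot (hP1 : P ≠ ⊥) : 1 < Nat.card P :=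
  P.one_lt_card_iff_ne_bot.mpr hP1

variable {ω : P → ℂ}

/-- The bounds. -/
theorem counts_le (hP1 : P ≠ ⊥) (hω : IsColWeight p M P c ω) {R : Finset G} (hR : IsReps P c R) :
    Nat.card B ≤ Nat.card (inertAut P c) + R.card ∧
      blockRank p B ≤ Nat.card (inertAut P c) ∧
      (Nat.card B = Nat.card (inertAut P c) + R.card ↔
        blockRank p B = Nat.card (inertAut P c)) := by
  classical
  have habP : ∀ a b : P, a * b = b * a := fun a b => Subtype.ext (hab _ a.2 _ b.2)
  obtain ⟨F, L, -⟩ := exists_lattice hM hmax hab hfree hP1 hω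
  have hle := L.card_le habP (one_lt_card_of_ne_bot hM hmax hab hP1)
  rw [card_orbits_eq hM hmax hab hfree hR L] at hle
  have hk := card_eq_rank_add hM hmax hab hfree hR
  have hcard : Nat.card B = Fintype.card {χ // χ ∈ B} := Nat.card_eq_fintype_card
  omega

/-- With at most three automorphisms the bound is attained but for three orders. -/
theorem counts_eq_of_small (hP1 : P ≠ ⊥) (hω : IsColWeight p M P c ω) {R : Finset G}
    (hR : IsReps P c R) (he : Nat.card (inertAut P c) ≤ 3) (hrank : 0 < blockRank p B) :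
    Nat.card B = Nat.card (inertAut P c) + R.card ∨
      Nat.card P = 7 ∨ Nat.card P = 10 ∨ Nat.card P = 13 := by
  classical
  have habP : ∀ a b : P, a * b = b * a := fun a b => Subtype.ext (hab _ a.2 _ b.2)
  obtain ⟨F, L, -⟩ := exists_lattice hM hmax hab hfree hP1 hω
  have hk := card_eq_rank_add hM hmax hab hfree hR
  have hcard : Nat.card B = Fintype.card {χ // χ ∈ B} := Nat.card_eq_fintype_card
  have h := L.card_eq_of_small habP (one_lt_card_of_ne_bot hM hmax hab hP1) he (by
    rw [card_orbits_eq hM hmax hab hfree hR L]; omega)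
  rw [card_orbits_eq hM hmax hab hfree hR L] at h
  omega

/-- The shape. -/
theorem exists_shape (hP1 : P ≠ ⊥) (hω : IsColWeight p M P c ω) {R : Finset G}
    (hR : IsReps P c R) (heq : Nat.card B = Nat.card (inertAut P c) + R.card) :
    ∃ exc δ w, IsShape p M P c B ω exc δ w := by
  classical
  have habP : ∀ a b : P, a * b = b * a := fun a b => Subtype.ext (hab _ a.2 _ b.2)
  obtain ⟨F, L, hF⟩ := exists_lattice hM hmax hab hfree hP1 hω
  obtain ⟨exc, δ, w, hδ, hcard, hrest, hexc⟩ := L.shape habP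
    (one_lt_card_of_ne_bot hM hmax hab hP1) (by
      rw [card_orbits_eq hM hmax hab hfree hR L, ← heq, Nat.card_eq_fintype_card])
  refine ⟨exc, δ, w, ⟨hδ, hcard, fun i hi => (hrest i hi).1, fun i hi u hu => ?_, fun o u hu => ?_⟩⟩
  · rw [← hF i u hu, (hrest i hi).2 u hu]
  · rw [← hF (exc o) u hu, hexc o u hu]
    rfl

omit hM hmax hfree in
theorem orbChar_sum (hfree' : ∀ w ∈ inertAut P c, w ≠ 1 → ∀ x, w x = x → x = 1) {u : P}
    (hu : u ≠ 1) : ∑ o, orbChar c o u = -1 := by
  classical
  have habP : ∀ a b : P, a * b = b * a := fun a b => Subtype.ext (hab _ a.2 _ b.2)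
  have h := Char.sum_degree_mul_irr u
  simp only [Char.degree_one_of_comm habP, one_mul, if_neg hu] at h
  rw [← Finset.add_sum_erase _ _ (Finset.mem_univ (trivIrr P)),
    show (trivIrr P : P → ℂ) u = 1 from rfl, add_eq_zero_iff_eq_neg'] at h
  simp only [orbChar]
  rw [← h, ← Fintype.sum_prod_type']
  refine Finset.sum_bij (fun z _ => twistIrr z.2 z.1.out.1) (fun z _ => ?_) ?_ ?_ fun z _ => rfl
  · refine Finset.mem_erase.mpr ⟨fun h => z.1.out.2 ?_, Finset.mem_univ _⟩
    have := congrArg (twistIrr (z.2 : MulAut P)⁻¹) h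
    rwa [← twistIrr_mul, mul_inv_cancel, twistIrr_one, twistIrr_trivIrr] at this
  · rintro ⟨o, v⟩ _ ⟨o', x⟩ _ h'
    obtain rfl : o = o' := by
      rw [← o.out_eq, ← o'.out_eq]
      refine Quotient.sound (show (orbitSetoid (A := P) (inertAut P c)).r o.out o'.out from
        ⟨v * (x : MulAut P)⁻¹, mul_mem v.2 (inv_mem x.2), ?_⟩)
      rw [twistIrr_mul, h', ← twistIrr_mul, mul_inv_cancel, twistIrr_one]
    refine Prod.ext rfl (Subtype.ext ?_)
    by_contra hne
    refine o.out.2 (eq_trivIrr_of_twist_eq habP (hfree' ((v : MulAut P) * (x : MulAut P)⁻¹)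
      (mul_mem v.2 (inv_mem x.2)) fun e => hne (mul_inv_eq_one.mp e)) ?_)
    rw [twistIrr_mul, h', ← twistIrr_mul, mul_inv_cancel, twistIrr_one]
  · intro lam hlam
    obtain ⟨x, hx, h⟩ := Quotient.mk_out (s := orbitSetoid (A := P) (inertAut P c))
      ⟨lam, (Finset.mem_erase.mp hlam).1⟩
    exact ⟨(⟦⟨lam, (Finset.mem_erase.mp hlam).1⟩⟧, ⟨x, hx⟩), Finset.mem_univ _, h⟩

omit hM hmax hfree in
theorem orbChar_inner (hfree' : ∀ w ∈ inertAut P c, w ≠ 1 → ∀ x, w x = x → x = 1)
    (o o' : Quotient (orbitSetoid (A := P) (inertAut P c))) :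
    ∑ u, orbChar c o u * conj (orbChar c o' u) =
      open Classical in if o = o' then (Nat.card P : ℂ) * Nat.card (inertAut P c) else 0 := by
  classical
  have habP : ∀ a b : P, a * b = b * a := fun a b => Subtype.ext (hab _ a.2 _ b.2)
  have hP : (Nat.card P : ℂ) ≠ 0 := Nat.cast_ne_zero.mpr Nat.card_pos.ne'
  simp only [orbChar, map_sum, Finset.sum_mul_sum]
  rw [Finset.sum_comm, Finset.sum_congr rfl fun v _ => Finset.sum_comm]
  have hin : ∀ (v x : inertAut P c), ∑ u, (o.out.1 : P → ℂ) ((v : MulAut P) u) *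
      conj ((o'.out.1 : P → ℂ) ((x : MulAut P) u)) =
        if twistIrr (v : MulAut P) o.out.1 = twistIrr (x : MulAut P) o'.out.1 then (Nat.card P : ℂ)
          else 0 := fun v x => by
    have h := Char.classInner_coe (twistIrr (v : MulAut P) o.out.1) (twistIrr (x : MulAut P) o'.out.1)
    rw [classInner, inv_mul_eq_iff_eq_mul₀ hP] at h
    simp only [twistIrr_apply] at h
    rw [h]
    split_ifs <;> simp
  simp only [hin]
  split_ifs with ho
  · subst ho
    rw [Finset.sum_congr rfl (g := fun _ => (Nat.card P : ℂ)) fun v _ => ?_, Finset.sum_const,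
      Finset.card_univ, nsmul_eq_mul, Nat.card_eq_fintype_card (α := inertAut P c), mul_comm]
    rw [Finset.sum_eq_single v (fun x _ hx => if_neg fun h => hx ?_) (fun h => absurd (Finset.mem_univ _) h),
      if_pos rfl]
    refine Subtype.ext ?_
    by_contra hne
    refine o.out.2 (eq_trivIrr_of_twist_eq habP (hfree' ((x : MulAut P) * (v : MulAut P)⁻¹)
      (mul_mem x.2 (inv_mem v.2)) fun e => hne (mul_inv_eq_one.mp e)) ?_)
    rw [twistIrr_mul, ← h, ← twistIrr_mul, mul_inv_cancel, twistIrr_one]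
  · refine Finset.sum_eq_zero fun v _ => Finset.sum_eq_zero fun x _ => if_neg fun h => ho ?_
    rw [← o.out_eq, ← o'.out_eq]
    refine Quotient.sound (show (orbitSetoid (A := P) (inertAut P c)).r o.out o'.out from
      ⟨v * (x : MulAut P)⁻¹, mul_mem v.2 (inv_mem x.2), ?_⟩)
    rw [twistIrr_mul, h, ← twistIrr_mul, mul_inv_cancel, twistIrr_one]

omit hM hmax hab hfree in
theorem sum_split (exc : Quotient (orbitSetoid (A := P) (inertAut P c)) ↪ {χ // χ ∈ B})
    (f : {χ // χ ∈ B} → ℂ) :
    ∑ i, f i = (∑ i : {χ // χ ∈ B} with (open Classical in ∀ o, exc o ≠ i), f i) +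
      ∑ o, f (exc o) := by
  classical
  rw [← Finset.sum_filter_add_sum_filter_not Finset.univ (fun i => ∀ o, exc o ≠ i)]
  congr 1
  rw [show (Finset.univ.filter fun i => ¬ ∀ o, exc o ≠ i) = Finset.univ.map exc by ext i; simp,
    Finset.sum_map]

omit hM hmax hab hfree in
theorem sum_members (f : IrrCharacter G → ℂ) :
    ∑ i : {χ // χ ∈ B}, f i.1 = ∑ χ : IrrCharacter G with χ ∈ B, f χ := by
  classical
  exact (Finset.sum_subtype _ (fun x => by simp) f).symm

variable {exc : Quotient (orbitSetoid (A := P) (inertAut P c)) ↪ {χ // χ ∈ B}} {δ : ℤ}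
  {w : {χ // χ ∈ B} → ℤ}

open Classical in
/-- The relation on the regular elements. -/
theorem IsShape.relation (S : IsShape p M P c B ω exc δ w) (hP1 : P ≠ ⊥) {g : G}
    (hg : IsPRegular p g) :
    (∀ o o', ((exc o).1 : G → ℂ) g = ((exc o').1 : G → ℂ) g) ∧
    ∀ o, (∑ i : {χ // χ ∈ B} with ∀ o', exc o' ≠ i, (w i : ℂ) * (i.1 : G → ℂ) g) =
      (δ : ℂ) * ((exc o).1 : G → ℂ) g := by
  have hfree' := inertAut_free (P := P) (c := c) hfree
  set K : ℂ := ∑ i : {χ // χ ∈ B} with ∀ o', exc o' ≠ i, (w i : ℂ) * (i.1 : G → ℂ) g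
  set y : Quotient (orbitSetoid (A := P) (inertAut P c)) → ℂ := fun o => ((exc o).1 : G → ℂ) g
  have hrel : ∀ u : P, u ≠ 1 → K + (δ : ℂ) * ∑ o, orbChar c o u * y o = 0 := by
    intro u hu
    have h := col_regular hM hmax hab hfree u.2 (fun e => hu (Subtype.ext e))
      ((regular_inv p g).mpr hg)
    have h' : ∑ i : {χ // χ ∈ B}, ω u * col p M P c (u : G) i.1 * (i.1 : G → ℂ) g = 0 := by
      rw [show ∑ i : {χ // χ ∈ B}, ω u * col p M P c (u : G) i.1 * (i.1 : G → ℂ) g = ω u *
          ∑ χ : IrrCharacter G with χ ∈ B, col p M P c (u : G) χ * conj ((χ : G → ℂ) g⁻¹) by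
        rw [← sum_members fun χ => col p M P c (u : G) χ * conj ((χ : G → ℂ) g⁻¹), Finset.mul_sum]
        exact Finset.sum_congr rfl fun i _ => by
          rw [← irr_value_inv i.1.2, inv_inv, mul_assoc], h, mul_zero]
    rw [sum_split exc, Finset.sum_congr rfl fun i hi => by
      rw [S.rest i (Finset.mem_filter.mp hi).2 u hu]] at h'
    rw [← h', Finset.mul_sum]
    congr 1
    exact Finset.sum_congr rfl fun o _ => by rw [S.exc_val o u hu, mul_assoc]
  obtain ⟨x, hx, hx1⟩ := P.bot_or_exists_ne_one.resolve_left hP1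
  have hu₀ : (⟨x, hx⟩ : P) ≠ 1 := fun e => hx1 (congrArg Subtype.val e)
  set e : ℂ := (Nat.card (inertAut P c) : ℂ)
  have he : e ≠ 0 := Nat.cast_ne_zero.mpr Nat.card_pos.ne'
  have habP : ∀ a b : P, a * b = b * a := fun a b => Subtype.ext (hab _ a.2 _ b.2)
  have hone : ∀ o, orbChar c o (1 : P) = e := fun o => by
    simp [orbChar, Char.degree_one_of_comm habP, e, Nat.card_eq_fintype_card]
  have hδ2 : (δ : ℂ) * δ = 1 := by rcases S.sign with h | h <;> simp [h]
  have key : ∀ o', (δ : ℂ) * ((Nat.card P : ℂ) * y o') = e * (δ : ℂ) * ∑ o, y o + K := by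
    intro o'
    have hz : ∑ u ∈ Finset.univ.erase (1 : P),
        conj (orbChar c o' u) * (K + (δ : ℂ) * ∑ o, orbChar c o u * y o) = 0 :=
      Finset.sum_eq_zero fun u hu => by rw [hrel u (Finset.mem_erase.mp hu).1, mul_zero]
    rw [Finset.sum_erase_eq_sub (Finset.mem_univ _), sub_eq_zero] at hz
    simp only [mul_add, Finset.sum_add_distrib, ← Finset.sum_mul, hone] at hz
    have h1 : ∑ u, conj (orbChar c o' u) = 0 := by
      rw [← map_sum]
      simp only [orbChar]
      rw [Finset.sum_comm, Finset.sum_eq_zero, map_zero]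
      intro v _
      have h := Char.classInner_coe (o'.out.1) (trivIrr P)
      rw [if_neg o'.out.2, classInner, mul_eq_zero] at h
      rcases h with h | h
      · exact absurd h (inv_ne_zero (Nat.cast_ne_zero.mpr Nat.card_pos.ne'))
      refine Eq.trans ?_ h
      refine Fintype.sum_equiv (v : MulAut P).toEquiv _ _ fun u => ?_
      show _ = (o'.out.1 : P → ℂ) ((v : MulAut P) u) * conj 1
      rw [map_one, mul_one]
    rw [h1, zero_mul, zero_add, show conj e = e from map_natCast _ _] at hz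
    have h2 : ∑ u, conj (orbChar c o' u) * ((δ : ℂ) * ∑ o, orbChar c o u * y o) =
        (δ : ℂ) * ((Nat.card P : ℂ) * e * y o') := by
      simp only [Finset.mul_sum]
      rw [Finset.sum_comm, Finset.sum_eq_single o' (fun o _ ho => ?_)
        (fun h => absurd (Finset.mem_univ _) h)]
      · rw [Finset.sum_congr rfl (g := fun u => (δ : ℂ) * y o' *
          (orbChar c o' u * conj (orbChar c o' u))) fun u _ => by ring, ← Finset.mul_sum,
          orbChar_inner hab hfree', if_pos rfl]
        ring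
      · rw [Finset.sum_congr rfl (g := fun u => (δ : ℂ) * y o *
          (orbChar c o u * conj (orbChar c o' u))) fun u _ => by ring, ← Finset.mul_sum,
          orbChar_inner hab hfree', if_neg ho, mul_zero]
    rw [h2, ← Finset.mul_sum] at hz
    refine mul_left_cancel₀ he ?_
    linear_combination hz
  have hP : (Nat.card P : ℂ) ≠ 0 := Nat.cast_ne_zero.mpr Nat.card_pos.ne'
  have hconst : ∀ o o', y o = y o' := fun o o' =>
    mul_left_cancel₀ hP (mul_left_cancel₀ (left_ne_zero_of_mul_eq_one hδ2)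
      ((key o).trans (key o').symm))
  refine ⟨hconst, fun o => ?_⟩
  have h := hrel ⟨x, hx⟩ hu₀
  rw [Finset.sum_congr rfl fun o' _ => by rw [hconst o' o], ← Finset.sum_mul,
    orbChar_sum hab hfree' hu₀] at h
  linear_combination h

open Classical in
omit hab in
/-- The degree of a combination vanishing on the singular elements. -/
theorem pow_dvd_degree (a : {χ // χ ∈ B} → ℤ)
    (h0 : ∀ g : G, ¬ IsPRegular p g → ∑ i : {χ // χ ∈ B}, (a i : ℂ) * (i.1 : G → ℂ) g = 0) :
    (p : ℤ) ^ (Nat.card G).factorization p ∣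
      ∑ i : {χ // χ ∈ B}, a i * (charDegree (i.1 : G → ℂ) : ℤ) := by
  set n := (Nat.card G).factorization p
  let a' : IrrCharacter G → ℂ := fun χ => if h : χ ∈ B then (a ⟨χ, h⟩ : ℂ) else 0
  have hsum : ∀ g : G, ∑ χ : IrrCharacter G with χ ∈ B, a' χ * (χ : G → ℂ) g =
      ∑ i : {χ // χ ∈ B}, (a i : ℂ) * (i.1 : G → ℂ) g := fun g => by
    rw [← sum_members fun χ => a' χ * (χ : G → ℂ) g]
    exact Finset.sum_congr rfl fun i _ => by simp [a', i.2]
  have h := memLocalRing_div_centralizer hM (Finset.univ.filter (· ∈ B)) a' (fun χ hχ => by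
    simp only [a', dif_pos (Finset.mem_filter.mp hχ).2]; exact memLocalRing_intCast _)
    (fun g hg => (hsum g).trans (h0 g hg)) 1
  rw [hsum, show Nat.card (Subgroup.centralizer ({1} : Set G)) = Nat.card G by
    rw [Subgroup.centralizer_eq_top_iff_subset.mpr (by simp), Subgroup.card_top]] at h
  set N : ℤ := ∑ i : {χ // χ ∈ B}, a i * (charDegree (i.1 : G → ℂ) : ℤ) with hN
  rw [show ∑ i : {χ // χ ∈ B}, (a i : ℂ) * (i.1 : G → ℂ) 1 = (N : ℂ) by
    simp only [N, (irr_degree_eq _).1]; push_cast; rfl] at h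
  obtain ⟨k, hk⟩ := Nat.ordProj_dvd (Nat.card G) p
  have hk' : (Nat.card G : ℂ) = (p : ℂ) ^ n * k := by exact_mod_cast congrArg (Nat.cast (R := ℂ)) hk
  have hG0 : (Nat.card G : ℂ) ≠ 0 := Nat.cast_ne_zero.mpr Nat.card_pos.ne'
  obtain ⟨z, hz⟩ := exists_int_of_pow_mul hM (memLocalRing_mul h (memLocalRing_natCast k)) n N (by
    have h1 : (p : ℂ) ^ n * k ≠ 0 := hk' ▸ hG0
    rw [hk', show (p : ℂ) ^ n * ((N : ℂ) / ((p : ℂ) ^ n * k) * k) = ((p : ℂ) ^ n * k) *
      ((N : ℂ) / ((p : ℂ) ^ n * k)) by ring, mul_div_cancel₀ _ h1])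
  refine ⟨z, ?_⟩
  apply Int.cast_injective (α := ℂ)
  push_cast
  have h1 : (p : ℂ) ^ n * k ≠ 0 := hk' ▸ hG0
  rw [← hz, hk', show (p : ℂ) ^ n * ((N : ℂ) / ((p : ℂ) ^ n * k) * k) = ((p : ℂ) ^ n * k) *
    ((N : ℂ) / ((p : ℂ) ^ n * k)) by ring, mul_div_cancel₀ _ h1]

omit hab in
/-- Combinations with vanishing columns vanish on the singular elements. -/
theorem sum_singular_eq_zero (hab' : ∀ x ∈ P, ∀ y ∈ P, x * y = y * x) (a : {χ // χ ∈ B} → ℤ)
    (h0 : ∀ u : P, u ≠ 1 → ∑ i : {χ // χ ∈ B}, (a i : ℂ) * col p M P c (u : G) i.1 = 0) {g : G}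
    (hg : ¬ IsPRegular p g) : ∑ i : {χ // χ ∈ B}, (a i : ℂ) * (i.1 : G → ℂ) g = 0 := by
  classical
  obtain ⟨R, hR⟩ := exists_isReps (P := P) (c := c)
  obtain ⟨b, hb, -⟩ := value_span hM hmax hab' hfree hR hg
  rw [Finset.sum_congr rfl fun i _ => by rw [hb i.1 i.2, Finset.mul_sum], Finset.sum_comm]
  refine Finset.sum_eq_zero fun r hr => ?_
  rw [Finset.sum_congr rfl fun i _ => mul_left_comm _ _ _, ← Finset.mul_sum,
    h0 ⟨r, (hR.mem r hr).1⟩ (fun e => (hR.mem r hr).2 (congrArg Subtype.val e)), mul_zero]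

/-- The congruences of the degrees modulo the full power of `p`. -/
theorem IsShape.congr (S : IsShape p M P c B ω exc δ w)
    (hω : ∀ u, u ≠ 1 → ω u ≠ 0) (hP1 : P ≠ ⊥) :
    (∀ i i', (∀ o, exc o ≠ i) → (∀ o, exc o ≠ i') →
      (p : ℤ) ^ (Nat.card G).factorization p ∣
        w i * (charDegree (i.1 : G → ℂ) : ℤ) - w i' * (charDegree (i'.1 : G → ℂ) : ℤ)) ∧
    ∀ i, (∀ o, exc o ≠ i) → ∀ o, (p : ℤ) ^ (Nat.card G).factorization p ∣
      (Nat.card (Quotient (orbitSetoid (A := P) (inertAut P c))) : ℤ) *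
        (δ * (charDegree ((exc o).1 : G → ℂ) : ℤ)) + w i * (charDegree (i.1 : G → ℂ) : ℤ) := by
  classical
  refine ⟨fun i i' hi hi' => ?_, fun i hi o => ?_⟩
  · have h := pow_dvd_degree hM hmax hfree
      (fun j => (if j = i then w i else 0) - (if j = i' then w i' else 0))
      fun g hg => sum_singular_eq_zero hM hmax hfree hab _ (fun u hu => by
        refine mul_left_cancel₀ (hω u hu) ?_
        rw [mul_zero, Finset.mul_sum]
        have h1 := S.rest i hi u hu
        have h2 := S.rest i' hi' u hu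
        have hs : (w i : ℂ) * w i = (w i' : ℂ) * w i' := by
          rcases S.rest_sign i hi with e | e <;> rcases S.rest_sign i' hi' with e' | e' <;> simp [e, e']
        push_cast
        simp only [sub_mul, mul_sub, Finset.sum_sub_distrib, ite_mul, mul_ite, zero_mul, mul_zero,
          Finset.sum_ite_eq', Finset.mem_univ, if_true]
        linear_combination (w i : ℂ) * h1 - (w i' : ℂ) * h2 + hs) hg
    simpa [sub_mul, Finset.sum_sub_distrib, ite_mul] using h
  · have h := pow_dvd_degree hM hmax hfree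
      (fun j => (if j = i then w i else 0) + (if ∀ o', exc o' ≠ j then 0 else δ))
      fun g hg => sum_singular_eq_zero hM hmax hfree hab _ (fun u hu => by
        refine mul_left_cancel₀ (hω u hu) ?_
        rw [mul_zero, Finset.mul_sum]
        have h1 := S.rest i hi u hu
        have hs : (w i : ℂ) * w i = 1 := by rcases S.rest_sign i hi with e | e <;> simp [e]
        have hd : (δ : ℂ) * δ = 1 := by rcases S.sign with e | e <;> simp [e]
        have h3 := orbChar_sum hab (inertAut_free hfree) hu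
        push_cast
        simp only [add_mul, mul_add, Finset.sum_add_distrib, ite_mul, mul_ite, zero_mul, mul_zero,
          Finset.sum_ite_eq', Finset.mem_univ, if_true]
        rw [sum_split exc (fun j => if ∀ o', exc o' ≠ j then (0 : ℂ) else
            ω u * ((δ : ℂ) * col p M P c (u : G) j.1)),
          Finset.sum_eq_zero fun j hj => if_pos (Finset.mem_filter.mp hj).2, zero_add,
          Finset.sum_congr rfl (g := fun o' => orbChar c o' u) fun o' _ => by
            rw [if_neg fun h => h o' rfl]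
            linear_combination (δ : ℂ) * S.exc_val o' u hu + orbChar c o' u * hd, h3]
        linear_combination (w i : ℂ) * h1 + hs) hg
    have hsum : ∑ j : {χ // χ ∈ B}, (if ∀ o', exc o' ≠ j then (0 : ℤ) else δ) *
        (charDegree (j.1 : G → ℂ) : ℤ) =
        (Nat.card (Quotient (orbitSetoid (A := P) (inertAut P c))) : ℤ) *
          (δ * (charDegree ((exc o).1 : G → ℂ) : ℤ)) := by
      apply Int.cast_injective (α := ℂ)
      push_cast
      simp only [ite_mul, zero_mul]
      rw [sum_split exc, Finset.sum_eq_zero fun j hj => if_pos (Finset.mem_filter.mp hj).2, zero_add,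
        Finset.sum_congr rfl (g := fun _ => (δ : ℂ) * (charDegree ((exc o).1 : G → ℂ) : ℂ))
          fun o' _ => by
            rw [if_neg fun h => h o' rfl, ← (irr_degree_eq _).1, ← (irr_degree_eq _).1,
              (S.relation hM hmax hab hfree hP1 (regular_one hM)).1 o' o],
        Finset.sum_const, Finset.card_univ, nsmul_eq_mul, Nat.card_eq_fintype_card]
    simp only [add_mul, Finset.sum_add_distrib, hsum] at h
    simpa [ite_mul, add_comm] using h

end Main

end CfsgLib.Blocks.FreeQuot
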